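import Groth.Agent.Var76.BertiniAlg
import Groth.Agent.Var76.SmoothCrit
import Mathlib.RingTheory.RingHom.LocallyStandardSmooth
import Mathlib.RingTheory.Jacobson.Ring
import Mathlib.FieldTheory.IsAlgClosed.Basic

/-! When is a principal quotient of a smooth algebra smooth of one dimension less. -/

universe u

open scoped TensorProduct
open KaehlerDifferential

namespace Groth.Agent.An92.Lef

variable {k A : Type u} [Field k] [CommRing A] [Algebra k A]

theorem rankAtStalk_eq_of_locally {n : ℕ}
    (h : RingHom.Locally (RingHom.IsStandardSmoothOfRelativeDimension n) (algebraMap k A))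
    (p : PrimeSpectrum A) :
    Algebra.Smooth k A ∧ Module.rankAtStalk Ω[A⁄k] p = n := by
  have hsm : Algebra.Smooth k A := by
    rw [← RingHom.smooth_algebraMap, RingHom.smooth_iff_locally_isStandardSmooth]
    exact RingHom.locally_of_locally (fun hf => hf.isStandardSmooth) h
  refine ⟨hsm, ?_⟩
  obtain ⟨s, hs, hss⟩ := h
  obtain ⟨t, ht, htp⟩ : ∃ t ∈ s, t ∉ p.asIdeal := by
    by_contra hc
    push Not at hc
    exact p.2.ne_top (top_le_iff.1 (hs ▸ Ideal.span_le.2 hc))
  let L := Localization.Away t
  have hL : Algebra.IsStandardSmoothOfRelativeDimension n k L := by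
    have h1 := hss t ht
    rwa [← IsScalarTower.algebraMap_eq, RingHom.isStandardSmoothOfRelativeDimension_algebraMap] at h1
  have hdis : Disjoint (Submonoid.powers t : Set A) (p.asIdeal : Set A) := by
    rwa [Ideal.disjoint_powers_iff_notMem_of_isPrime]
  let q : PrimeSpectrum L := ⟨p.asIdeal.map (algebraMap A L),
    IsLocalization.isPrime_of_isPrime_disjoint (Submonoid.powers t) L p.asIdeal p.2 hdis⟩
  have : Nontrivial L := q.nontrivial
  have : Algebra.FormallyEtale A L := Algebra.FormallyEtale.of_isLocalization (Submonoid.powers t)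
  have hq : q.comap (algebraMap A L) = p :=
    PrimeSpectrum.ext (IsLocalization.comap_map_of_isPrime_disjoint (Submonoid.powers t) L p.2 hdis)
  have : Algebra.IsStandardSmooth k L := Algebra.IsStandardSmoothOfRelativeDimension.isStandardSmooth n
  conv_lhs => rw [← hq]
  rw [← Module.rankAtStalk_baseChange (S := L) q,
    Module.rankAtStalk_eq_of_equiv (tensorKaehlerEquivOfFormallyEtale k A L),
    Module.rankAtStalk_eq_finrank_of_free]
  exact Module.finrank_eq_of_rank_eq
    (Algebra.IsStandardSmoothOfRelativeDimension.rank_kaehlerDifferential n)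

theorem locally_of_rankAtStalk [Algebra.Smooth k A] {m : ℕ}
    (h : ∀ p : PrimeSpectrum A, p.asIdeal.IsMaximal → Module.rankAtStalk Ω[A⁄k] p = m) :
    RingHom.Locally (RingHom.IsStandardSmoothOfRelativeDimension m) (algebraMap k A) := by
  obtain ⟨s, hs, hss⟩ := Algebra.Smooth.exists_span_eq_top_isStandardSmooth k A
  refine ⟨{t ∈ s | ¬ IsNilpotent t}, ?_, fun t ⟨ht, htn⟩ => ?_⟩
  · rw [eq_top_iff]
    by_contra hc
    rw [top_le_iff] at hc
    obtain ⟨N, hN, hle⟩ := Ideal.exists_le_maximal _ hc
    refine hN.ne_top (top_le_iff.1 (hs ▸ Ideal.span_le.2 fun x hx => ?_))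
    by_cases hx' : IsNilpotent x
    · obtain ⟨e, he⟩ := hx'
      exact hN.isPrime.mem_of_pow_mem e (he ▸ zero_mem _)
    · exact hle (Ideal.subset_span ⟨hx, hx'⟩)
  dsimp only
  rw [← IsScalarTower.algebraMap_eq, RingHom.isStandardSmoothOfRelativeDimension_algebraMap]
  let L := Localization.Away t
  have : Algebra.IsStandardSmooth k L := hss t ht
  have : Nontrivial L := by
    refine not_subsingleton_iff_nontrivial.1 fun hsub => htn ?_
    exact (IsLocalization.subsingleton_iff (R := A) (S := L) (M := Submonoid.powers t)).1 hsub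
  have : Algebra.FormallyEtale A L := Algebra.FormallyEtale.of_isLocalization (Submonoid.powers t)
  rw [Algebra.IsStandardSmoothOfRelativeDimension.iff_of_isStandardSmooth]
  obtain ⟨q⟩ : Nonempty (PrimeSpectrum L) := inferInstance
  obtain ⟨M, hM, hqM⟩ := Ideal.exists_le_maximal _ (q.comap (algebraMap A L)).2.ne_top
  have h1 := Module.rankAtStalk_eq_of_equiv (tensorKaehlerEquivOfFormallyEtale k A L)
  have h2 : Module.rankAtStalk (R := L) Ω[L⁄k] q = m := by
    rw [← h1, Module.rankAtStalk_baseChange,
      Module.rankAtStalk_eq_of_le_of_finite_of_flat Ω[A⁄k] (q := ⟨M, hM.isPrime⟩) hqM]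
    exact h ⟨M, hM.isPrime⟩ hM
  rw [Module.rankAtStalk_eq_finrank_of_free] at h2
  rw [← Module.finrank_eq_rank]
  exact congrArg Nat.cast h2

theorem algebraMap_surjective_residueField [IsAlgClosed k] [Algebra.FiniteType k A] (M : Ideal A)
    [M.IsMaximal] : Function.Surjective (algebraMap k M.ResidueField) := by
  have : Algebra.FiniteType k (A ⧸ M) := inferInstance
  letI := Ideal.Quotient.field M
  have : Module.Finite k (A ⧸ M) := finite_of_finite_type_of_isJacobsonRing k (A ⧸ M)
  intro z
  obtain ⟨y, rfl⟩ := (Ideal.bijective_algebraMap_quotient_residueField M).2 z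
  obtain ⟨c, rfl⟩ := (IsAlgClosed.algebraMap_bijective_of_isIntegral (k := k) (K := A ⧸ M)).2 y
  exact ⟨c, IsScalarTower.algebraMap_apply k (A ⧸ M) M.ResidueField c⟩

theorem ker_baseChange_le {B : Type u} [CommRing B] (κ : Type u) [CommRing κ] [Algebra B κ]
    {M N : Type u} [AddCommGroup M] [Module B M] [AddCommGroup N] [Module B N] (g : M →ₗ[B] N) (e : M)
    (hg : Function.Surjective g) (hex : Function.Exact (Submodule.span B {e}).subtype g) :
    LinearMap.ker (g.baseChange κ) ≤ Submodule.span κ {(1 : κ) ⊗ₜ[B] e} := by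
  intro x hx
  obtain ⟨z, rfl⟩ := (lTensor_exact κ hex hg x).1 hx
  clear hx
  induction z using TensorProduct.induction_on with
  | zero => simp
  | add a b ha hb => rw [map_add]; exact add_mem ha hb
  | tmul c w =>
    obtain ⟨w, hw⟩ := w
    obtain ⟨b, rfl⟩ := Submodule.mem_span_singleton.1 hw
    rw [LinearMap.lTensor_tmul, Submodule.subtype_apply, TensorProduct.tmul_smul,
      ← algebraMap_smul κ b, show c ⊗ₜ[B] e = c • ((1 : κ) ⊗ₜ[B] e) by simp [TensorProduct.smul_tmul']]
    exact Submodule.smul_mem _ _ (Submodule.smul_mem _ _ (Submodule.subset_span rfl))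

set_option synthInstance.maxHeartbeats 80000 in
open Classical in
/-- The rank of the differentials of a smooth principal quotient. -/
theorem rankAtStalk_quotient [IsAlgClosed k] [Algebra.Smooth k A] (φ : A) (N : Ideal (A ⧸ Ideal.span {φ}))
    [N.IsMaximal] [Algebra.Smooth k (A ⧸ Ideal.span {φ})] :
    Module.rankAtStalk Ω[(A ⧸ Ideal.span {φ})⁄k] ⟨N, inferInstance⟩ +
        (if φ ∈ N.comap (Ideal.Quotient.mk _) ^ 2 then 0 else 1) =
      Module.rankAtStalk Ω[A⁄k] ⟨N.comap (Ideal.Quotient.mk _), inferInstance⟩ := by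
  set B := A ⧸ Ideal.span {φ}
  let κ := N.ResidueField
  let e : B ⊗[A] Ω[A⁄k] := 1 ⊗ₜ D k A φ
  have hsurj : Function.Surjective (algebraMap A B) := Ideal.Quotient.mk_surjective
  have hk : Function.Surjective (algebraMap k κ) := algebraMap_surjective_residueField N
  have hB : (Module.rankAtStalk Ω[A⁄k] ⟨N.comap (Ideal.Quotient.mk _), inferInstance⟩) =
      Module.finrank κ (κ ⊗[B] (B ⊗[A] Ω[A⁄k])) := by
    have := Module.rankAtStalk_baseChange (R := A) (M := Ω[A⁄k]) (S := B) ⟨N, inferInstance⟩
    rw [Module.rankAtStalk_eq] at this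
    exact this.symm
  rw [hB, Module.rankAtStalk_eq]
  let g : κ ⊗[B] (B ⊗[A] Ω[A⁄k]) →ₗ[κ] κ ⊗[B] Ω[B⁄k] := (mapBaseChange k A B).baseChange κ
  have hg : Function.Surjective g := LinearMap.lTensor_surjective κ (mapBaseChange_surjective k A B hsurj)
  have hker : LinearMap.ker g = Submodule.span κ {(1 : κ) ⊗ₜ[B] e} := by
    refine le_antisymm (fun x hx => ?_) ?_
    · have hex : Function.Exact ((Submodule.span B {e}).subtype) (mapBaseChange k A B) := by
        rw [LinearMap.exact_iff, Submodule.range_subtype]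
        refine le_antisymm (fun y hy => ?_) ?_
        · obtain ⟨z, rfl⟩ := (KaehlerDifferential.exact_kerCotangentToTensor_mapBaseChange k A B hsurj y).1 hy
          obtain ⟨⟨a, ha⟩, rfl⟩ := Ideal.toCotangent_surjective _ z
          rw [RingHom.mem_ker, Ideal.Quotient.algebraMap_eq, Ideal.Quotient.eq_zero_iff_mem,
            Ideal.mem_span_singleton'] at ha
          obtain ⟨b, rfl⟩ := ha
          rw [kerCotangentToTensor_toCotangent, Derivation.leibniz, TensorProduct.tmul_add,
            TensorProduct.tmul_smul, TensorProduct.tmul_smul, ← algebraMap_smul B b, ← algebraMap_smul B φ]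
          refine add_mem (Submodule.smul_mem _ _ (Submodule.subset_span rfl)) ?_
          rw [Ideal.Quotient.algebraMap_eq, Ideal.Quotient.eq_zero_iff_mem.2 (Ideal.mem_span_singleton_self φ), zero_smul]
          exact zero_mem _
        · rw [Submodule.span_le, Set.singleton_subset_iff, SetLike.mem_coe, LinearMap.mem_ker]
          show mapBaseChange k A B (1 ⊗ₜ D k A φ) = 0
          rw [mapBaseChange_tmul, map_D, one_smul, Ideal.Quotient.algebraMap_eq,
            Ideal.Quotient.eq_zero_iff_mem.2 (Ideal.mem_span_singleton_self φ), map_zero]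
      exact ker_baseChange_le κ (mapBaseChange k A B) e (mapBaseChange_surjective k A B hsurj)
        hex hx
    · rw [Submodule.span_le, Set.singleton_subset_iff, SetLike.mem_coe, LinearMap.mem_ker]
      show (1 : κ) ⊗ₜ[B] mapBaseChange k A B (1 ⊗ₜ D k A φ) = 0
      rw [mapBaseChange_tmul, map_D, one_smul, Ideal.Quotient.algebraMap_eq,
        Ideal.Quotient.eq_zero_iff_mem.2 (Ideal.mem_span_singleton_self φ), map_zero, TensorProduct.tmul_zero]
  have hφ : φ ∈ RingHom.ker (algebraMap A κ) := by
    rw [RingHom.mem_ker, IsScalarTower.algebraMap_apply A B κ, Ideal.Quotient.algebraMap_eq,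
      Ideal.Quotient.eq_zero_iff_mem.2 (Ideal.mem_span_singleton_self φ), map_zero]
  have hkerκ : RingHom.ker (algebraMap A κ) = N.comap (Ideal.Quotient.mk _) := by
    rw [IsScalarTower.algebraMap_eq A B κ, ← RingHom.comap_ker, Ideal.ker_algebraMap_residueField]
    rfl
  have hz : (1 : κ) ⊗ₜ[B] e = 0 ↔ φ ∈ N.comap (Ideal.Quotient.mk _) ^ 2 := by
    rw [← hkerκ, ← Var76.SmoothCrit.D_eq_zero_iff k hk hφ,
      ← LinearEquiv.map_eq_zero_iff (TensorProduct.AlgebraTensorModule.cancelBaseChange A B κ κ Ω[A⁄k])]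
    simp [e]
  have hsum := LinearMap.finrank_range_add_finrank_ker g
  rw [LinearMap.range_eq_top.2 hg, finrank_top, hker] at hsum
  refine Eq.trans ?_ hsum
  congr 1
  split_ifs with h
  · rw [hz.2 h, Submodule.span_zero_singleton, finrank_bot]
  · rw [finrank_span_singleton (fun h0 => h (hz.1 h0))]

/-- The criterion. -/
theorem locally_quotient_iff [IsAlgClosed k] {n : ℕ} (hn : 1 ≤ n)
    (hA : RingHom.Locally (RingHom.IsStandardSmoothOfRelativeDimension n) (algebraMap k A)) (φ : A) :
    RingHom.Locally (RingHom.IsStandardSmoothOfRelativeDimension (n - 1))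
        (algebraMap k (A ⧸ Ideal.span {φ})) ↔
      ∀ M : Ideal A, M.IsMaximal → φ ∈ M → φ ∉ M ^ 2 := by
  rcases subsingleton_or_nontrivial A with hA0 | hA0
  · refine ⟨fun _ M hM => absurd (Subsingleton.elim M ⊤) hM.ne_top, fun _ => ?_⟩
    refine ⟨∅, ?_, by simp⟩
    have : Subsingleton (A ⧸ Ideal.span {φ}) := inferInstance
    exact Subsingleton.elim _ _
  have hsm : Algebra.Smooth k A :=
    (rankAtStalk_eq_of_locally hA (Nonempty.some inferInstance)).1
  constructor
  · intro h M hM hφM hφ2
    have hker : RingHom.ker (Ideal.Quotient.mk (Ideal.span {φ})) ≤ M := by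
      rwa [Ideal.mk_ker, Ideal.span_le, Set.singleton_subset_iff]
    have hcm : (M.map (Ideal.Quotient.mk (Ideal.span {φ}))).comap (Ideal.Quotient.mk _) = M :=
      (Ideal.comap_map_of_surjective' _ Ideal.Quotient.mk_surjective M).trans (sup_eq_left.2 hker)
    have := Ideal.IsMaximal.map_of_surjective_of_ker_le (Ideal.Quotient.mk_surjective) hker
    set N := M.map (Ideal.Quotient.mk (Ideal.span {φ}))
    obtain ⟨hsmB, hrB⟩ := rankAtStalk_eq_of_locally h ⟨N, inferInstance⟩
    have h1 := rankAtStalk_quotient (k := k) φ N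
    rw [hrB, (rankAtStalk_eq_of_locally hA _).2, if_pos (by rw [hcm]; exact hφ2)] at h1
    omega
  · intro h
    have : Algebra.FiniteType k A := inferInstance
    have hsmB : Algebra.Smooth k (A ⧸ Ideal.span {φ}) :=
      Var76.BertiniAlg.smooth_quotient φ fun M hM hφM h0 => h M hM hφM <| by
        have hk := algebraMap_surjective_residueField (k := k) M
        have hφk : φ ∈ RingHom.ker (algebraMap A M.ResidueField) := by
          rwa [Ideal.ker_algebraMap_residueField]
        have := (Var76.SmoothCrit.D_eq_zero_iff k hk hφk).1 h0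
        rwa [Ideal.ker_algebraMap_residueField] at this
    refine locally_of_rankAtStalk fun p hp => ?_
    have := hp
    have h1 := rankAtStalk_quotient (k := k) φ p.asIdeal
    rw [(rankAtStalk_eq_of_locally hA _).2, if_neg (h _ (Ideal.comap_isMaximal_of_surjective _
      Ideal.Quotient.mk_surjective) (by rw [Ideal.mem_comap, Ideal.Quotient.eq_zero_iff_mem.2 (Ideal.mem_span_singleton_self φ)]; exact zero_mem _))] at h1
    exact Nat.eq_sub_of_add_eq h1

end Groth.Agent.An92.Lef
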