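import Groth.Agent.An92.Lef.OnePoint
import Mathlib.RingTheory.Polynomial.UniqueFactorization
import Mathlib.RingTheory.Localization.FractionRing
import Mathlib.RingTheory.Nullstellensatz

/-! Lefschetz pencils through a given transversal member. -/

universe u

open CategoryTheory CategoryTheory.Limits AlgebraicGeometry Opposite TopologicalSpace
open scoped TensorProduct nonZeroDivisors

noncomputable section

set_option backward.isDefEq.respectTransparency false

namespace Groth.Agent.An92.Lef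

open LefPen Groth.Agent.Var76

section Alg

/-- A prime of a polynomial ring meeting the constants only in zero is principal. -/
theorem prime_eq_span {R : Type u} [CommRing R] [IsDomain R] (P : Ideal (Polynomial R)) [P.IsPrime]
    (hP : ∀ x : R, Polynomial.C x ∈ P → x = 0) {g : Polynomial R} (hg : Prime g) (hgP : g ∈ P) :
    P = Ideal.span {g} := by
  let K := FractionRing R
  letI := (Polynomial.mapRingHom (algebraMap R K)).toAlgebra
  let S := R⁰.map (Polynomial.C : R →+* Polynomial R)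
  have : IsLocalization S (Polynomial K) := Polynomial.isLocalization R⁰ K
  have hdis : ∀ (Q : Ideal (Polynomial R)), Q ≤ P → Disjoint (S : Set (Polynomial R)) (Q : Set (Polynomial R)) := by
    intro Q hQ
    rw [Set.disjoint_left]
    rintro _ ⟨x, hx, rfl⟩ hxQ
    exact nonZeroDivisors.ne_zero hx (hP x (hQ hxQ))
  have hle : Ideal.span {g} ≤ P := (Ideal.span_singleton_le_iff_mem _).2 hgP
  have hgp : (Ideal.span {g}).IsPrime := (Ideal.span_singleton_prime hg.ne_zero).2 hg
  have hinj : Function.Injective (algebraMap (Polynomial R) (Polynomial K)) :=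
    Polynomial.map_injective _ (IsFractionRing.injective R K)
  have h1 := IsLocalization.isPrime_of_isPrime_disjoint S (Polynomial K) _ hgp (hdis _ hle)
  have h2 := IsLocalization.isPrime_of_isPrime_disjoint S (Polynomial K) P inferInstance (hdis P le_rfl)
  have hne : (Ideal.span {g}).map (algebraMap (Polynomial R) (Polynomial K)) ≠ ⊥ := by
    rw [Ideal.map_span, Set.image_singleton, Ne, Ideal.span_singleton_eq_bot]
    exact fun h => hg.ne_zero (hinj (h.trans (map_zero _).symm))
  have hmax := h1.isMaximal hne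
  have heq := hmax.eq_of_le h2.ne_top (Ideal.map_mono hle)
  rw [← IsLocalization.comap_map_of_isPrime_disjoint S (Polynomial K) inferInstance (hdis P le_rfl), ← heq,
    IsLocalization.comap_map_of_isPrime_disjoint S (Polynomial K) hgp (hdis _ hle)]

variable {k : Type u} [Field k] {σ : Type} [Fintype σ]

open MvPolynomial in
/-- A set without hypersurface components has, from an outside point, a projection that is not dense. -/
theorem exists_projection_eq (B : Set (σ → k)) (a : σ) (h : σ → k) (ha : h a ≠ 0)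
    (hIB : ∃ f ∈ vanishingIdeal k B, f ≠ 0)
    (hhyp : ∀ g : MvPolynomial σ k, Prime g → ¬ vanishingIdeal k B ≤ Ideal.span {g}) :
    ∃ Q : MvPolynomial σ k, Q ≠ 0 ∧ Q ∈ vanishingIdeal k B ∧ ∀ (c : σ → k) (t : k), eval (c + t • h) Q = eval c Q := by
  classical
  let τ := {β : σ // β ≠ a}
  let img : τ → MvPolynomial σ k := fun β => C (h a) * X β.1 - C (h β.1) * X a
  let fwd : MvPolynomial (Option τ) k →ₐ[k] MvPolynomial σ k := aeval fun o => o.elim (X a) img
  let bwd : MvPolynomial σ k →ₐ[k] MvPolynomial (Option τ) k := aeval fun β =>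
    if hβ : β = a then X none else C (h a)⁻¹ * (X (some ⟨β, hβ⟩) + C (h β) * X none)
  have hfb : fwd.comp bwd = AlgHom.id k _ := by
    refine algHom_ext fun β => ?_
    simp only [AlgHom.comp_apply, bwd, fwd, aeval_X, AlgHom.id_apply]
    split_ifs with hβ
    · simp [hβ]
    · simp only [map_mul, map_add, aeval_C, aeval_X, Option.elim_some, Option.elim_none, img, MvPolynomial.algebraMap_eq]
      rw [sub_add_cancel, ← mul_assoc, ← map_mul, inv_mul_cancel₀ ha, map_one, one_mul]
  have hbf : bwd.comp fwd = AlgHom.id k _ := by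
    refine algHom_ext fun o => ?_
    simp only [AlgHom.comp_apply, bwd, fwd, aeval_X, AlgHom.id_apply]
    rcases o with _ | β
    · simp
    · simp only [Option.elim_some, img, map_sub, map_mul, aeval_C, aeval_X, dif_pos, dif_neg β.2, MvPolynomial.algebraMap_eq]
      rw [← mul_assoc, ← map_mul, mul_inv_cancel₀ ha, map_one, one_mul, add_sub_cancel_right]
  let e : MvPolynomial (Option τ) k ≃ₐ[k] MvPolynomial σ k := AlgEquiv.ofAlgHom fwd bwd hfb hbf
  let opt := optionEquivLeft k τ
  let Φ : Polynomial (MvPolynomial τ k) ≃ₐ[k] MvPolynomial σ k := opt.symm.trans e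
  let J : Ideal (Polynomial (MvPolynomial τ k)) := (vanishingIdeal k B).comap Φ
  by_cases hq : ∃ q : MvPolynomial τ k, q ≠ 0 ∧ Polynomial.C q ∈ J
  · obtain ⟨q, hq0, hqJ⟩ := hq
    refine ⟨Φ (Polynomial.C q), fun h0 => hq0 ?_, hqJ, fun c t => ?_⟩
    · simpa using Φ.injective (h0.trans (map_zero Φ).symm)
    · have hΦ : Φ (Polynomial.C q) = aeval img q := by
        show (e.toAlgHom.comp opt.symm.toAlgHom) (Polynomial.C q) = _
        have : ((e.toAlgHom.comp opt.symm.toAlgHom).comp (IsScalarTower.toAlgHom k (MvPolynomial τ k) _)) = aeval img := by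
          refine algHom_ext fun β => ?_
          have h1 : opt.symm (Polynomial.C (X β)) = X (some β) := by
            rw [AlgEquiv.symm_apply_eq]; simp [opt]
          simp [h1, e, fwd, img]
        exact DFunLike.congr_fun this q
      have key : ∀ c : σ → k, eval c (aeval img q) = aeval (fun β => eval c (img β)) q := fun c => by
        rw [← aeval_eq_eval, ← AlgHom.comp_apply, comp_aeval]
      rw [hΦ, key, key]
      congr 1
      refine congrArg _ (funext fun β => ?_)
      simp only [img, map_sub, map_mul, eval_C, eval_X, Pi.add_apply, Pi.smul_apply, smul_eq_mul]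
      ring_nf
  · push Not at hq
    exfalso
    obtain ⟨P, hP, hJP, hdis⟩ := Ideal.exists_le_prime_disjoint J
      (((MvPolynomial τ k)⁰).map (Polynomial.C : MvPolynomial τ k →+* _)) (by
        rw [Set.disjoint_left]
        intro x hx hx'
        obtain ⟨q, hq', rfl⟩ := hx'
        exact hq q (nonZeroDivisors.ne_zero hq') hx)
    have hPC : ∀ x : MvPolynomial τ k, Polynomial.C x ∈ P → x = 0 := fun x hx => by
      by_contra h0
      exact Set.disjoint_left.1 hdis hx ⟨x, mem_nonZeroDivisors_of_ne_zero h0, rfl⟩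
    have hP0 : P ≠ ⊥ := by
      obtain ⟨f, hf, hf0⟩ := hIB
      intro hb
      have : Φ.symm f ∈ P := hJP (show Φ (Φ.symm f) ∈ _ by rwa [AlgEquiv.apply_symm_apply])
      rw [hb, Ideal.mem_bot] at this
      exact hf0 (Φ.symm.injective (this.trans (map_zero _).symm))
    obtain ⟨g, hgP, hg⟩ := hP.exists_mem_prime_of_ne_bot hP0
    have hPg := prime_eq_span P hPC hg hgP
    refine hhyp (Φ g) ((MulEquiv.prime_iff (Φ : Polynomial (MvPolynomial τ k) ≃* MvPolynomial σ k)).2 hg) fun f hf => ?_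
    have h1 : Φ.symm f ∈ P := hJP (show Φ (Φ.symm f) ∈ _ by rwa [AlgEquiv.apply_symm_apply])
    rw [hPg, Ideal.mem_span_singleton] at h1
    rw [Ideal.mem_span_singleton]
    simpa using map_dvd Φ h1

/-- Equations vanishing on a hypersurface are multiples of its equation. -/
theorem mem_span_of_vanish [IsAlgClosed k] {g f : MvPolynomial σ k} (hg : Prime g)
    (h : ∀ c, MvPolynomial.eval c g = 0 → MvPolynomial.eval c f = 0) : g ∣ f := by
  rw [← Ideal.mem_span_singleton]
  have hp : (Ideal.span {g}).IsPrime := (Ideal.span_singleton_prime hg.ne_zero).2 hg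
  rw [← hp.radical, ← MvPolynomial.vanishingIdeal_zeroLocus_eq_radical (K := k), MvPolynomial.mem_vanishingIdeal_iff]
  intro c hc
  rw [MvPolynomial.aeval_eq_eval]
  refine h c ?_
  have := MvPolynomial.mem_zeroLocus_iff.1 hc g (Ideal.mem_span_singleton_self g)
  rwa [MvPolynomial.aeval_eq_eval] at this

/-- Bad members on a hypersurface lie in a hypersurface of parameters, near a point. -/
theorem exists_base_local [IsAlgClosed k] {A : Type u} [CommRing A] [Algebra k A] [Algebra.FiniteType k A] [IsDomain A]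
    {ι : Type} [Fintype ι] (y : ι → A) (hy : Algebra.adjoin k (Set.range y) = ⊤) {n : ℕ}
    (hA : RingHom.Locally (RingHom.IsStandardSmoothOfRelativeDimension n) (algebraMap k A))
    (φ₀ : A) (χ₁ : A →ₐ[k] k) (h0 : χ₁ φ₀ = 0) (hnb : φ₀ ∉ RingHom.ker χ₁.toRingHom ^ 2)
    {N : ℕ} (φ : Fin N → A)
    (hT : ∀ δ : Derivation k A A, ∃ x : Fin n → Fin N → k, (∀ s, χ₁ (δ (∑ a, x s a • φ a)) = 0) ∧
      ∀ c : Fin n → k, ∑ s, c s • ∑ a, x s a • φ a ∈ RingHom.ker χ₁.toRingHom ^ 2 → c = 0) :
    ∃ (a : A) (p : MvPolynomial (Fin N) k), χ₁ a ≠ 0 ∧ p ≠ 0 ∧ ∀ (χ : A →ₐ[k] k) (c : Fin N → k) (t : k),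
      χ a ≠ 0 → χ φ₀ = 0 → χ (∑ s, c s • φ s) = 0 →
        ∑ s, c s • φ s + t • φ₀ ∈ RingHom.ker χ.toRingHom ^ 2 → MvPolynomial.eval c p = 0 := by
  classical
  let M := RingHom.ker χ₁.toRingHom
  have : M.IsMaximal := RingHom.ker_isMaximal_of_surjective _ (fun c => ⟨algebraMap k A c, χ₁.commutes c⟩)
  obtain ⟨hsm, hrk⟩ := rankAtStalk_eq_of_locally hA ⟨M, inferInstance⟩
  obtain ⟨Δ, hΔ⟩ := exists_dualDer (k := k) y hy
  obtain ⟨q₀, hq₀⟩ : ∃ q, χ₁ (Δ q φ₀) ≠ 0 := by
    by_contra hc
    push Not at hc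
    exact hnb (mem_sq_of_jets hy hΔ h0 hc)
  obtain ⟨x, hx0, hx⟩ := hT (Δ q₀)
  let row : Option ι → A →ₗ[k] A := fun q => q.elim LinearMap.id fun q =>
    (LinearMap.mulLeft k (Δ q₀ φ₀)).comp (Δ q).toLinearMap - (LinearMap.mulLeft k (Δ q φ₀)).comp (Δ q₀).toLinearMap
  have hnone : ∀ g, row none g = g := fun g => rfl
  have hsome : ∀ q g, row (some q) g = Δ q₀ φ₀ * Δ q g - Δ q φ₀ * Δ q₀ g := fun q g => rfl
  obtain ⟨ρ, J, hdet⟩ := exists_minor (fun q a => χ₁ (row q (φ a))) x (fun c hc => hx c (by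
    set g := ∑ s, c s • ∑ a, x s a • φ a with hg
    have hq : ∀ q, χ₁ (row q g) = 0 := fun q => by
      refine Eq.trans ?_ (hc q)
      simp only [hg, map_sum, map_smul, smul_eq_mul]
      simp only [mul_comm]
    have hz : χ₁ (Δ q₀ g) = 0 := by
      rw [hg, map_sum, map_sum]
      refine Finset.sum_eq_zero fun s _ => ?_
      rw [Derivation.map_smul, map_smul, hx0 s, smul_zero]
    refine mem_sq_of_jets hy hΔ ?_ fun q => ?_
    · exact (congrArg χ₁ (hnone g)).symm.trans (hq none)
    · have := hq (some q)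
      rw [hsome, map_sub, map_mul, map_mul, hz, mul_zero, sub_zero] at this
      exact (mul_eq_zero.1 this).resolve_left hq₀))
  obtain ⟨a0, ha0, v, hv⟩ := Var76.BertiniAlg.exists_generators_near (A := A) (N := Ω[A⁄k]) M
  have hn : Module.finrank M.ResidueField (M.ResidueField ⊗[A] Ω[A⁄k]) = n := by
    rw [Ideal.finrank_fiber_eq_rankAtStalk M]; exact hrk
  have hdet' : χ₁ (Matrix.of fun s t => row (ρ s) (φ (J t))).det ≠ 0 := by
    rw [AlgHom.map_det]; exact hdet
  obtain ⟨p, hp0, hp⟩ := exists_minor_elim (fun s a => row (ρ s) (φ a)) J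
    (fun h => hdet' (by rw [h, map_zero])) a0 (fun h => ha0 (h ▸ zero_mem _)) v hv φ₀
    (.inr ⟨hn.le, fun h => hnb (h ▸ zero_mem _)⟩)
  refine ⟨a0 * (Matrix.of fun s t => row (ρ s) (φ (J t))).det, p, ?_, hp0,
    fun χ c t hχa hχ0 hG hb => hp χ c hχa hχ0 fun s => ?_⟩
  · rw [map_mul]
    exact mul_ne_zero ha0 hdet'
  · have hlin : ∑ a, c a * χ (row (ρ s) (φ a)) = χ (row (ρ s) (∑ a, c a • φ a)) := by
      simp only [map_sum, map_smul, smul_eq_mul]
    rw [hlin]
    cases ρ s with
    | none => rw [hnone]; exact hG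
    | some q =>
      have h1 : ∀ q, χ (Δ q (∑ a, c a • φ a)) = - (t * χ (Δ q φ₀)) := fun q => by
        have := algHom_der_of_mem_sq hb (Δ q)
        rw [map_add, map_add, Derivation.map_smul, map_smul, smul_eq_mul] at this
        exact eq_neg_of_add_eq_zero_left this
      rw [hsome, map_sub, map_mul, map_mul, h1, h1]
      ring

end Alg

variable {k : Type u} [Field k] {r : ℕ} {X : Scheme.{u}} (i : X ⟶ CohB1.ProjSpace r k) {d : ℕ}

/-- Not transversal and without a single ordinary quadratic point. -/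
def Worse (n : ℕ) (H : Form r k d) : Prop :=
  ¬ Transversal k n 1 (secToSpec i ({H} : Set (Form r k d))) ∧ ¬ OneOrdQuad k n i H

/-- The coefficient vectors of these forms. -/
def worseSet (n : ℕ) (d : ℕ) : Set (Expo r d → k) := {c | Worse i n (ofCoeff c : Form r k d)}

section

variable [IsAlgClosed k] [IsClosedImmersion i] [IsIntegral X] {m : ℕ}
  [SmoothOfRelativeDimension (m + 1) (i ≫ CohB1.ProjSpace.toSpec r k)]

theorem Worse.smul {H : Form r k d} (h : Worse i (m + 1) H) {t : k} (ht : t ≠ 0) : Worse i (m + 1) (t • H) := by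
  obtain ⟨h1, h2⟩ := h
  refine ⟨?_, fun h => h2 ?_⟩
  · obtain ⟨v, hv⟩ := (not_transversal_iff_badAt i (Nat.le_add_left 1 m) H).1 h1
    exact (not_transversal_iff_badAt i (Nat.le_add_left 1 m) _).2 ⟨v, hv.smulForm i t⟩
  · have := oneOrdQuad_smul i (inv_ne_zero ht) h
    rwa [inv_smul_smul₀ ht] at this

theorem worse_zero : Worse i (m + 1) (0 : Form r k d) := by
  have : Smooth (i ≫ CohB1.ProjSpace.toSpec r k) := SmoothOfRelativeDimension.smooth (m + 1) _
  have h0 : ∀ j, pform i j (0 : Form r k d) = 0 := fun j => by rw [pform_eq_aeval, Submodule.coe_zero, map_zero]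
  refine ⟨?_, fun h => ?_⟩
  · obtain ⟨x⟩ : Nonempty X := inferInstance
    obtain ⟨j, hj⟩ := ProjCoord.exists_mem_U k r (i x)
    have : Nonempty (piece i j) := ⟨⟨x, hj⟩⟩
    obtain ⟨M, hM⟩ := Ideal.exists_maximal Γ(X, piece i j)
    obtain ⟨χ, -⟩ := exists_algHom_of_isMaximal i j M
    exact (not_transversal_iff i (Nat.le_add_left 1 m) _).2 ⟨j, χ, by unfold Bad; rw [h0]; exact zero_mem _⟩
  · obtain ⟨j, χ, hq, -⟩ := (oneOrdQuad_iff i _).1 h
    exact QuadAt.ne_zero (by rw [RingHom.algebraMap_toAlgebra]; exact locally_piece i j) hq (h0 j)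

theorem exists_eq_worse {H : Form r k d} (h : ¬ Worse i (m + 1) H) :
    ∃ P ∈ MvPolynomial.vanishingIdeal k (worseSet i (m + 1) d), MvPolynomial.eval (fun β => formCoeff β H) P ≠ 0 := by
  obtain ⟨g, hg, hg0, hgz⟩ : ∃ g : Form r k d → k, IsPolyFun k g ∧ g H ≠ 0 ∧ ∀ H', Worse i (m + 1) H' → g H' = 0 := by
    by_cases hT : Transversal k (m + 1) 1 (secToSpec i ({H} : Set (Form r k d)))
    · obtain ⟨g, hg, hg0, hgz⟩ := isZOpen_transversal (n := m + 1) i (Nat.le_add_left 1 m) _ hT
      exact ⟨g, hg, hg0, fun H' hH => by_contra fun h => hH.1 (hgz H' h)⟩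
    · have hO : OneOrdQuad k (m + 1) i H := by_contra fun h' => h ⟨hT, h'⟩
      obtain ⟨g, hg, hg0, hgz⟩ := exists_oneOrdQuad_nbhd i _ hO
      exact ⟨g, hg, hg0, fun H' hH => by_contra fun h => hH.2 (hgz H' hH.1 h)⟩
  obtain ⟨P, hP⟩ := exists_poly_of_isPolyFun hg
  refine ⟨P, ?_, by rw [← hP]; exact hg0⟩
  rw [MvPolynomial.mem_vanishingIdeal_iff]
  intro c hc
  rw [MvPolynomial.aeval_eq_eval, ← formEquiv_coeff (k := k) c, ← hP]
  exact hgz _ hc

/-- The worse forms contain no hypersurface as soon as one form has a single ordinary quadratic point. -/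
theorem no_hyp_of_oneOrdQuad (hd : 1 ≤ d) {H₁ : Form r k d} (hH₁ : OneOrdQuad k (m + 1) i H₁)
    (g : MvPolynomial (Expo r d) k) (hg : Prime g) :
    ¬ MvPolynomial.vanishingIdeal k (worseSet i (m + 1) d) ≤ Ideal.span {g} := by
  intro hle
  have : Smooth (i ≫ CohB1.ProjSpace.toSpec r k) := SmoothOfRelativeDimension.smooth (m + 1) _
  have hnT : ¬ Transversal k (m + 1) 1 (secToSpec i ({H₁} : Set (Form r k d))) := by
    obtain ⟨j, χ, hq, -⟩ := (oneOrdQuad_iff i _).1 hH₁
    exact (not_transversal_iff i (Nat.le_add_left 1 m) _).2 ⟨j, χ, hq.mem_sq⟩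
  obtain ⟨P, hP, hP0⟩ := exists_eq_worse i (m := m) (show ¬ Worse i (m + 1) H₁ from fun h => h.2 hH₁)
  have hg1 : MvPolynomial.eval (fun β => formCoeff β H₁) g ≠ 0 := fun h0 => by
    obtain ⟨u, rfl⟩ := Ideal.mem_span_singleton.1 (hle hP)
    exact hP0 (by rw [map_mul, h0, zero_mul])
  obtain ⟨f, hf, ⟨v, hv⟩, hfT⟩ := isGeneric_transversal (n := m + 1) i (Nat.le_add_left 1 m) hd
  obtain ⟨q, hq⟩ := exists_poly_of_isPolyFun hf
  have hq0 : q ≠ 0 := fun h0 => hv (by rw [hq, h0, map_zero])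
  obtain ⟨e, q', hq', rfl⟩ := WfDvdMonoid.max_power_factor hq0 hg.irreducible
  have hpf : ∀ p : MvPolynomial (Expo r d) k, IsPolyFun k fun H : Form r k d => MvPolynomial.eval (fun β => formCoeff β H) p :=
    fun p => isPolyFun_eval _ _
  rcases bad_irreducible (Nat.le_add_left 1 m) i hd _ _ (hpf (g ^ e)) (hpf q') (fun H hH => by
    rw [← map_mul, ← hq]
    exact by_contra fun h => hH (hfT H h)) with h | h
  · have := h H₁ hnT
    rw [map_pow] at this
    exact hg1 (eq_zero_of_pow_eq_zero this)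
  · refine hq' (Ideal.mem_span_singleton.1 (hle ?_))
    rw [MvPolynomial.mem_vanishingIdeal_iff]
    intro c hc
    rw [MvPolynomial.aeval_eq_eval, ← formEquiv_coeff (k := k) c]
    exact h _ hc.1

/-- The worse forms contain no hypersurface for a Lefschetz embedding. -/
theorem no_hyp_of_isLefschetzEmb (hL : IsLefschetzEmb k (m + 1) i d)
    (g : MvPolynomial (Expo r d) k) (hg : Prime g) :
    ¬ MvPolynomial.vanishingIdeal k (worseSet i (m + 1) d) ≤ Ideal.span {g} := by
  classical
  intro hle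
  obtain ⟨f, hf, ⟨⟨F₁, G₁⟩, hFG⟩, hfP⟩ := hL
  obtain ⟨Pf, hPf⟩ : ∃ Pf : MvPolynomial (Expo r d ⊕ Expo r d) k, ∀ FG : Form r k d × Form r k d,
      f FG = MvPolynomial.eval (Sum.elim (fun β => formCoeff β FG.1) fun β => formCoeff β FG.2) Pf := by
    have hspan : ∀ FG : Form r k d × Form r k d, FG = ∑ β : Expo r d,
        (formCoeff β FG.1 • ((monoForm (k := k) β, 0) : Form r k d × Form r k d) +
          formCoeff β FG.2 • ((0, monoForm (k := k) β) : Form r k d × Form r k d)) := fun FG => by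
      refine Prod.ext ?_ ?_ <;> simp [Prod.fst_sum, Prod.snd_sum, sum_formCoeff]
    unfold IsPolyFun at hf
    clear hfP hFG
    induction hf using Algebra.adjoin_induction with
    | mem f hf =>
      obtain ⟨l, rfl⟩ := hf
      refine ⟨∑ β : Expo r d, (MvPolynomial.C (l (monoForm β, 0)) * MvPolynomial.X (.inl β) +
        MvPolynomial.C (l (0, monoForm β)) * MvPolynomial.X (.inr β)), fun FG => ?_⟩
      show l FG = _
      conv_lhs => rw [hspan FG]
      rw [map_sum, map_sum]
      refine Finset.sum_congr rfl fun β _ => ?_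
      rw [map_add l, map_smul l, map_smul l, map_add, map_mul, map_mul, MvPolynomial.eval_C, MvPolynomial.eval_C,
        MvPolynomial.eval_X, MvPolynomial.eval_X, Sum.elim_inl, Sum.elim_inr, smul_eq_mul, smul_eq_mul]
      ring
    | algebraMap c => exact ⟨MvPolynomial.C c, fun H => by simp⟩
    | add f g _ _ hf hg =>
      obtain ⟨p, hp⟩ := hf
      obtain ⟨q, hq⟩ := hg
      exact ⟨p + q, fun H => by simp [hp, hq]⟩
    | mul f g _ _ hf hg =>
      obtain ⟨p, hp⟩ := hf
      obtain ⟨q, hq⟩ := hg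
      exact ⟨p * q, fun H => by simp [hp, hq]⟩
  let Q : MvPolynomial (Expo r d ⊕ Expo r d) k :=
    MvPolynomial.bind₁ (fun β => MvPolynomial.X (.inl β) + MvPolynomial.X (.inr β)) g -
      MvPolynomial.rename Sum.inl g
  have hQ : ∀ x y : Expo r d → k, MvPolynomial.eval (Sum.elim x y) Q =
      MvPolynomial.eval (x + y) g - MvPolynomial.eval x g := fun x y => by
    rw [map_sub, MvPolynomial.eval_rename]
    refine congrArg₂ _ ?_ rfl
    rw [MvPolynomial.eval, MvPolynomial.eval₂Hom_bind₁]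
    exact congrArg (fun w => MvPolynomial.eval₂Hom (RingHom.id k) w g) (funext fun β => by simp)
  have hQ0 : Q ≠ 0 := fun h0 => by
    refine hg.not_unit ?_
    have hconst : g = MvPolynomial.C (MvPolynomial.eval 0 g) := MvPolynomial.funext fun c => by
      have := hQ 0 c
      rw [h0, map_zero, zero_add, eq_comm, sub_eq_zero] at this
      rw [this, MvPolynomial.eval_C]
    have hne : MvPolynomial.eval 0 g ≠ 0 := fun h => hg.ne_zero (by rw [hconst, h, map_zero])
    rw [hconst]
    exact (isUnit_iff_ne_zero.2 hne).map MvPolynomial.C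
  have hPf0 : Pf ≠ 0 := fun h0 => hFG (by rw [hPf, h0, map_zero])
  obtain ⟨z, hz⟩ : ∃ z, MvPolynomial.eval z (Pf * Q) ≠ 0 := by
    by_contra hc
    push Not at hc
    exact mul_ne_zero hPf0 hQ0 (MvPolynomial.funext fun c => by rw [hc, map_zero])
  rw [map_mul, mul_ne_zero_iff] at hz
  rw [show z = Sum.elim (fun β => z (.inl β)) fun β => z (.inr β) from funext fun s => by cases s <;> rfl] at hz
  obtain ⟨hz1, hz2⟩ := hz
  rw [hQ] at hz2
  have hmem := hfP (ofCoeff fun β => z (.inl β), ofCoeff fun β => z (.inr β)) (by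
    rw [hPf]; simp only [ofCoeff, formEquiv_coeff]; exact hz1)
  obtain ⟨p, hp⟩ := exists_polynomial_along (g := fun c => MvPolynomial.eval c g) ⟨g, fun _ => rfl⟩
    (fun β => z (.inl β)) fun β => z (.inr β)
  have hpdeg : p.degree ≠ 0 := fun hd0 => by
    refine hz2 ?_
    have h0 := hp 0
    have h1 := hp 1
    rw [Polynomial.eq_C_of_degree_eq_zero hd0, Polynomial.eval_C] at h0 h1
    simp only [zero_mul, add_zero, one_mul] at h0 h1
    rw [show ((fun β => z (Sum.inl β)) + fun β => z (Sum.inr β)) = fun t => z (.inl t) + z (.inr t) from rfl, ← h1, ← h0, sub_self]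
  obtain ⟨c, hc⟩ := IsAlgClosed.exists_root p hpdeg
  have hg0 : MvPolynomial.eval (fun t => z (.inl t) + c * z (.inr t)) g = 0 := (hp c).symm.trans hc
  have hW : Worse i (m + 1) (ofCoeff fun t => z (.inl t) + c * z (.inr t)) := by
    by_contra hnW
    obtain ⟨P, hP, hP0⟩ := exists_eq_worse i hnW
    rw [ofCoeff, formEquiv_coeff] at hP0
    obtain ⟨u, rfl⟩ := Ideal.mem_span_singleton.1 (hle hP)
    exact hP0 (by rw [map_mul, hg0, zero_mul])
  have hlin : (ofCoeff fun t => z (.inl t) + c * z (.inr t)) =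
      (ofCoeff (fun β => z (.inl β)) : Form r k d) + c • ofCoeff fun β => z (.inr β) := by
    rw [ofCoeff, ofCoeff, ofCoeff, ← map_smul, ← map_add]
    rfl
  rw [hlin] at hW
  exact hW.2 (hmem.2.2.2 _ (Set.mem_union_right _ ⟨c, rfl⟩) hW.1)

/-- A generic line through a transversal form misses the worse forms. -/
theorem exists_members_eq {H₀ : Form r k d}
    (hH₀ : Transversal k (m + 1) 1 (secToSpec i ({H₀} : Set (Form r k d))))
    (hhyp : ∀ g : MvPolynomial (Expo r d) k, Prime g → ¬ MvPolynomial.vanishingIdeal k (worseSet i (m + 1) d) ≤ Ideal.span {g}) :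
    ∃ Q : MvPolynomial (Expo r d) k, Q ≠ 0 ∧ ∀ G : Form r k d, MvPolynomial.eval (fun β => formCoeff β G) Q ≠ 0 →
      LinearIndependent k ![H₀, G] ∧
      ∀ H ∈ members k H₀ G, ¬ Transversal k (m + 1) 1 (secToSpec i ({H} : Set (Form r k d))) → OneOrdQuad k (m + 1) i H := by
  classical
  have hne : H₀ ≠ 0 := fun h => (worse_zero i (m := m) (d := d)).1 (h ▸ hH₀)
  obtain ⟨a, ha⟩ : ∃ a, formCoeff a H₀ ≠ 0 := by
    by_contra hc
    push Not at hc
    exact hne (by rw [← sum_formCoeff H₀]; simp [hc])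
  obtain ⟨P, hP, hP0⟩ := exists_eq_worse i (m := m) (H := H₀) fun h => h.1 hH₀
  obtain ⟨Q, hQ0, hQB, hQt⟩ := exists_projection_eq (worseSet i (m + 1) d) a (fun β => formCoeff β H₀) ha
    ⟨P, hP, fun h => hP0 (by rw [h, map_zero])⟩ hhyp
  refine ⟨Q, hQ0, fun G hG => ?_⟩
  have key : ∀ t : k, ¬ Worse i (m + 1) (G + t • H₀) := fun t hW => by
    refine hG ?_
    rw [← hQt _ t]
    have hmem : ((fun β => formCoeff β G) + t • fun β => formCoeff β H₀) ∈ worseSet i (m + 1) d := by
      have e : ofCoeff ((fun β => formCoeff β G) + t • fun β => formCoeff β H₀) = G + t • H₀ := by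
        have h1 : ((fun β => formCoeff β G) + t • fun β => formCoeff β H₀) = formEquiv (G + t • H₀) := by
          rw [map_add, map_smul]; rfl
        rw [ofCoeff, h1, LinearEquiv.symm_apply_apply]
      rw [worseSet, Set.mem_setOf_eq, e]
      exact hW
    have h2 := (MvPolynomial.mem_vanishingIdeal_iff.1 hQB) _ hmem
    rw [MvPolynomial.aeval_eq_eval] at h2
    exact h2
  refine ⟨(LinearIndependent.pair_iff' hne).2 fun t ht => key (-t) ?_, fun H hH hT => ?_⟩
  · rw [← ht, ← add_smul, add_neg_cancel, zero_smul]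
    exact worse_zero i
  · by_contra hO
    rcases hH with hH | ⟨c, rfl⟩
    · rw [Set.mem_singleton_iff] at hH
      subst hH
      exact key 0 (by rw [zero_smul, add_zero]; exact ⟨hT, hO⟩)
    · simp only at hT hO
      by_cases hc : c = 0
      · subst hc
        rw [zero_smul, add_zero] at hT
        exact hT hH₀
      · refine key c⁻¹ ?_
        have hw := Worse.smul i (show Worse i (m + 1) (H₀ + c • G) from ⟨hT, hO⟩) (inv_ne_zero hc)
        have e : c⁻¹ • (H₀ + c • G) = G + c⁻¹ • H₀ := by rw [smul_add, inv_smul_smul₀ hc, add_comm]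
        rwa [e] at hw

omit [IsClosedImmersion i] [IsIntegral X] [SmoothOfRelativeDimension (m + 1) (i ≫ CohB1.ProjSpace.toSpec r k)] in
theorem gather {R : Type u} [CommRing R] [IsNoetherianRing R] {P σ' : Type u} {τ : Type} {ev : P → R →+* k} (a : P → R)
    (ha : ∀ χ, ev χ (a χ) ≠ 0) (p : P → MvPolynomial τ k) (hp : ∀ χ, p χ ≠ 0)
    (Bad' : σ' → P → Prop) (coef : σ' → τ → k)
    (h : ∀ χ χ' c, ev χ (a χ') ≠ 0 → Bad' c χ → MvPolynomial.eval (coef c) (p χ') = 0) :
    ∃ q : MvPolynomial τ k, q ≠ 0 ∧ ∀ χ c, Bad' c χ → MvPolynomial.eval (coef c) q = 0 := by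
  classical
  obtain ⟨T, hT⟩ : ∃ T : Finset P, ∀ χ, a χ ∈ Ideal.span (a '' T) := by
    obtain ⟨S, hS⟩ := IsNoetherian.noetherian (Ideal.span (Set.range a))
    choose T hT hT' using fun x (hx : x ∈ S) => Submodule.mem_span_finite_of_mem_span
      (show x ∈ Submodule.span R (Set.range a) from hS.le (Submodule.subset_span hx))
    choose g hg using fun x hx y (hy : y ∈ T x hx) => hT x hx hy
    refine ⟨S.attach.biUnion fun x => (T x.1 x.2).attach.image fun y => g x.1 x.2 y.1 y.2, fun χ => ?_⟩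
    refine (hS.ge.trans (Submodule.span_le.2 fun x hx => ?_)) (Ideal.subset_span ⟨χ, rfl⟩)
    refine Submodule.span_mono ?_ (hT' x hx)
    intro y hy
    exact ⟨g x hx y hy, Finset.mem_coe.2 (Finset.mem_biUnion.2 ⟨⟨x, hx⟩, Finset.mem_attach _ _,
      Finset.mem_image.2 ⟨⟨y, hy⟩, Finset.mem_attach _ _, rfl⟩⟩), hg x hx y hy⟩
  refine ⟨∏ χ ∈ T, p χ, Finset.prod_ne_zero_iff.2 fun χ _ => hp χ, fun χ c hb => ?_⟩
  obtain ⟨χ', hχ', hne'⟩ : ∃ χ' ∈ T, ev χ (a χ') ≠ 0 := by
    by_contra hc
    push Not at hc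
    have hle : Ideal.span (a '' T) ≤ RingHom.ker (ev χ) := Ideal.span_le.2 (by
      rintro _ ⟨χ', hχ', rfl⟩; exact hc χ' hχ')
    exact ha χ (hle (hT χ))
  rw [map_prod]
  exact Finset.prod_eq_zero hχ' (h χ χ' c hne' hb)

set_option maxHeartbeats 800000 in
/-- A generic form cuts a transversal base locus on a transversal section. -/
theorem exists_base_eq (hd : 1 ≤ d) {H₀ : Form r k d}
    (hH₀ : Transversal k (m + 1) 1 (secToSpec i ({H₀} : Set (Form r k d)))) :
    ∃ Q : MvPolynomial (Expo r d) k, Q ≠ 0 ∧ ∀ G : Form r k d, MvPolynomial.eval (fun β => formCoeff β G) Q ≠ 0 →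
      Transversal k (m + 1) 2 (secToSpec i {H₀, G}) := by
  classical
  have hnb : ∀ (l : Fin (r + 1)) (χ : Γ(X, piece i l) →ₐ[k] k), ¬ Bad i l χ H₀ := fun l χ hb =>
    (not_transversal_iff i (Nat.le_add_left 1 m) H₀).2 ⟨l, χ, hb⟩ hH₀
  let e := Fintype.equivFin (Expo r d)
  have hpf : ∀ (l : Fin (r + 1)) (H : Form r k d), pform i l H =
      ∑ t, formCoeff (e.symm t) H • pform i l (monoForm (k := k) (e.symm t)) := fun l H => by
    rw [pform_eq_smul_sum, ← e.symm.sum_comp]
  -- one chart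
  have hchart : ∀ l : Fin (r + 1), ∃ q : MvPolynomial (Fin (Fintype.card (Expo r d))) k, q ≠ 0 ∧
      ∀ (G : Form r k d) (χ : Γ(X, piece i l) →ₐ[k] k) (t : k), χ (pform i l H₀) = 0 → χ (pform i l G) = 0 →
        pform i l G + t • pform i l H₀ ∈ RingHom.ker χ.toRingHom ^ 2 →
          MvPolynomial.eval (fun s => formCoeff (e.symm s) G) q = 0 := by
    intro l
    let A := Γ(X, piece i l)
    have : Algebra.FiniteType k A := ⟨Subalgebra.fg_def.2 ⟨_, Set.finite_range _, adjoin_pcoord i l⟩⟩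
    have : IsNoetherianRing A := Algebra.FiniteType.isNoetherianRing k A
    let P := {χ : A →ₐ[k] k // χ (pform i l H₀) = 0}
    have hA : RingHom.Locally (RingHom.IsStandardSmoothOfRelativeDimension (m + 1)) (algebraMap k A) := by
      rw [RingHom.algebraMap_toAlgebra]; exact locally_piece i l
    have hloc : ∀ χ₁ : P, ∃ (a : A) (p : MvPolynomial (Fin (Fintype.card (Expo r d))) k), χ₁.1 a ≠ 0 ∧ p ≠ 0 ∧
        ∀ (χ : P) (G : Form r k d) (t : k), χ.1 a ≠ 0 → χ.1 (pform i l G) = 0 →
          pform i l G + t • pform i l H₀ ∈ RingHom.ker χ.1.toRingHom ^ 2 →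
            MvPolynomial.eval (fun s => formCoeff (e.symm s) G) p = 0 := by
      intro χ₁
      have hne : Nonempty (piece i l) := ⟨⟨_, ptX_mem i l χ₁.1⟩⟩
      obtain ⟨a, p, ha, hp, hp'⟩ := exists_base_local (pcoord i l) (adjoin_pcoord i l) hA (pform i l H₀) χ₁.1 χ₁.2
        (hnb l χ₁.1) (fun s => pform i l (monoForm (k := k) (e.symm s))) (fun δ => by
          let ev : Form r k d →ₗ[k] k :=
            { toFun := fun T => χ₁.1 (δ (pform i l T))
              map_add' := fun a b => by rw [pform_add, map_add, map_add]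
              map_smul' := fun t a => by rw [pform_smul, Derivation.map_smul, map_smul]; rfl }
          obtain ⟨T, hT0, hT⟩ := exists_jet_forms_vanish (n := m + 1) i χ₁.1 hd ev
          refine ⟨fun s a => formCoeff (e.symm a) (T s), fun s => ?_, fun c hc => hT c ?_⟩
          · rw [← hpf l (T s)]; exact hT0 s
          · unfold Bad
            rw [pform_sum]
            simpa only [← hpf l] using hc)
      refine ⟨a, p, ha, hp, fun χ G t hχa hG hb => hp' χ.1 _ t hχa χ.2 ?_ ?_⟩
      · rwa [← hpf l G]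
      · rwa [← hpf l G]
    choose a p ha hp hp' using hloc
    obtain ⟨q, hq0, hq⟩ := gather (k := k) (P := P) (σ' := Form r k d × k) (ev := fun χ => χ.1.toRingHom) a ha p hp
      (fun Gt χ => χ.1 (pform i l Gt.1) = 0 ∧
        pform i l Gt.1 + Gt.2 • pform i l H₀ ∈ RingHom.ker χ.1.toRingHom ^ 2)
      (fun Gt s => formCoeff (e.symm s) Gt.1) (fun χ χ' Gt hne hb => hp' χ' χ Gt.1 Gt.2 hne hb.1 hb.2)
    exact ⟨q, hq0, fun G χ t h0 hG hb => hq ⟨χ, h0⟩ (G, t) ⟨hG, hb⟩⟩
  choose q hq0 hq using hchart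
  refine ⟨MvPolynomial.rename e.symm (∏ l, q l), fun h0 => Finset.prod_ne_zero_iff.2 (fun l _ => hq0 l)
    (MvPolynomial.rename_injective _ e.symm.injective (by rw [h0, map_zero])), fun G hG => ?_⟩
  rw [MvPolynomial.eval_rename, map_prod, Finset.prod_ne_zero_iff] at hG
  have hset : ({H₀, G} : Set (Form r k d)) = Set.range ![H₀, G] := by
    simp only [Matrix.range_cons, Matrix.range_empty, Set.union_empty, Set.singleton_union]
  rw [hset, transversal_fam_iff i ![H₀, G]]
  intro l χ hχ c hc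
  have h0 : χ (pform i l H₀) = 0 := hχ 0
  have hG0 : χ (pform i l G) = 0 := hχ 1
  simp only [Fin.sum_univ_two, Matrix.cons_val_zero, Matrix.cons_val_one] at hc
  by_cases hb : c 1 = 0
  · rw [hb, zero_smul, add_zero] at hc
    have ha : c 0 = 0 := by
      by_contra ha
      refine hnb l χ ?_
      have := Ideal.mul_mem_left _ (algebraMap k _ (c 0)⁻¹) hc
      rwa [← Algebra.smul_def, inv_smul_smul₀ ha] at this
    funext t
    fin_cases t <;> [exact ha; exact hb]
  · refine absurd (hq l G χ ((c 1)⁻¹ * c 0) h0 hG0 ?_) (hG l (Finset.mem_univ l))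
    have := Ideal.mul_mem_left _ (algebraMap k _ (c 1)⁻¹) hc
    rwa [← Algebra.smul_def, smul_add, inv_smul_smul₀ hb, smul_smul, add_comm] at this

/-- Generic pencils through a transversal form are Lefschetz pencils. -/
theorem isGeneric_through (hd : 1 ≤ d) {H₀ : Form r k d}
    (hH₀ : Transversal k (m + 1) 1 (secToSpec i ({H₀} : Set (Form r k d))))
    (hhyp : ∀ g : MvPolynomial (Expo r d) k, Prime g → ¬ MvPolynomial.vanishingIdeal k (worseSet i (m + 1) d) ≤ Ideal.span {g}) :
    IsGeneric k {G : Form r k d | IsLefschetzPencil k (m + 1) i d H₀ G} := by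
  classical
  obtain ⟨Q₁, hQ₁, h₁⟩ := exists_members_eq i hH₀ hhyp
  obtain ⟨Q₂, hQ₂, h₂⟩ := exists_base_eq i hd hH₀
  refine ⟨fun G => MvPolynomial.eval (fun β => formCoeff β G) (Q₁ * Q₂), isPolyFun_eval _ _,
    exists_eval_ne_zero (mul_ne_zero hQ₁ hQ₂), fun G hG => ?_⟩
  simp only [map_mul, mul_ne_zero_iff] at hG
  obtain ⟨hind, hmem⟩ := h₁ G hG.1
  refine ⟨hind, h₂ G hG.2, ?_, hmem⟩
  obtain ⟨g, hg, hg0, hgz⟩ := isZOpen_transversal (n := m + 1) i (Nat.le_add_left 1 m) _ hH₀
  obtain ⟨p, hp⟩ := exists_polynomial_along (polyFn_of_isPolyFun hg) (fun β => formCoeff β H₀) fun β => formCoeff β G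
  have hlin : ∀ c : k, ofCoeff (fun β => formCoeff β H₀ + c * formCoeff β G) = H₀ + c • G := fun c => by
    simpa [one_mul] using ofCoeff_comb H₀ G 1 c
  simp only [hlin] at hp
  have hp0 : p ≠ 0 := fun h => hg0 (by
    have := hp 0
    rw [zero_smul, add_zero, h, Polynomial.eval_zero] at this
    exact this.symm)
  refine (Polynomial.finite_setOf_isRoot hp0).subset fun c hc => ?_
  by_contra hne'
  exact hc (hgz _ (by rw [← hp]; exact hne'))

/-- In degree at least two every embedding is a Lefschetz embedding. -/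
theorem isLefschetzEmb_of_two_le (hd : 2 ≤ d) : IsLefschetzEmb k (m + 1) i d := by
  obtain ⟨H₁, hH₁⟩ := exists_oneOrdQuad i (m := m) hd
  obtain ⟨f, -, ⟨H₀, hf0⟩, hf⟩ := isGeneric_transversal (n := m + 1) i (Nat.le_add_left 1 m) (d := d) (by omega)
  obtain ⟨f', -, ⟨G₀, hG₀⟩, hf'⟩ := isGeneric_through i (by omega : 1 ≤ d) (hf H₀ hf0)
    (fun g hg => no_hyp_of_oneOrdQuad i (by omega) hH₁ g hg)
  obtain ⟨P, hP, hP0, hPS⟩ := isZOpen_isLefschetzPencil i (m := m) (d := d) (H₀, G₀) (hf' G₀ hG₀)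
  exact ⟨P, hP, ⟨_, hP0⟩, hPS⟩

end

end Groth.Agent.An92.Lef
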