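import Groth.Agent.An92.Lef.Char0Alg
import Groth.Agent.An92.Lef.Through

/-! In characteristic zero hyperplane sections already give Lefschetz pencils. -/

universe u

open CategoryTheory CategoryTheory.Limits AlgebraicGeometry Opposite TopologicalSpace
open scoped TensorProduct

noncomputable section

set_option backward.isDefEq.respectTransparency false

namespace Groth.Agent.An92.Lef

open LefPen Groth.Agent.Var76

section Alg

variable {k A : Type u} [Field k] [CommRing A] [Algebra k A] {ι : Type} [Fintype ι]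

/-- The point derivation with given components. -/
def pder (Δ : ι → Derivation k A A) (χ : A →ₐ[k] k) (δ : ι → k) : A →ₗ[k] k :=
  ∑ l, δ l • χ.toLinearMap.comp (Δ l).toLinearMap

theorem pder_apply (Δ : ι → Derivation k A A) (χ : A →ₐ[k] k) (δ : ι → k) (a : A) :
    pder Δ χ δ a = ∑ l, δ l * χ (Δ l a) := by
  simp [pder, LinearMap.sum_apply]

theorem pder_mul (Δ : ι → Derivation k A A) (χ : A →ₐ[k] k) (δ : ι → k) (a b : A) :
    pder Δ χ δ (a * b) = χ a * pder Δ χ δ b + χ b * pder Δ χ δ a := by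
  simp only [pder_apply, Derivation.leibniz, smul_eq_mul, map_add, map_mul, Finset.mul_sum, ← Finset.sum_add_distrib]
  exact Finset.sum_congr rfl fun l _ => by ring

theorem pder_algebraMap (Δ : ι → Derivation k A A) (χ : A →ₐ[k] k) (δ : ι → k) (c : k) :
    pder Δ χ δ (algebraMap k A c) = 0 := by
  simp [pder_apply]

/-- The dual number point of a point derivation. -/
def dualPt (Δ : ι → Derivation k A A) (χ : A →ₐ[k] k) (δ : ι → k) : A →ₐ[k] DualNumber k where
  toFun a := TrivSqZeroExt.inl (χ a) + TrivSqZeroExt.inr (pder Δ χ δ a)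
  map_one' := by
    have : pder Δ χ δ (1 : A) = 0 := by rw [← map_one (algebraMap k A), pder_algebraMap]
    rw [this, map_one]; simp
  map_zero' := by simp
  map_mul' a b := by
    refine TrivSqZeroExt.ext ?_ ?_
    · simp
    · simp [pder_mul, mul_comm (χ b)]
  map_add' a b := by
    refine TrivSqZeroExt.ext ?_ ?_ <;> simp
  commutes' c := by simp [pder_algebraMap, TrivSqZeroExt.algebraMap_eq_inl]

theorem dualPt_sum {N : ℕ} (Δ : ι → Derivation k A A) (χ : A →ₐ[k] k) (δ : ι → k) (R : A →ₗ[k] A) (φ : Fin N → A)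
    (c G : Fin N → k) :
    ∑ j, (TrivSqZeroExt.inl (c j) + TrivSqZeroExt.inr (G j)) * dualPt Δ χ δ (R (φ j)) =
      TrivSqZeroExt.inl (χ (R (∑ s, c s • φ s))) +
        TrivSqZeroExt.inr (pder Δ χ δ (R (∑ s, c s • φ s)) + χ (R (∑ s, G s • φ s))) := by
  refine TrivSqZeroExt.ext ?_ ?_
  · simp [TrivSqZeroExt.fst_sum, dualPt, map_sum]
  · simp [TrivSqZeroExt.snd_sum, dualPt, map_sum, Finset.sum_add_distrib, mul_comm]

theorem fst_dualPt (Δ : ι → Derivation k A A) (χ : A →ₐ[k] k) (δ : ι → k) (x : A) :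
    TrivSqZeroExt.fst (dualPt Δ χ δ x) = χ x := by simp [dualPt]

theorem snd_dualPt (Δ : ι → Derivation k A A) (χ : A →ₐ[k] k) (δ : ι → k) (x : A) :
    TrivSqZeroExt.snd (dualPt Δ χ δ x) = pder Δ χ δ x := by simp [dualPt]

theorem pder_eq_zero_of_mem_sq (Δ : ι → Derivation k A A) (χ : A →ₐ[k] k) (δ : ι → k) {a : A}
    (ha : a ∈ RingHom.ker χ.toRingHom ^ 2) : pder Δ χ δ a = 0 := by
  rw [pder_apply]
  exact Finset.sum_eq_zero fun l _ => by rw [algHom_der_of_mem_sq ha, mul_zero]

variable {y : ι → A} (hy : Algebra.adjoin k (Set.range y) = ⊤) {Δ : ι → Derivation k A A}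
  (hΔ : ∀ f, KaehlerDifferential.D k A f = ∑ l, Δ l f • KaehlerDifferential.D k A (y l))
include hy hΔ

theorem pder_eq_sum (χ : A →ₐ[k] k) (δ : ι → k) (a : A) :
    pder Δ χ δ a = ∑ l, χ (Δ l a) * pder Δ χ δ (y l) := by
  obtain ⟨G, hG⟩ := exists_second y hy Δ hΔ a
  have hs := congrArg (fun b => pder Δ χ δ (sliceMap χ b)) hG
  have hη : ∀ l, χ (sliceMap χ (dz (k := k) (y l))) = 0 := fun l => by
    rw [sliceMap_dz, map_sub, χ.commutes]; simp
  simp only [map_sub, map_sum, map_mul, pder_mul, hη, mul_zero, zero_mul, add_zero, Finset.sum_const_zero] at hs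
  have h1 : ∀ b : A, sliceMap χ (b ⊗ₜ[k] (1 : A)) = algebraMap k A (χ b) := fun b => by simp [sliceMap]
  have h2 : pder Δ χ δ (sliceMap χ (dz a)) = pder Δ χ δ a := by
    rw [sliceMap_dz, map_sub, pder_algebraMap, sub_zero]
  simp only [h2, h1, χ.commutes, sliceMap_dz, map_sub, pder_algebraMap, sub_zero, sub_eq_zero] at hs
  simpa using hs

/-- A derivation killing the parameters at the point acts trivially on the square of its ideal. -/
theorem pder_der_eq_zero {n : ℕ} {χ : A →ₐ[k] k} {u : Fin n → A} (hu : ∀ l, u l ∈ RingHom.ker χ.toRingHom)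
    (hspan : ∀ a ∈ RingHom.ker χ.toRingHom, ∃ c : Fin n → k, a - ∑ l, c l • u l ∈ RingHom.ker χ.toRingHom ^ 2)
    (Z : Derivation k A A) (hZ : ∀ b, χ (Z (u b)) = 0) :
    (∀ a, χ (Z a) = 0) ∧ ∀ (δ : ι → k) φ, φ ∈ RingHom.ker χ.toRingHom ^ 2 → pder Δ χ δ (Z φ) = 0 := by
  have h1 : ∀ a, χ (Z a) = 0 := fun a => by
    obtain ⟨c, hc⟩ := hspan (a - algebraMap k A (χ a)) (by
      show χ (a - algebraMap k A (χ a)) = 0
      rw [map_sub, χ.commutes]; simp)
    have := algHom_der_of_mem_sq hc Z
    simpa [map_sub, map_sum, Derivation.map_smul, hZ] using this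
  refine ⟨h1, fun δ φ hφ => ?_⟩
  rw [pow_two] at hφ
  refine Submodule.mul_induction_on hφ (fun a ha b hb => ?_) (fun a b ha hb => by rw [map_add, map_add, ha, hb, add_zero])
  rw [Derivation.leibniz, map_add, smul_eq_mul, smul_eq_mul, pder_mul, pder_mul, h1, h1,
    show χ a = 0 from ha, show χ b = 0 from hb]
  ring

variable {m n : ℕ} {f : Fin m → A} (S : DiagData (k := k) y f) (hS : S.Δ = Δ)
include hS

theorem pder_G1 (χ : A →ₐ[k] k) (c : Fin m → k) (δ : ι → k) (q : ι) :
    pder Δ χ δ (Δ q (∑ e, c e • f e)) =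
      ∑ l, (∑ e, c e * evalPair χ χ (S.G1 q e l)) * pder Δ χ δ (y l) := by
  have key : ∀ e, pder Δ χ δ (Δ q (f e)) = ∑ l, evalPair χ χ (S.G1 q e l) * pder Δ χ δ (y l) := fun e => by
    have hs := congrArg (fun b => pder Δ χ δ (sliceMap χ b)) (S.eq1 q e)
    have hη : ∀ l, χ (sliceMap χ (dz (k := k) (y l))) = 0 := fun l => by
      rw [sliceMap_dz, map_sub, χ.commutes]; simp
    simp only [map_sum, map_mul, pder_mul, hη, zero_mul, add_zero, algHom_sliceMap] at hs
    subst hS
    simpa only [sliceMap_dz, map_sub, pder_algebraMap, sub_zero] using hs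
  simp only [map_sum, Derivation.map_smul, map_smul, smul_eq_mul, key, Finset.mul_sum, Finset.sum_mul, ← mul_assoc]
  exact Finset.sum_comm

/-- In characteristic zero the quadratic equation follows from the linear ones. -/
theorem pder_G2 (χ : A →ₐ[k] k) (c : Fin m → k) (δ : ι → k)
    (hb : ∑ e, c e • f e ∈ RingHom.ker χ.toRingHom ^ 2) (hfix : ∀ l, pder Δ χ δ (y l) = δ l) :
    ∑ q, δ q * pder Δ χ δ (Δ q (∑ e, c e • f e)) =
      2 * ∑ a, ∑ b, (∑ e, c e * evalPair χ χ (S.G2 e a b)) * (δ a * δ b) := by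
  classical
  let η : ι → A := fun l => sliceMap χ (dz (k := k) (y l))
  have hη : ∀ l, χ (η l) = 0 := fun l => by
    show χ (sliceMap χ (dz (y l))) = 0
    rw [sliceMap_dz, map_sub, χ.commutes]; simp
  have hηd : ∀ (Z : Derivation k A A) l, Z (η l) = Z (y l) := fun Z l => by
    show Z (sliceMap χ (dz (y l))) = _
    rw [sliceMap_dz, map_sub, Derivation.map_algebraMap, sub_zero]
  have hηe : ∀ l, pder Δ χ δ (η l) = δ l := fun l => by
    show pder Δ χ δ (sliceMap χ (dz (y l))) = _
    rw [sliceMap_dz, map_sub, pder_algebraMap, sub_zero, hfix]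
  let E : Derivation k A A := ∑ q, δ q • Δ q
  have hEapp : ∀ a, E a = ∑ q, δ q • Δ q a := fun a => by
    show (∑ q, δ q • Δ q : Derivation k A A) a = _
    rw [← Derivation.coeFnAddMonoidHom_apply, map_sum, Finset.sum_apply]
    rfl
  have hχE : ∀ a, χ (E a) = pder Δ χ δ a := fun a => by
    rw [hEapp, map_sum, pder_apply]; simp
  have h1 : ∀ a, sliceMap χ (a ⊗ₜ[k] (1 : A)) = algebraMap k A (χ a) := fun a => by simp [sliceMap]
  have hφ : ∑ e, c e • f e = ∑ e, c e • ∑ a, ∑ b, sliceMap χ (S.G2 e a b) * (η a * η b) := by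
    have hs : ∀ e, f e - algebraMap k A (χ (f e)) - ∑ l, algebraMap k A (χ (S.Δ l (f e))) * η l =
        ∑ a, ∑ b, sliceMap χ (S.G2 e a b) * (η a * η b) := fun e => by
      have := congrArg (sliceMap χ) (S.eq2 e)
      simpa only [map_sub, map_sum, map_mul, h1, η, sliceMap_dz] using this
    have e1 : ∑ e, c e • algebraMap k A (χ (f e)) = 0 := by
      have h0 : χ (∑ e, c e • f e) = 0 := Ideal.pow_le_self two_ne_zero hb
      simp only [map_sum, map_smul, smul_eq_mul] at h0
      simp only [Algebra.smul_def, ← map_mul, ← map_sum, h0, map_zero]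
    have e2 : ∑ e, c e • ∑ l, algebraMap k A (χ (S.Δ l (f e))) * η l = 0 := by
      simp only [Algebra.smul_def, Finset.mul_sum, ← mul_assoc, ← map_mul]
      rw [Finset.sum_comm]
      refine Finset.sum_eq_zero fun l _ => ?_
      have h0 := algHom_der_of_mem_sq hb (S.Δ l)
      simp only [map_sum, Derivation.map_smul, map_smul, smul_eq_mul] at h0
      rw [← Finset.sum_mul, ← map_sum, h0, map_zero, zero_mul]
    simp only [← hs, smul_sub, Finset.sum_sub_distrib, e1, e2, sub_zero]
  have hterm : ∀ (s : A) a b, pder Δ χ δ (E (s * (η a * η b))) = 2 * χ s * (δ a * δ b) := fun s a b => by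
    simp only [Derivation.leibniz, smul_eq_mul, map_add, pder_mul, map_mul, hη, hηd, hηe, hχE, hfix,
      mul_zero, zero_mul, add_zero, zero_add]
    ring
  calc ∑ q, δ q * pder Δ χ δ (Δ q (∑ e, c e • f e)) = pder Δ χ δ (E (∑ e, c e • f e)) := by
        rw [hEapp, map_sum]; simp
    _ = ∑ e, c e * ∑ a, ∑ b, 2 * evalPair χ χ (S.G2 e a b) * (δ a * δ b) := by
        rw [hφ]
        simp only [map_sum, Derivation.map_smul, map_smul, smul_eq_mul, hterm, algHom_sliceMap]
    _ = _ := by
        simp only [Finset.mul_sum, Finset.sum_mul]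
        rw [Finset.sum_comm]
        refine Finset.sum_congr rfl fun a _ => ?_
        rw [Finset.sum_comm]
        exact Finset.sum_congr rfl fun b _ => Finset.sum_congr rfl fun e _ => by ring

/-- The differential of a tangency family at an ordinary quadratic point reaches every form vanishing there. -/
theorem exists_tangent [CharZero k]
    (hA : RingHom.Locally (RingHom.IsStandardSmoothOfRelativeDimension n) (algebraMap k A))
    (χ : A →ₐ[k] k) (c : Fin m → k) (hb : ∑ e, c e • f e ∈ RingHom.ker χ.toRingHom ^ 2)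
    (hq : QuadAt n χ (∑ e, c e • f e)) (w : A) (hw : χ w = 0) :
    ∃ δ : ι → k, ∀ q, pder Δ χ δ (Δ q (∑ e, c e • f e)) + χ (Δ q w) = 0 := by
  classical
  obtain ⟨u, hu⟩ := exists_params hA χ
  set φ := ∑ e, c e • f e
  let U : (Fin n → k) →ₗ[k] (ι → k) := Fintype.linearCombination k fun b l => χ (Δ l (u b))
  have hU : ∀ z l, U z l = ∑ b, z b * χ (Δ l (u b)) := fun z l => by
    simp [U, Fintype.linearCombination_apply, Finset.sum_apply]
  have hUker : LinearMap.ker U = ⊥ := by
    rw [LinearMap.ker_eq_bot']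
    intro z hz
    refine hu.indep z (mem_sq_of_jets hy hΔ ?_ fun l => ?_)
    · simp [map_sum, show ∀ b, χ (u b) = 0 from hu.mem]
    · have := congrFun hz l
      rw [hU] at this
      simpa [map_sum, Derivation.map_smul] using this
  obtain ⟨V, hV⟩ := U.exists_leftInverse_of_injective hUker
  let α : Fin n → ι → k := fun a l => V (Pi.single l 1) a
  have hVx : ∀ x a, V x a = ∑ l, x l * α a l := fun x a => by
    conv_lhs => rw [pi_eq_sum_univ' x, map_sum, Finset.sum_apply]
    exact Finset.sum_congr rfl fun l _ => by simp [α]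
  have hdual : ∀ a b, ∑ l, α a l * χ (Δ l (u b)) = if a = b then 1 else 0 := by
    intro a b
    have := congrFun (LinearMap.congr_fun hV (Pi.single b 1)) a
    rw [LinearMap.comp_apply, hVx, LinearMap.id_apply, Pi.single_apply] at this
    rw [← this]
    refine Finset.sum_congr rfl fun l _ => ?_
    rw [hU, Finset.sum_eq_single b (fun x _ hx => by simp [Pi.single_eq_of_ne hx]) (by simp)]
    simp [mul_comm]
  let Δ' : Fin n → Derivation k A A := fun a => ∑ l, α a l • Δ l
  have hΔ' : ∀ a x, Δ' a x = ∑ l, α a l • Δ l x := fun a x => by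
    show (∑ l, α a l • Δ l : Derivation k A A) x = _
    rw [← Derivation.coeFnAddMonoidHom_apply, map_sum, Finset.sum_apply]
    rfl
  let Z : ι → Derivation k A A := fun q => Δ q - ∑ b, χ (Δ q (u b)) • Δ' b
  have hZ : ∀ q x, Z q x = Δ q x - ∑ b, χ (Δ q (u b)) • Δ' b x := fun q x => by
    show (Δ q - ∑ b, χ (Δ q (u b)) • Δ' b : Derivation k A A) x = _
    rw [Derivation.sub_apply]
    refine congrArg _ ?_
    rw [← Derivation.coeFnAddMonoidHom_apply, map_sum, Finset.sum_apply]
    rfl
  have hZu : ∀ q b, χ (Z q (u b)) = 0 := fun q b => by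
    simp [hZ, hΔ', map_sum, hdual]
  have hZ0 := fun q => pder_der_eq_zero hy hΔ hu.mem (hu.span hA) (Z q) (hZu q)
  have hred : ∀ δ q, pder Δ χ δ (Δ q φ) = ∑ b, χ (Δ q (u b)) * pder Δ χ δ (Δ' b φ) := fun δ q => by
    have := (hZ0 q).2 δ φ hb
    simp only [hZ, map_sub, sub_eq_zero, map_sum, map_smul, smul_eq_mul] at this
    exact this
  have hred1 : ∀ q, χ (Δ q w) = ∑ b, χ (Δ q (u b)) * χ (Δ' b w) := fun q => by
    have := (hZ0 q).1 w
    rwa [hZ, map_sub, sub_eq_zero, map_sum, Finset.sum_congr rfl fun b _ => (map_smul χ _ _).trans (smul_eq_mul _ _)] at this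
  let δv : (Fin n → k) →ₗ[k] (ι → k) := Fintype.linearCombination k α
  have hδv : ∀ z l, δv z l = ∑ a, z a * α a l := fun z l => by
    simp [δv, Fintype.linearCombination_apply, Finset.sum_apply]
  let Hs : (Fin n → k) →ₗ[k] (Fin n → k) :=
    { toFun := fun z b => pder Δ χ (δv z) (Δ' b φ)
      map_add' := fun z z' => funext fun b => by simp [pder_apply, add_mul, Finset.sum_add_distrib]
      map_smul' := fun t z => funext fun b => by simp [pder_apply, Finset.mul_sum, mul_assoc] }
  have hinj : Function.Injective Hs := by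
    refine (injective_iff_map_eq_zero Hs).2 fun z hz => ?_
    let δ' : ι → k := fun l => pder Δ χ (δv z) (y l)
    have he : ∀ a, pder Δ χ δ' a = pder Δ χ (δv z) a := fun a => by
      rw [pder_eq_sum hy hΔ χ (δv z) a, pder_apply]
      exact Finset.sum_congr rfl fun l _ => mul_comm _ _
    have hM : ∀ q, pder Δ χ δ' (Δ q φ) = 0 := fun q => by
      rw [he, hred]
      exact Finset.sum_eq_zero fun b _ => by
        rw [show pder Δ χ (δv z) (Δ' b φ) = 0 from congrFun hz b, mul_zero]
    have hfix : ∀ l, pder Δ χ δ' (y l) = δ' l := fun l => he _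
    have hsol : δ' = 0 := by
      refine (S.quadAt_iff hy hA c χ hb).1 hq δ' ⟨fun l => ?_, fun q => ?_, ?_⟩
      · rw [← hfix l, pder_apply]
        simp [DiagData.tMat, hS, mul_comm]
      · have := hM q
        rw [pder_G1 hy hΔ S hS] at this
        exact (Finset.sum_congr rfl fun l _ => by rw [hfix l]).trans this
      · have h2 := pder_G2 hy hΔ S hS χ c δ' hb hfix
        exact (mul_eq_zero.1 (h2.symm.trans (Finset.sum_eq_zero fun q _ => mul_eq_zero_of_right _ (hM q)))).resolve_left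
          two_ne_zero
    funext a
    have hza : pder Δ χ (δv z) (u a) = z a := by
      simp only [pder_apply, hδv, Finset.sum_mul, mul_assoc]
      rw [Finset.sum_comm]
      simp only [← Finset.mul_sum, hdual, mul_ite, mul_one, mul_zero, Finset.sum_ite_eq', Finset.mem_univ, if_true]
    rw [← hza, ← he, hsol]
    simp [pder_apply]
  obtain ⟨z, hz⟩ := LinearMap.injective_iff_surjective.1 hinj fun b => - χ (Δ' b w)
  refine ⟨δv z, fun q => ?_⟩
  rw [hred, hred1, ← Finset.sum_add_distrib]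
  refine Finset.sum_eq_zero fun b _ => ?_
  rw [show pder Δ χ (δv z) (Δ' b φ) = - χ (Δ' b w) from congrFun hz b]
  ring

end Alg

theorem gather_prime {k : Type u} [Field k] {R : Type u} [CommRing R] [IsNoetherianRing R] {P σ' : Type u}
    {τ : Type} {ev : P → R →+* k} {g : MvPolynomial τ k} (hg : Prime g) (a : P → R)
    (ha : ∀ χ, ev χ (a χ) ≠ 0) (p : P → MvPolynomial τ k) (hp : ∀ χ, ¬ g ∣ p χ)
    (Bad' : σ' → P → Prop) (coef : σ' → τ → k)
    (h : ∀ χ χ' c, ev χ (a χ') ≠ 0 → Bad' c χ → MvPolynomial.eval (coef c) (p χ') = 0) :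
    ∃ q : MvPolynomial τ k, ¬ g ∣ q ∧ ∀ χ c, Bad' c χ → MvPolynomial.eval (coef c) q = 0 := by
  classical
  obtain ⟨T, hT⟩ : ∃ T : Finset P, ∀ χ, a χ ∈ Ideal.span (a '' T) := by
    obtain ⟨S, hS⟩ := IsNoetherian.noetherian (Ideal.span (Set.range a))
    choose T hT hT' using fun x (hx : x ∈ S) => Submodule.mem_span_finite_of_mem_span
      (show x ∈ Submodule.span R (Set.range a) from hS.le (Submodule.subset_span hx))
    choose g hg using fun x hx y (hy : y ∈ T x hx) => hT x hx hy
    refine ⟨S.attach.biUnion fun x => (T x.1 x.2).attach.image fun y => g x.1 x.2 y.1 y.2, fun χ => ?_⟩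
    refine (hS.ge.trans (Submodule.span_le.2 fun x hx => ?_)) (Ideal.subset_span ⟨χ, rfl⟩)
    refine Submodule.span_mono ?_ (hT' x hx)
    intro y hy
    exact ⟨g x hx y hy, Finset.mem_coe.2 (Finset.mem_biUnion.2 ⟨⟨x, hx⟩, Finset.mem_attach _ _,
      Finset.mem_image.2 ⟨⟨y, hy⟩, Finset.mem_attach _ _, rfl⟩⟩), hg x hx y hy⟩
  refine ⟨∏ χ ∈ T, p χ, fun hd => ?_, fun χ c hb => ?_⟩
  · obtain ⟨χ, -, hχ⟩ := hg.exists_mem_finset_dvd hd
    exact hp χ hχ
  obtain ⟨χ', hχ', hne'⟩ : ∃ χ' ∈ T, ev χ (a χ') ≠ 0 := by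
    by_contra hc
    push Not at hc
    have hle : Ideal.span (a '' T) ≤ RingHom.ker (ev χ) := Ideal.span_le.2 (by
      rintro _ ⟨χ', hχ', rfl⟩; exact hc χ' hχ')
    exact ha χ (hle (hT χ))
  rw [map_prod]
  exact Finset.prod_eq_zero hχ' (h χ χ' c hne' hb)

variable {k : Type u} [Field k] {r : ℕ} {X : Scheme.{u}} (i : X ⟶ CohB1.ProjSpace r k)
  [IsAlgClosed k] [CharZero k] [IsClosedImmersion i] [IsIntegral X] {m : ℕ}
  [SmoothOfRelativeDimension (m + 1) (i ≫ CohB1.ProjSpace.toSpec r k)]

set_option maxHeartbeats 1600000 in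
/-- Over a chart: on a hypersurface of singular forms, outside a proper subset every singular point is an
ordinary quadratic one and the tangent hyperplane is given by evaluation there. -/
theorem exists_chart_good (l : Fin (r + 1)) {g : MvPolynomial (Fin (Fintype.card (Expo r 1))) k} (hg : Prime g)
    (hgv : ∀ H : Form r k 1, ¬ Transversal k (m + 1) 1 (secToSpec i ({H} : Set (Form r k 1))) →
      MvPolynomial.eval (fun s => formCoeff ((Fintype.equivFin (Expo r 1)).symm s) H) g = 0) :
    ∃ q : MvPolynomial (Fin (Fintype.card (Expo r 1))) k, ¬ g ∣ q ∧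
      ∀ (χ : Γ(X, piece i l) →ₐ[k] k) (H : Form r k 1), Bad i l χ H →
        MvPolynomial.eval (fun s => formCoeff ((Fintype.equivFin (Expo r 1)).symm s) H) q ≠ 0 →
          QuadAt (m + 1) χ (pform i l H) ∧ ∀ G : Form r k 1, χ (pform i l G) = 0 →
            ∑ s, formCoeff ((Fintype.equivFin (Expo r 1)).symm s) G *
              MvPolynomial.eval (fun s => formCoeff ((Fintype.equivFin (Expo r 1)).symm s) H)
                (MvPolynomial.pderiv s g) = 0 := by
  classical
  let e := Fintype.equivFin (Expo r 1)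
  let N := Fintype.card (Expo r 1)
  let co : Form r k 1 → Fin N → k := fun H s => formCoeff (e.symm s) H
  have hA : RingHom.Locally (RingHom.IsStandardSmoothOfRelativeDimension (m + 1)) (algebraMap k Γ(X, piece i l)) := by
    rw [RingHom.algebraMap_toAlgebra]; exact locally_piece i l
  have : Algebra.FiniteType k Γ(X, piece i l) := ⟨Subalgebra.fg_def.2 ⟨_, Set.finite_range _, adjoin_pcoord i l⟩⟩
  have : IsNoetherianRing Γ(X, piece i l) := Algebra.FiniteType.isNoetherianRing k _
  let φ : Fin N → Γ(X, piece i l) := fun s => pform i l (monoForm (k := k) (e.symm s))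
  have hpf : ∀ H : Form r k 1, pform i l H = ∑ s, co H s • φ s := fun H => by
    rw [pform_eq_smul_sum, ← e.symm.sum_comp]
  let P := Γ(X, piece i l) →ₐ[k] k
  have hloc : ∀ χ₁ : P, ∃ (a : Γ(X, piece i l)) (q : MvPolynomial (Fin N) k), χ₁ a ≠ 0 ∧ ¬ g ∣ q ∧
      ∀ (χ : P) (H : Form r k 1), χ a ≠ 0 → Bad i l χ H → MvPolynomial.eval (co H) q ≠ 0 →
          QuadAt (m + 1) χ (pform i l H) ∧ ∀ G : Form r k 1, χ (pform i l G) = 0 →
            ∑ s, co G s * MvPolynomial.eval (co H) (MvPolynomial.pderiv s g) = 0 := by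
    intro χ₁
    have : Nonempty (piece i l) := ⟨⟨_, ptX_mem i l χ₁⟩⟩
    let M := RingHom.ker χ₁.toRingHom
    have : M.IsMaximal := RingHom.ker_isMaximal_of_surjective _ (algHom_surjective i χ₁)
    obtain ⟨hsm, hrk⟩ := rankAtStalk_eq_of_locally hA ⟨M, inferInstance⟩
    let y := pcoord i l
    have hy : Algebra.adjoin k (Set.range y) = ⊤ := adjoin_pcoord i l
    obtain ⟨Δ, hΔ⟩ := exists_dualDer (k := k) y hy
    choose GY hGY using fun t => exists_second y hy Δ hΔ (y t)
    choose G1 hG1 using fun a t => exists_first (k := k) y hy (Δ a (φ t))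
    choose G2 hG2 using fun t => exists_second y hy Δ hΔ (φ t)
    let S : DiagData (k := k) y φ := ⟨Δ, GY, G1, G2, hGY, hG1, hG2⟩
    let row : Option (Fin (r + 1)) → Γ(X, piece i l) →ₗ[k] Γ(X, piece i l) := fun q =>
      q.elim LinearMap.id fun q => (Δ q).toLinearMap
    obtain ⟨T, hT⟩ := exists_jet_forms (n := m + 1) i χ₁ (le_refl 1)
    obtain ⟨ρ, J, hdet⟩ := exists_minor (fun q a => χ₁ (row q (φ a))) (fun t a => co (T t) a) (fun c hc => hT c (by
      unfold Bad
      rw [pform_sum]
      have key : ∀ q, χ₁ (row q (∑ t, c t • pform i l (T t))) = 0 := fun q => by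
        refine Eq.trans ?_ (hc q)
        rw [map_sum, map_sum]
        refine Finset.sum_congr rfl fun t _ => ?_
        rw [map_smul, map_smul, smul_eq_mul, hpf (T t), map_sum, map_sum]
        refine congrArg _ (Finset.sum_congr rfl fun a _ => ?_)
        rw [map_smul, map_smul, smul_eq_mul, mul_comm]
      exact mem_sq_of_jets hy hΔ (key none) fun q => key (some q)))
    let Ψ : Fin (m + 2) → Fin N → Γ(X, piece i l) := fun t a => row (ρ t) (φ a)
    obtain ⟨a0, ha0, v, hv⟩ := Var76.BertiniAlg.exists_generators_near (A := Γ(X, piece i l))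
      (N := Ω[Γ(X, piece i l)⁄k]) M
    have hn : Module.finrank M.ResidueField (M.ResidueField ⊗[Γ(X, piece i l)] Ω[Γ(X, piece i l)⁄k]) = m + 1 := by
      rw [Ideal.finrank_fiber_eq_rankAtStalk M]; exact hrk
    revert v
    rw [hn]
    intro v hv
    have hdet' : χ₁ (Matrix.of fun t s => Ψ t (J s)).det ≠ 0 := by
      rw [AlgHom.map_det]; exact hdet
    -- the chosen equations imply all
    have hbad : ∀ (χ : P) (c : Fin N → k), χ (a0 * (Matrix.of fun t s => Ψ t (J s)).det) ≠ 0 →
        (∀ t, ∑ j, c j * χ (Ψ t j) = 0) → ∑ j, c j • φ j ∈ RingHom.ker χ.toRingHom ^ 2 := by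
      intro χ c hχ hsys
      obtain ⟨u, hu⟩ := exists_params hA χ
      have hrsq : ∀ (q : Option (Fin (r + 1))) {x}, x ∈ RingHom.ker χ.toRingHom ^ 2 → χ (row q x) = 0 := by
        intro q x hx
        cases q with
        | none => exact Ideal.pow_le_self two_ne_zero hx
        | some q => exact algHom_der_of_mem_sq hx (Δ q)
      let Y : Fin (m + 2) → Γ(X, piece i l) := Fin.cons 1 u
      have hexp : ∀ x, ∃ z : Fin (m + 2) → k, x - ∑ t, z t • Y t ∈ RingHom.ker χ.toRingHom ^ 2 := fun x => by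
        obtain ⟨z, hz⟩ := hu.span hA (x - algebraMap k _ (χ x)) (by
          show χ (x - algebraMap k _ (χ x)) = 0
          rw [map_sub, χ.commutes]; simp)
        refine ⟨Fin.cons (χ x) z, ?_⟩
        rw [Fin.sum_univ_succ]
        simpa [Y, Algebra.algebraMap_eq_smul_one, sub_sub] using hz
      let Λ : (Fin (m + 2) → k) →ₗ[k] (Fin (m + 2) → k) := Fintype.linearCombination k fun t e => χ (row (ρ e) (Y t))
      have hΛ : ∀ z e, Λ z e = χ (row (ρ e) (∑ t, z t • Y t)) := fun z e => by
        simp [Λ, Fintype.linearCombination_apply, Finset.sum_apply, map_sum]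
      have hMat : IsUnit (Matrix.of fun t s => χ (Ψ t (J s))).det := by
        refine isUnit_iff_ne_zero.2 fun h0 => hχ ?_
        rw [map_mul, AlgHom.map_det]
        exact mul_eq_zero_of_right _ h0
      have hsurj : Function.Surjective Λ := fun w => by
        obtain ⟨x, hx⟩ := (Matrix.mulVec_surjective_iff_isUnit.2 ((Matrix.isUnit_iff_isUnit_det _).2 hMat)) w
        obtain ⟨z, hz⟩ := hexp (∑ s, x s • φ (J s))
        refine ⟨z, funext fun e => ?_⟩
        have := hrsq (ρ e) hz
        rw [map_sub, map_sub, sub_eq_zero] at this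
        rw [hΛ, ← this, ← hx]
        simp [Matrix.mulVec, dotProduct, Ψ, map_sum, mul_comm]
      obtain ⟨z, hz⟩ := hexp (∑ j, c j • φ j)
      have hz0 : z = 0 := by
        refine LinearMap.injective_iff_surjective.2 hsurj ?_
        rw [map_zero]
        funext e
        have := hrsq (ρ e) hz
        rw [map_sub, map_sub, sub_eq_zero] at this
        rw [hΛ, ← this]
        simpa [map_sum, Ψ] using hsys e
      simpa [hz0] using hz
    have hcoH : ∀ c : Fin N → k, co (ofCoeff fun β => c (e β)) = c := fun c => funext fun s => by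
      show formCoeff (e.symm s) (ofCoeff fun β => c (e β)) = _
      have := congrFun (formEquiv_coeff (k := k) (fun β : Expo r 1 => c (e β))) (e.symm s)
      simpa using this
    obtain ⟨q, hq, hq'⟩ := exists_injective_differential y Ψ J (fun h0 => hdet' (by rw [h0, map_zero])) a0
      (fun h0 => ha0 (h0 ▸ zero_mem _)) v hv g hg (fun χ c hχ hsys => by
        rw [← hcoH c]
        refine hgv _ ((not_transversal_iff i (Nat.le_add_left 1 m) _).2 ⟨l, χ, ?_⟩)
        unfold Bad
        rw [hpf, hcoH]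
        exact hbad χ c hχ hsys)
    refine ⟨a0 * (Matrix.of fun t s => Ψ t (J s)).det, q, ?_, hq, fun χ H hχ hb hqH => ?_⟩
    · rw [map_mul]
      exact mul_ne_zero ha0 hdet'
    have hb' : ∑ s, co H s • φ s ∈ RingHom.ker χ.toRingHom ^ 2 := by rw [← hpf]; exact hb
    have hsys : ∀ t, ∑ j, co H j * χ (Ψ t j) = 0 := fun t => by
      have : χ (row (ρ t) (∑ s, co H s • φ s)) = 0 := by
        cases ρ t with
        | none => exact Ideal.pow_le_self two_ne_zero hb'
        | some q => exact algHom_der_of_mem_sq hb' (Δ q)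
      simpa [Ψ, map_sum] using this
    -- lifts to dual numbers
    have hlift : ∀ (δ : Fin (r + 1) → k) (G : Fin N → k), χ (∑ s, G s • φ s) = 0 →
        (∀ q, pder Δ χ δ (Δ q (∑ s, co H s • φ s)) + χ (Δ q (∑ s, G s • φ s)) = 0) →
        ∀ t, ∑ j, (TrivSqZeroExt.inl (co H j) + TrivSqZeroExt.inr (G j)) * dualPt Δ χ δ (Ψ t j) = 0 := by
      intro δ G hG hGq t
      refine (dualPt_sum Δ χ δ (row (ρ t)) φ (co H) G).trans ?_
      cases ρ t with
      | none =>
        show TrivSqZeroExt.inl (χ (∑ s, co H s • φ s)) + TrivSqZeroExt.inr (pder Δ χ δ (∑ s, co H s • φ s) + χ (∑ s, G s • φ s)) = 0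
        rw [show χ (∑ s, co H s • φ s) = 0 from Ideal.pow_le_self two_ne_zero hb', pder_eq_zero_of_mem_sq Δ χ δ hb', hG]
        simp
      | some q =>
        show TrivSqZeroExt.inl (χ (Δ q (∑ s, co H s • φ s))) + TrivSqZeroExt.inr (pder Δ χ δ (Δ q (∑ s, co H s • φ s)) + χ (Δ q (∑ s, G s • φ s))) = 0
        rw [algHom_der_of_mem_sq hb' (Δ q), hGq q]
        simp
    have hfst : ∀ δ x, TrivSqZeroExt.fst (dualPt Δ χ δ x) = χ x := fun δ x => fst_dualPt Δ χ δ x
    have hquad : QuadAt (m + 1) χ (∑ s, co H s • φ s) := by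
      refine (S.quadAt_iff hy hA (co H) χ hb').2 fun δ hδ => ?_
      have hfix : ∀ t, pder Δ χ δ (y t) = δ t := fun t => by
        rw [hδ.1 t, pder_apply]
        simp [DiagData.tMat, S, mul_comm]
      have := (hq' χ (co H) hχ hsys hqH (dualPt Δ χ δ) (hfst δ) 0 (hlift δ 0 (by simp) fun q => by
        rw [pder_G1 hy hΔ S rfl]
        simpa only [hfix, Pi.zero_apply, zero_smul, Finset.sum_const_zero, map_zero, add_zero] using hδ.2.1 q)).2 rfl
      funext t
      have ht := this t
      rw [snd_dualPt, hfix] at ht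
      exact ht
    refine ⟨by rwa [hpf], fun G hG => ?_⟩
    rw [hpf] at hG
    obtain ⟨δ, hδ⟩ := exists_tangent hy hΔ S rfl hA χ (co H) hb' hquad _ hG
    exact (hq' χ (co H) hχ hsys hqH (dualPt Δ χ δ) (hfst δ) (co G) (hlift δ (co G) hG hδ)).1
  choose a q ha hq hq' using hloc
  obtain ⟨p, hp, hp'⟩ := gather_prime (k := k) (P := P) (σ' := Form r k 1) (ev := fun χ => χ.toRingHom) hg a ha q hq
    (fun H χ => Bad i l χ H ∧ ¬ (QuadAt (m + 1) χ (pform i l H) ∧ ∀ G : Form r k 1, χ (pform i l G) = 0 →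
      ∑ s, co G s * MvPolynomial.eval (co H) (MvPolynomial.pderiv s g) = 0))
    co (fun χ χ' H hne hb => by_contra fun h => hb.2 (hq' χ' χ H hne hb.1 h))
  exact ⟨p, hp, fun χ H hb hne => by_contra fun h => hne (hp' χ H ⟨hb, h⟩)⟩

set_option maxHeartbeats 2000000 in
/-- The worse hyperplanes contain no hypersurface. -/
theorem no_hyp_charZero (g : MvPolynomial (Expo r 1) k) (hg : Prime g) :
    ¬ MvPolynomial.vanishingIdeal k (worseSet i (m + 1) 1) ≤ Ideal.span {g} := by
  classical
  intro hle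
  have : Smooth (i ≫ CohB1.ProjSpace.toSpec r k) := SmoothOfRelativeDimension.smooth (m + 1) _
  -- `g` vanishes on all singular forms
  have hgv : ∀ H : Form r k 1, ¬ Transversal k (m + 1) 1 (secToSpec i ({H} : Set (Form r k 1))) →
      MvPolynomial.eval (fun β => formCoeff β H) g = 0 := by
    obtain ⟨f, hf, ⟨v, hv⟩, hfT⟩ := isGeneric_transversal (n := m + 1) i (Nat.le_add_left 1 m) (le_refl 1)
    obtain ⟨q, hq⟩ := exists_poly_of_isPolyFun hf
    have hq0 : q ≠ 0 := fun h0 => hv (by rw [hq, h0, map_zero])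
    obtain ⟨e, q', hq', rfl⟩ := WfDvdMonoid.max_power_factor hq0 hg.irreducible
    have hpf : ∀ p : MvPolynomial (Expo r 1) k, IsPolyFun k fun H : Form r k 1 => MvPolynomial.eval (fun β => formCoeff β H) p :=
      fun p => isPolyFun_eval _ _
    rcases bad_irreducible (Nat.le_add_left 1 m) i (le_refl 1) _ _ (hpf (g ^ e)) (hpf q') (fun H hH => by
      rw [← map_mul, ← hq]
      exact by_contra fun h => hH (hfT H h)) with h | h
    · intro H hH
      have := h H hH
      rw [map_pow] at this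
      exact eq_zero_of_pow_eq_zero this
    · exfalso
      refine hq' (Ideal.mem_span_singleton.1 (hle ?_))
      rw [MvPolynomial.mem_vanishingIdeal_iff]
      intro c hc
      rw [MvPolynomial.aeval_eq_eval, ← formEquiv_coeff (k := k) c]
      exact h _ hc.1
  let e := Fintype.equivFin (Expo r 1)
  let g' := MvPolynomial.renameEquiv k e g
  have hg' : Prime g' := (MulEquiv.prime_iff (MvPolynomial.renameEquiv k e :
    MvPolynomial (Expo r 1) k ≃* MvPolynomial (Fin (Fintype.card (Expo r 1))) k)).2 hg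
  have hev : ∀ c : Expo r 1 → k, MvPolynomial.eval (fun s => c (e.symm s)) g' = MvPolynomial.eval c g := fun c => by
    show MvPolynomial.eval _ (MvPolynomial.rename e g) = _
    rw [MvPolynomial.eval_rename]
    congr 2
    funext β
    simp
  choose q hq hq' using fun l => exists_chart_good i (m := m) l hg' fun H hH => (hev _).trans (hgv H hH)
  obtain ⟨β, hβ⟩ := exists_pderiv_not_dvd hg'
  have hdvd : ¬ g' ∣ (∏ l, q l) * MvPolynomial.pderiv β g' := fun h => (hg'.dvd_or_dvd h).elim (fun h1 => by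
    obtain ⟨l, -, hl⟩ := hg'.exists_mem_finset_dvd h1
    exact hq l hl) hβ
  obtain ⟨c', hc0, hc1⟩ : ∃ c', MvPolynomial.eval c' g' = 0 ∧
      MvPolynomial.eval c' ((∏ l, q l) * MvPolynomial.pderiv β g') ≠ 0 := by
    by_contra hc
    push Not at hc
    exact hdvd (mem_span_of_vanish hg' hc)
  let H : Form r k 1 := ofCoeff fun γ => c' (e γ)
  have hcH : (fun s => formCoeff (e.symm s) H) = c' := funext fun s => by
    have := congrFun (formEquiv_coeff (k := k) (fun γ : Expo r 1 => c' (e γ))) (e.symm s)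
    simpa [H] using this
  have hW : Worse i (m + 1) H := by
    by_contra hnW
    obtain ⟨P, hP, hP0⟩ := exists_eq_worse i hnW
    obtain ⟨u, rfl⟩ := Ideal.mem_span_singleton.1 (hle hP)
    refine hP0 ?_
    rw [map_mul, ← hev (fun γ => formCoeff γ H), hcH, hc0, zero_mul]
  rw [map_mul, mul_ne_zero_iff, map_prod, Finset.prod_ne_zero_iff] at hc1
  have hgood : ∀ (l : Fin (r + 1)) (χ : Γ(X, piece i l) →ₐ[k] k), Bad i l χ H →
      QuadAt (m + 1) χ (pform i l H) ∧ ∀ G : Form r k 1, χ (pform i l G) = 0 →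
        ∑ s, formCoeff (e.symm s) G * MvPolynomial.eval c' (MvPolynomial.pderiv s g') = 0 := fun l χ hb => by
    have := hq' l χ H hb (by rw [hcH]; exact hc1.1 l (Finset.mem_univ l))
    rw [hcH] at this
    exact this
  obtain ⟨j, χ₀, hb₀⟩ := (not_transversal_iff i (Nat.le_add_left 1 m) H).1 hW.1
  refine hW.2 ((oneOrdQuad_iff i H).2 ⟨j, χ₀, (hgood j χ₀ hb₀).1, fun l χ hb => ?_⟩)
  by_contra hne
  obtain ⟨U, hU0, hU1⟩ := exists_separating_linear i χ₀ χ hne
  -- the linear functional kills every form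
  let L : Form r k 1 → k := fun G => ∑ s, formCoeff (e.symm s) G * MvPolynomial.eval c' (MvPolynomial.pderiv s g')
  have hall : ∀ G, L G = 0 := fun G => by
    have h1 : L U = 0 := (hgood j χ₀ hb₀).2 U hU0
    have h2 : L (G - (χ (pform i l G) / χ (pform i l U)) • U) = 0 := (hgood l χ hb).2 _ (by
      rw [pform_eq_aeval, AddSubgroupClass.coe_sub, Submodule.coe_smul, map_sub, map_smul, map_sub, map_smul,
        ← pform_eq_aeval, ← pform_eq_aeval, smul_eq_mul, div_mul_cancel₀ _ hU1, sub_self])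
    have h3 : L (G - (χ (pform i l G) / χ (pform i l U)) • U) = L G - (χ (pform i l G) / χ (pform i l U)) * L U := by
      simp only [L, map_sub, map_smul, smul_eq_mul, sub_mul, Finset.sum_sub_distrib, Finset.mul_sum, mul_assoc]
    rw [h3, h1, mul_zero, sub_zero] at h2
    exact h2
  refine hc1.2 ?_
  have := hall (monoForm (k := k) (e.symm β))
  simpa [L, formCoeff_monoForm] using this

/-- In characteristic zero every embedding is a Lefschetz embedding. -/
theorem isLefschetzEmb_one : IsLefschetzEmb k (m + 1) i 1 := by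
  obtain ⟨f, -, ⟨H₀, hf0⟩, hf⟩ := isGeneric_transversal (n := m + 1) i (Nat.le_add_left 1 m) (le_refl 1)
  obtain ⟨f', -, ⟨G₀, hG₀⟩, hf'⟩ := isGeneric_through i (le_refl 1) (hf H₀ hf0) (fun g hg => no_hyp_charZero i g hg)
  obtain ⟨P, hP, hP0, hPS⟩ := isZOpen_isLefschetzPencil i (m := m) (d := 1) (H₀, G₀) (hf' G₀ hG₀)
  exact ⟨P, hP, ⟨_, hP0⟩, hPS⟩

end Groth.Agent.An92.Lef
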