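import Groth.Agent.An92.Lef.Open
import Groth.Agent.SpFP87.Reduced
import Mathlib.RingTheory.Jacobson.Ring
import Mathlib.AlgebraicGeometry.Properties

/-! The forms with singular section form an irreducible set. -/

universe u

open CategoryTheory CategoryTheory.Limits AlgebraicGeometry Opposite TopologicalSpace
open scoped TensorProduct

noncomputable section

set_option backward.isDefEq.respectTransparency false

namespace Groth.Agent.An92.Lef

open LefPen Groth.Agent.Var76 KaehlerDifferential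

section Alg

variable {k A : Type u} [Field k] [CommRing A] [Algebra k A] {ι : Type} [Fintype ι]

/-- A family spanning the one-jets of a smooth algebra has a module of relations whose fibres are the
tangency conditions. -/
theorem exists_relations [Algebra.Smooth k A] (φ : ι → A) (hgen : Algebra.adjoin k (Set.range φ) = ⊤) (j₀ : ι)
    (h₀ : φ j₀ = 1) :
    ∃ w : ι → ι → A, ∀ χ : A →ₐ[k] k,
      (∀ t : ι → k, ∑ γ, (∑ β, t β * χ (w β γ)) • φ γ ∈ RingHom.ker χ.toRingHom ^ 2) ∧
      ∀ c : ι → k, ∑ γ, c γ • φ γ ∈ RingHom.ker χ.toRingHom ^ 2 → ∀ γ, c γ = ∑ β, c β * χ (w β γ) := by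
  classical
  let L : (ι → A) →ₗ[A] A × Ω[A⁄k] := Fintype.linearCombination A fun γ => (φ γ, D k A (φ γ))
  have hL : ∀ c, L c = ∑ γ, c γ • ((φ γ, D k A (φ γ)) : A × Ω[A⁄k]) := fun c => Fintype.linearCombination_apply _ _ _
  have hφ : ∀ γ, ((φ γ, D k A (φ γ)) : A × Ω[A⁄k]) ∈ LinearMap.range L := fun γ =>
    ⟨Pi.single γ 1, by simp [L, Fintype.linearCombination_apply_single]⟩
  have h1 : ((1 : A), (0 : Ω[A⁄k])) ∈ LinearMap.range L := by
    have := hφ j₀
    rwa [h₀, Derivation.map_one_eq_zero] at this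
  have hjet : ∀ x : A, ((x, D k A x) : A × Ω[A⁄k]) ∈ LinearMap.range L := by
    intro x
    have hx : x ∈ Algebra.adjoin k (Set.range φ) := hgen ▸ trivial
    induction hx using Algebra.adjoin_induction with
    | mem x hx => obtain ⟨γ, rfl⟩ := hx; exact hφ γ
    | algebraMap c =>
      rw [Derivation.map_algebraMap, show ((algebraMap k A c, 0) : A × Ω[A⁄k]) = algebraMap k A c • ((1 : A), (0 : Ω[A⁄k])) by simp [Algebra.algebraMap_eq_smul_one]]
      exact Submodule.smul_mem _ _ h1
    | add x y _ _ hx hy => rw [map_add, ← Prod.mk_add_mk]; exact add_mem hx hy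
    | mul x y _ _ hx hy =>
      rw [show ((x * y, D k A (x * y)) : A × Ω[A⁄k]) =
        x • (y, D k A y) + y • (x, D k A x) - (x * y) • ((1 : A), (0 : Ω[A⁄k])) by
          refine Prod.ext ?_ ?_
          · simp [mul_comm]
          · simp]
      exact sub_mem (add_mem (Submodule.smul_mem _ _ hy) (Submodule.smul_mem _ _ hx)) (Submodule.smul_mem _ _ h1)
  have hD : ∀ ω : Ω[A⁄k], ((0 : A), ω) ∈ LinearMap.range L := by
    intro ω
    have : ω ∈ Submodule.span A (Set.range (D k A)) := (span_range_derivation k A).symm ▸ trivial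
    induction this using Submodule.span_induction with
    | mem ω hω =>
      obtain ⟨x, rfl⟩ := hω
      rw [show ((0 : A), D k A x) = (x, D k A x) - x • ((1 : A), (0 : Ω[A⁄k])) by simp]
      exact sub_mem (hjet x) (Submodule.smul_mem _ _ h1)
    | zero => exact zero_mem _
    | add a b _ _ ha hb => simpa using add_mem ha hb
    | smul a ω _ h => simpa using Submodule.smul_mem _ a h
  have hsurj : Function.Surjective L := fun p => by
    obtain ⟨x, ω⟩ := p
    rw [show (x, ω) = x • ((1 : A), (0 : Ω[A⁄k])) + ((0 : A), ω) by simp]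
    exact add_mem (Submodule.smul_mem _ _ h1) (hD ω)
  obtain ⟨s, hs⟩ := Module.projective_lifting_property L LinearMap.id hsurj
  let π : (ι → A) →ₗ[A] (ι → A) := LinearMap.id - s ∘ₗ L
  have hπ : ∀ c, L (π c) = 0 := fun c => by
    show L (c - s (L c)) = 0
    rw [map_sub, show L (s (L c)) = L c from LinearMap.congr_fun hs _, sub_self]
  refine ⟨fun β => π (Pi.single β 1), fun χ => ?_⟩
  letI := χ.toRingHom.toAlgebra
  have : IsScalarTower k A k := IsScalarTower.of_algebraMap_eq fun c => (χ.commutes c).symm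
  have hdiff : ∀ d : k, ∀ x : A, χ x = d → algebraMap k A d - x ∈ RingHom.ker χ.toRingHom := fun d x hx =>
    show χ (algebraMap k A d - x) = 0 by rw [map_sub, χ.commutes, hx]; simp
  refine ⟨fun t => ?_, fun c hc γ => ?_⟩
  · let c' : ι → A := π (fun β => algebraMap k A (t β))
    have hexp : c' = ∑ β, algebraMap k A (t β) • π (Pi.single β 1) := by
      show π _ = _
      conv_lhs => rw [pi_eq_sum_univ' (fun β => algebraMap k A (t β))]
      rw [map_sum]
      exact Finset.sum_congr rfl fun β _ => map_smul _ _ _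
    have hc' : ∀ γ, χ (c' γ) = ∑ β, t β * χ (π (Pi.single β 1) γ) := fun γ => by
      rw [hexp, Finset.sum_apply, map_sum]
      refine Finset.sum_congr rfl fun β _ => ?_
      rw [Pi.smul_apply, smul_eq_mul, map_mul, χ.commutes]
      rfl
    have h0 := hπ (fun β => algebraMap k A (t β))
    rw [hL] at h0
    have h01 : ∑ γ, c' γ * φ γ = 0 := by simpa [Prod.fst_sum] using congrArg Prod.fst h0
    have h02 : ∑ γ, c' γ • D k A (φ γ) = 0 := by simpa [Prod.snd_sum] using congrArg Prod.snd h0
    simp only [← hc']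
    have hmem : ∑ γ, χ (c' γ) • φ γ ∈ RingHom.ker χ.toRingHom := by
      show χ (∑ γ, χ (c' γ) • φ γ) = 0
      rw [show (0 : k) = χ (∑ γ, c' γ * φ γ) by rw [h01, map_zero], map_sum, map_sum]
      exact Finset.sum_congr rfl fun γ _ => by rw [map_smul, smul_eq_mul, map_mul]
    refine (SmoothCrit.D_eq_zero_iff k (κ := k) (fun c => ⟨c, rfl⟩) hmem).1 ?_
    rw [map_sum, TensorProduct.tmul_sum, show (0 : k ⊗[A] Ω[A⁄k]) = (1 : k) ⊗ₜ[A] ∑ γ, c' γ • D k A (φ γ) by
      rw [h02, TensorProduct.tmul_zero], TensorProduct.tmul_sum]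
    refine Finset.sum_congr rfl fun γ _ => ?_
    rw [Derivation.map_smul, ← algebraMap_smul A (χ (c' γ)), TensorProduct.tmul_smul, TensorProduct.tmul_smul,
      TensorProduct.smul_tmul', TensorProduct.smul_tmul', Algebra.smul_def, Algebra.smul_def]
    congr 2
    exact χ.commutes _
  · let cA : ι → A := fun β => algebraMap k A (c β)
    set M := RingHom.ker χ.toRingHom
    set φc := ∑ γ, c γ • φ γ
    have hLc : L cA = (φc, D k A φc) := by
      rw [hL]
      refine Prod.ext ?_ ?_
      · simp [Prod.fst_sum, cA, φc, Algebra.smul_def]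
      · simp [Prod.snd_sum, cA, φc, map_sum, algebraMap_smul]
    have hDM : D k A φc ∈ M • (⊤ : Submodule A Ω[A⁄k]) := by
      rw [pow_two] at hc
      refine Submodule.mul_induction_on hc (fun a ha b hb => ?_) (fun a b ha hb => ?_)
      · rw [Derivation.leibniz]
        exact add_mem (Submodule.smul_mem_smul ha trivial) (Submodule.smul_mem_smul hb trivial)
      · rw [map_add]; exact add_mem ha hb
    have hker : ∀ y : A × Ω[A⁄k], y ∈ M • (⊤ : Submodule A (A × Ω[A⁄k])) → ∀ γ, χ (s y γ) = 0 := by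
      intro y hy γ
      refine Submodule.smul_induction_on hy (fun a ha z _ => ?_) (fun a b ha hb => ?_)
      · rw [map_smul, Pi.smul_apply, smul_eq_mul, map_mul, show χ a = 0 from ha, zero_mul]
      · rw [map_add, Pi.add_apply, map_add, ha, hb, add_zero]
    have hjm : ((φc, D k A φc) : A × Ω[A⁄k]) ∈ M • (⊤ : Submodule A (A × Ω[A⁄k])) := by
      rw [show ((φc, D k A φc) : A × Ω[A⁄k]) = φc • ((1 : A), (0 : Ω[A⁄k])) + LinearMap.inr A A Ω[A⁄k] (D k A φc) by simp]
      refine add_mem (Submodule.smul_mem_smul (Ideal.pow_le_self two_ne_zero hc) trivial) ?_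
      have hle : M • Submodule.map (LinearMap.inr A A Ω[A⁄k]) ⊤ ≤ M • (⊤ : Submodule A (A × Ω[A⁄k])) :=
        Submodule.smul_mono le_rfl le_top
      rw [← Submodule.map_smul''] at hle
      exact hle (Submodule.mem_map_of_mem hDM)
    have hexp : π cA γ = ∑ β, cA β * π (Pi.single β 1) γ := by
      conv_lhs => rw [pi_eq_sum_univ' cA]
      rw [map_sum, Finset.sum_apply]
      exact Finset.sum_congr rfl fun β _ => by rw [map_smul]; rfl
    have h2 : χ (π cA γ) = c γ := by
      show χ (cA γ - s (L cA) γ) = _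
      rw [map_sub, hLc, hker _ hjm γ, sub_zero]
      exact χ.commutes _
    rw [← h2, hexp, map_sum]
    exact Finset.sum_congr rfl fun β _ => by rw [map_mul]; congr 1; exact χ.commutes _

/-- A polynomial over a reduced affine algebra vanishing at all rational points and parameters is zero. -/
theorem eq_zero_of_forall_eval [IsAlgClosed k] [Algebra.FiniteType k A] [IsReduced A] {σ : Type}
    {p : MvPolynomial σ A}
    (h : ∀ (χ : A →ₐ[k] k) (t : σ → k), MvPolynomial.eval₂ χ.toRingHom t p = 0) : p = 0 := by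
  ext m
  rw [MvPolynomial.coeff_zero]
  have : IsJacobsonRing A := isJacobsonRing_of_finiteType (A := k)
  refine IsNilpotent.eq_zero (mem_nilradical.1 ?_)
  show MvPolynomial.coeff m p ∈ (⊥ : Ideal A).radical
  rw [Ideal.radical_eq_jacobson, Ideal.jacobson, Submodule.mem_sInf]
  rintro M ⟨-, hM⟩
  letI := Ideal.Quotient.field M
  have : Module.Finite k (A ⧸ M) := finite_of_finite_type_of_isJacobsonRing k _
  let e := AlgEquiv.ofBijective (Algebra.ofId k (A ⧸ M)) (IsAlgClosed.algebraMap_bijective_of_isIntegral (k := k))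
  let χ : A →ₐ[k] k := e.symm.toAlgHom.comp (Ideal.Quotient.mkₐ k M)
  have hz : MvPolynomial.map χ.toRingHom p = 0 := MvPolynomial.funext fun t => by
    rw [MvPolynomial.eval_map, h χ t, map_zero]
  have := congrArg (MvPolynomial.coeff m) hz
  rw [MvPolynomial.coeff_map, MvPolynomial.coeff_zero] at this
  rw [← Ideal.Quotient.eq_zero_iff_mem]
  exact e.symm.injective (this.trans (map_zero _).symm)

end Alg

theorem exists_poly_of_isPolyFun {k : Type u} [Field k] {r d : ℕ} {f : Form r k d → k} (hf : IsPolyFun k f) :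
    ∃ q : MvPolynomial (Expo r d) k, ∀ H, f H = MvPolynomial.eval (fun β => formCoeff β H) q := by
  unfold IsPolyFun at hf
  induction hf using Algebra.adjoin_induction with
  | mem f hf =>
    obtain ⟨l, rfl⟩ := hf
    refine ⟨∑ β : Expo r d, MvPolynomial.C (l (monoForm β)) * MvPolynomial.X β, fun H => ?_⟩
    conv_lhs => rw [← sum_formCoeff H]
    simp [map_sum, mul_comm]
  | algebraMap c => exact ⟨MvPolynomial.C c, fun H => by simp⟩
  | add f g _ _ hf hg =>
    obtain ⟨p, hp⟩ := hf
    obtain ⟨q, hq⟩ := hg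
    exact ⟨p + q, fun H => by simp [hp, hq]⟩
  | mul f g _ _ hf hg =>
    obtain ⟨p, hp⟩ := hf
    obtain ⟨q, hq⟩ := hg
    exact ⟨p * q, fun H => by simp [hp, hq]⟩

theorem bad_irreducible {k : Type u} [Field k] [IsAlgClosed k] {r n : ℕ} (hn : 1 ≤ n) {X : Scheme.{u}}
    (i : X ⟶ CohB1.ProjSpace r k) [IsClosedImmersion i] [IrreducibleSpace X]
    [SmoothOfRelativeDimension n (i ≫ CohB1.ProjSpace.toSpec r k)] {d : ℕ} (hd : 1 ≤ d)
    (f g : Form r k d → k) (hf : IsPolyFun k f) (hg : IsPolyFun k g)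
    (h : ∀ H : Form r k d, ¬ Transversal k n 1 (secToSpec i ({H} : Set (Form r k d))) → f H * g H = 0) :
    (∀ H : Form r k d, ¬ Transversal k n 1 (secToSpec i ({H} : Set (Form r k d))) → f H = 0) ∨
    (∀ H : Form r k d, ¬ Transversal k n 1 (secToSpec i ({H} : Set (Form r k d))) → g H = 0) := by
  classical
  have hsmX : Smooth (i ≫ CohB1.ProjSpace.toSpec r k) := SmoothOfRelativeDimension.smooth n _
  have : IsReduced X := SpFP87.isReduced_of_smooth (i ≫ CohB1.ProjSpace.toSpec r k)
  have : IsIntegral X := isIntegral_of_irreducibleSpace_of_isReduced X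
  obtain ⟨qf, hqf⟩ := exists_poly_of_isPolyFun hf
  obtain ⟨qg, hqg⟩ := exists_poly_of_isPolyFun hg
  let J : Set (Fin (r + 1)) := {j | Nonempty (piece i j)}
  have hdom : ∀ j ∈ J, IsDomain Γ(X, piece i j) := fun j hj => by
    have : Nonempty (piece i j) := hj
    infer_instance
  have hft : ∀ j, Algebra.FiniteType k Γ(X, piece i j) := fun j =>
    ⟨Subalgebra.fg_def.2 ⟨_, Set.finite_range _, adjoin_pcoord i j⟩⟩
  have hw : ∀ j ∈ J, ∃ w : Expo r d → Expo r d → Γ(X, piece i j), ∀ χ : Γ(X, piece i j) →ₐ[k] k,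
      (∀ t : Expo r d → k, Bad i j χ (formEquiv.symm fun γ => ∑ β, t β * χ (w β γ))) ∧
      ∀ H : Form r k d, Bad i j χ H → ∀ γ, formCoeff γ H = ∑ β, formCoeff β H * χ (w β γ) := by
    intro j hj
    have := hdom j hj
    have : Algebra.Smooth k Γ(X, piece i j) :=
      (rankAtStalk_eq_of_locally (n := n) (A := Γ(X, piece i j)) (by
        rw [RingHom.algebraMap_toAlgebra]; exact locally_piece i j) (Nonempty.some inferInstance)).1
    obtain ⟨w, hw⟩ := exists_relations (k := k) (fun β : Expo r d => pform i j (monoForm β))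
      (top_le_iff.1 ((adjoin_pcoord i j).ge.trans (Algebra.adjoin_mono (by
        rintro _ ⟨l, rfl⟩; exact ⟨linExpo hd j l, pform_linExpo i j l hd⟩))))
      (linExpo hd j j) ((pform_linExpo i j j hd).trans (pcoord_self i j))
    have hsum : ∀ H : Form r k d, pform i j H = ∑ γ : Expo r d, formCoeff γ H • pform i j (monoForm (k := k) γ) :=
      fun H => (pform_eq_sum i j H).trans (Finset.sum_congr rfl fun γ _ => (Algebra.smul_def _ _).symm)
    refine ⟨w, fun χ => ⟨fun t => ?_, fun H hH => (hw χ).2 _ (hsum H ▸ hH)⟩⟩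
    have hc := formEquiv_coeff (k := k) (fun γ : Expo r d => ∑ β, t β * χ (w β γ))
    show pform i j _ ∈ _
    rw [hsum]
    rw [show (∑ γ : Expo r d, formCoeff γ (formEquiv.symm fun γ => ∑ β, t β * χ (w β γ)) • pform i j (monoForm (k := k) γ)) =
      ∑ γ : Expo r d, (∑ β, t β * χ (w β γ)) • pform i j (monoForm (k := k) γ) from
        Finset.sum_congr rfl fun γ _ => by rw [congrFun hc γ]]
    exact (hw χ).1 t
  choose w hw1 using hw
  let P : ∀ j ∈ J, MvPolynomial (Expo r d) k → MvPolynomial (Expo r d) Γ(X, piece i j) := fun j hj q =>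
    MvPolynomial.aeval (fun γ => ∑ β, MvPolynomial.C (w j hj β γ) * MvPolynomial.X β) q
  have heval : ∀ j (hj : j ∈ J) (q : MvPolynomial (Expo r d) k) (χ : Γ(X, piece i j) →ₐ[k] k) (t : Expo r d → k),
      MvPolynomial.eval₂ χ.toRingHom t (P j hj q) =
        MvPolynomial.eval (fun γ => ∑ β, t β * χ (w j hj β γ)) q := by
    intro j hj q χ t
    let ev : MvPolynomial (Expo r d) Γ(X, piece i j) →ₐ[k] k :=
      { MvPolynomial.eval₂Hom χ.toRingHom t with
        commutes' := fun c => (MvPolynomial.eval₂_C χ.toRingHom t (algebraMap k _ c)).trans (χ.commutes c) }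
    show ev (MvPolynomial.aeval _ q) = _
    rw [← AlgHom.comp_apply, MvPolynomial.comp_aeval, ← MvPolynomial.aeval_eq_eval]
    congr 2
    funext γ
    rw [map_sum]
    refine Finset.sum_congr rfl fun β _ => ?_
    show MvPolynomial.eval₂ χ.toRingHom t _ = _
    rw [MvPolynomial.eval₂_mul, MvPolynomial.eval₂_C, MvPolynomial.eval₂_X, mul_comm]
    rfl
  have hvan : ∀ (q : MvPolynomial (Expo r d) k) j (hj : j ∈ J), P j hj q = 0 →
      ∀ (χ : Γ(X, piece i j) →ₐ[k] k) (H : Form r k d), Bad i j χ H →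
        MvPolynomial.eval (fun β => formCoeff β H) q = 0 := by
    intro q j hj h0 χ H hb
    have e := heval j hj q χ (fun β => formCoeff β H)
    rw [h0, MvPolynomial.eval₂_zero] at e
    rw [e]
    congr 2
    funext γ
    exact (hw1 j hj χ).2 H hb γ
  have hmul : ∀ j (hj : j ∈ J), P j hj qf = 0 ∨ P j hj qg = 0 := by
    intro j hj
    have := hdom j hj
    have := hft j
    refine mul_eq_zero.1 (eq_zero_of_forall_eval (k := k) fun χ t => ?_)
    rw [MvPolynomial.eval₂_mul, heval, heval, ← formEquiv_coeff (k := k) (fun γ : Expo r d => ∑ β, t β * χ (w j hj β γ)),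
      ← hqf, ← hqg]
    exact h _ ((not_transversal_iff i hn _).2 ⟨j, χ, (hw1 j hj χ).1 t⟩)
  have hglue : ∀ (q : MvPolynomial (Expo r d) k) j (hj : j ∈ J), P j hj q = 0 →
      ∀ l (hl : l ∈ J), P l hl q = 0 := by
    intro q j hj h0 l hl
    have := hdom l hl
    have := hft l
    have hne : pcoord i l j ≠ 0 := by
      intro hz
      have hb := basicOpen_pcoord i l j
      rw [hz, Scheme.basicOpen_zero] at hb
      obtain ⟨x, hx⟩ := nonempty_preirreducible_inter (piece i l).2 (piece i j).2
        (let ⟨x⟩ := hl; ⟨x.1, x.2⟩) (let ⟨x⟩ := hj; ⟨x.1, x.2⟩)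
      exact hb.ge hx
    have hm : P l hl q * MvPolynomial.C (pcoord i l j) = 0 := by
      refine eq_zero_of_forall_eval (k := k) fun χ t => ?_
      rw [MvPolynomial.eval₂_mul, MvPolynomial.eval₂_C, heval]
      by_cases hc : χ (pcoord i l j) = 0
      · rw [show χ.toRingHom (pcoord i l j) = 0 from hc, mul_zero]
      obtain ⟨χ', -, hbad⟩ := exists_transition i l j χ hc
      have := hvan q j hj h0 χ' _ ((hbad _).1 ((hw1 l hl χ).1 t))
      rw [formEquiv_coeff] at this
      rw [this, zero_mul]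
    exact (mul_eq_zero.1 hm).resolve_right (fun h0 => hne (MvPolynomial.C_eq_zero.1 h0))
  obtain ⟨j₀, hj₀⟩ : ∃ j₀, j₀ ∈ J := by
    obtain ⟨x⟩ : Nonempty X := inferInstance
    obtain ⟨j, hj⟩ := ProjCoord.exists_mem_U k r (i x)
    exact ⟨j, ⟨⟨x, hj⟩⟩⟩
  have key : ∀ (F : Form r k d → k) (q : MvPolynomial (Expo r d) k),
      (∀ H, F H = MvPolynomial.eval (fun β => formCoeff β H) q) → P j₀ hj₀ q = 0 →
      ∀ H : Form r k d, ¬ Transversal k n 1 (secToSpec i ({H} : Set (Form r k d))) → F H = 0 := by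
    intro F q hq h0 H hH
    obtain ⟨j, χ, hb⟩ := (not_transversal_iff i hn H).1 hH
    have hj : j ∈ J := by
      by_contra hj
      have : IsEmpty (piece i j) := not_nonempty_iff.1 hj
      have hbot : piece i j = ⊥ := le_bot_iff.1 fun x hx => (this.false ⟨x, hx⟩).elim
      have : Subsingleton Γ(X, piece i j) := by
        rw [hbot]; infer_instance
      exact zero_ne_one (α := k) (by rw [← map_zero χ, Subsingleton.elim (0 : Γ(X, piece i j)) 1, map_one])
    rw [hq]
    exact hvan q j hj (hglue q j₀ hj₀ h0 j hj) χ H hb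
  exact (hmul j₀ hj₀).imp (key f qf hqf) (key g qg hqg)

end Groth.Agent.An92.Lef
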