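import Groth.Agent.An92.Lef.Minor
import Groth.Agent.An92.Lef.Irred
import Mathlib.Algebra.DualNumber
import Mathlib.Algebra.MvPolynomial.PDeriv
import Mathlib.RingTheory.Polynomial.UniqueFactorization
import Mathlib.LinearAlgebra.Matrix.Adjugate

/-! In characteristic zero a hypersurface swept out by tangency data is reached with injective differential. -/

universe u

open scoped TensorProduct
open KaehlerDifferential Matrix

noncomputable section

namespace Groth.Agent.An92.Lef

section Poly

variable {k : Type u} [Field k] [CharZero k] {τ : Type} [Fintype τ]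

open MvPolynomial in
theorem exists_pderiv_not_dvd {g : MvPolynomial τ k} (hg : Prime g) : ∃ β, ¬ g ∣ pderiv β g := by
  classical
  obtain ⟨β, hβ⟩ : ∃ β, pderiv β g ≠ 0 := by
    by_contra hc
    push Not at hc
    refine hg.not_unit ?_
    have hC : g = C (coeff 0 g) := by
      ext m
      by_cases hm : m = 0
      · simp [hm]
      · rw [coeff_C, if_neg (Ne.symm hm)]
        obtain ⟨β, hβ⟩ := Finsupp.support_nonempty_iff.2 hm
        rw [Finsupp.mem_support_iff] at hβ
        have h0 := congrArg (coeff (m - Finsupp.single β 1)) (hc β)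
        rw [coeff_pderiv, tsub_add_cancel_of_le (Finsupp.single_le_iff.2 (Nat.one_le_iff_ne_zero.2 hβ)), coeff_zero] at h0
        exact (mul_eq_zero.1 h0).resolve_right (Nat.cast_add_one_ne_zero _)
    have hne : coeff 0 g ≠ 0 := fun h => hg.ne_zero (by rw [hC, h, map_zero])
    rw [hC]
    exact (isUnit_iff_ne_zero.2 hne).map C
  refine ⟨β, fun hdvd => ?_⟩
  obtain ⟨u, hu⟩ := hdvd
  have hu0 : u ≠ 0 := fun h => hβ (by rw [hu, h, mul_zero])
  have h1 : (pderiv β g).totalDegree + 1 ≤ g.totalDegree := by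
    obtain ⟨m, hm, hmax⟩ := Finset.exists_mem_eq_sup _ (support_nonempty.2 hβ) fun s : τ →₀ ℕ => s.sum fun _ e => e
    show (pderiv β g).support.sup _ + 1 ≤ _
    rw [hmax]
    have hmem : m + Finsupp.single β 1 ∈ g.support := by
      rw [mem_support_iff] at hm ⊢
      rw [coeff_pderiv] at hm
      exact left_ne_zero_of_mul hm
    have := le_totalDegree hmem
    rwa [Finsupp.sum_add_index' (fun _ => rfl) (fun _ _ _ => rfl), Finsupp.sum_single_index rfl] at this
  rw [hu, totalDegree_mul_of_isDomain hg.ne_zero hu0] at h1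
  omega

open MvPolynomial in
theorem eq_zero_of_dvd_rename {g : MvPolynomial τ k} (hg : Prime g) {β : τ} (hβ : ¬ g ∣ pderiv β g)
    (f : MvPolynomial {l : τ // l ≠ β} k) (h : g ∣ rename Subtype.val f) : f = 0 := by
  classical
  by_contra hf
  have hf' : rename Subtype.val f ≠ 0 := fun h0 =>
    hf (rename_injective _ Subtype.val_injective (h0.trans (map_zero _).symm))
  obtain ⟨e, u, hu, heq⟩ := WfDvdMonoid.max_power_factor hf' hg.irreducible
  obtain ⟨e, rfl⟩ : ∃ e', e = e' + 1 := Nat.exists_eq_succ_of_ne_zero fun h0 => hu (by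
    rwa [heq, h0, pow_zero, one_mul] at h)
  have hd : pderiv β (rename Subtype.val f) = 0 := by
    clear h hf hf' heq
    induction f using MvPolynomial.induction_on with
    | C a => simp
    | add p q hp hq => rw [map_add, map_add, hp, hq, add_zero]
    | mul_X p t hp => rw [map_mul, rename_X, pderiv_mul, hp, pderiv_X_of_ne t.2]; simp
  rw [heq, pderiv_mul, pderiv_pow, Nat.add_sub_cancel] at hd
  have h2 : g ^ e * ((((e + 1 : ℕ) : MvPolynomial τ k) * pderiv β g * u) + g * pderiv β u) = 0 := by
    rw [← hd, pow_succ]; ring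
  have h3 := (mul_eq_zero.1 h2).resolve_left (pow_ne_zero _ hg.ne_zero)
  have h4 : g ∣ ((e + 1 : ℕ) : MvPolynomial τ k) * pderiv β g * u := ⟨-pderiv β u, by linear_combination h3⟩
  rcases hg.dvd_or_dvd h4 with h5 | h5
  · refine (hg.dvd_or_dvd h5).elim (fun h6 => ?_) hβ
    refine hg.not_unit (isUnit_of_dvd_unit h6 ?_)
    rw [← map_natCast (MvPolynomial.C : k →+* MvPolynomial τ k)]
    exact (isUnit_iff_ne_zero.2 (Nat.cast_ne_zero.2 (Nat.succ_ne_zero e))).map C
  · exact hu h5

end Poly

variable {k A : Type u} [Field k] [CommRing A] [Algebra k A]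

theorem cramer_row {R : Type*} [CommRing R] {N : ℕ} (u D : R) (hu : u * D = 1) (Mc adj : Fin N → Fin N → R)
    (rest : Fin N → R) (e : Fin N) (hmul : ∀ e', ∑ t, Mc e t * adj t e' = if e = e' then D else 0) :
    ∑ t, -(u * ∑ e', adj t e' * rest e') * Mc e t = -rest e := by
  classical
  simp only [neg_mul, Finset.sum_neg_distrib, Finset.mul_sum, Finset.sum_mul]
  rw [Finset.sum_comm]
  calc -∑ e', ∑ t, u * (adj t e' * rest e') * Mc e t = -∑ e', u * ((∑ t, Mc e t * adj t e') * rest e') := by
        simp only [Finset.sum_mul, Finset.mul_sum]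
        exact congrArg Neg.neg (Finset.sum_congr rfl fun _ _ => Finset.sum_congr rfl fun _ _ => by ring)
    _ = -rest e := by
        simp only [hmul, ite_mul, zero_mul, mul_ite, mul_zero, Finset.sum_ite_eq, Finset.mem_univ, if_true]
        rw [← mul_assoc, hu, one_mul]

/-- The universal solution of a linear system on the locus where a maximal minor is invertible. -/
theorem exists_solution [IsDomain A] [Algebra.FiniteType k A] {m s n : ℕ} (Ψ : Fin s → Fin m → A) (J : Fin s → Fin m)
    (hdet : (Matrix.of fun e t => Ψ e (J t)).det ≠ 0) (a0 : A) (ha0 : a0 ≠ 0) (v : Fin n → Ω[A⁄k])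
    (hv : ∀ ω : Ω[A⁄k], a0 • ω ∈ Submodule.span A (Set.range v)) :
    ∃ (C : Type u) (_ : CommRing C) (_ : Algebra k C) (_ : IsDomain C) (_ : Algebra.FiniteType k C)
      (incl : A →ₐ[k] C) (img : Fin m → C) (r : ℕ) (w : Fin r → Ω[C⁄k]),
      r + s = n + m ∧ Submodule.span C (Set.range w) = ⊤ ∧ (∀ e, ∑ j, img j * incl (Ψ e j) = 0) ∧
      (∀ [IsAlgClosed k], ∀ z : C,
        (∀ Θ : C →ₐ[k] k, Θ z = 0) → z = 0) ∧
      ∀ (T : Type u) [CommRing T] [Algebra k T] (θ : A →ₐ[k] T) (c : Fin m → T),
        IsUnit (θ (a0 * (Matrix.of fun e t => Ψ e (J t)).det)) → (∀ e, ∑ j, c j * θ (Ψ e j) = 0) →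
          ∃ Θ : C →ₐ[k] T, Θ.comp incl = θ ∧ ∀ j, Θ (img j) = c j := by
  classical
  set M : Matrix (Fin s) (Fin s) A := Matrix.of fun e t => Ψ e (J t) with hM
  have hJ : Function.Injective J := fun a b hab => by
    by_contra hne
    exact hdet (Matrix.det_zero_of_column_eq hne fun e => by simp [hM, hab])
  set a := a0 * M.det with ha
  let σ := {j : Fin m // j ∉ Set.range J}
  let B := Localization.Away a
  let C := MvPolynomial (ULift.{u} σ) B
  have hane : a ≠ 0 := mul_ne_zero ha0 hdet
  have : IsDomain B := IsLocalization.isDomain_of_le_nonZeroDivisors B (M := Submonoid.powers a)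
    (powers_le_nonZeroDivisors_of_noZeroDivisors hane)
  let u : B := IsLocalization.Away.invSelf a * algebraMap A B a0
  have hu : u * algebraMap A B M.det = 1 := by
    have := IsLocalization.Away.mul_invSelf (S := B) a
    rw [show algebraMap A B a = algebraMap A B a0 * algebraMap A B M.det from
      (congrArg (algebraMap A B) ha).trans (map_mul _ _ _)] at this
    linear_combination this
  let incl : A →ₐ[k] C := IsScalarTower.toAlgHom k A C
  have hincl : ∀ x, incl x = MvPolynomial.C (algebraMap A B x) := fun x => rfl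
  let rest : Fin s → C := fun e => ∑ j' : σ, MvPolynomial.C (algebraMap A B (Ψ e j'.1)) * MvPolynomial.X ⟨j'⟩
  let sol : Fin s → C := fun t => -(MvPolynomial.C u * ∑ e, incl (M.adjugate t e) * rest e)
  let img : Fin m → C := fun j => if hj : j ∈ Set.range J then sol hj.choose else MvPolynomial.X ⟨⟨j, hj⟩⟩
  have himgJ : ∀ t, img (J t) = sol t := fun t => by
    simp only [img]
    rw [dif_pos ⟨t, rfl⟩]
    congr 1
    exact hJ (Exists.choose_spec (⟨t, rfl⟩ : J t ∈ Set.range J))
  have himgσ : ∀ j' : σ, img j'.1 = MvPolynomial.X ⟨j'⟩ := fun j' => dif_neg j'.2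
  have hsplit : ∀ {N : Type u} [AddCommMonoid N] (G : Fin m → N), ∑ j, G j = (∑ t, G (J t)) + ∑ j' : σ, G j'.1 := by
    intro N _ G
    rw [← Finset.sum_filter_add_sum_filter_not Finset.univ (fun j => j ∈ Set.range J) G]
    congr 1
    · rw [← Finset.sum_image (fun x _ y _ hxy => hJ hxy)]
      exact Finset.sum_congr (by ext; simp [eq_comm]) fun _ _ => rfl
    · exact Finset.sum_subtype _ (by simp) _
  have heq : ∀ e, ∑ j, img j * incl (Ψ e j) = 0 := by
    intro e
    rw [hsplit]
    simp only [himgJ, himgσ]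
    have h1 : ∑ t, sol t * incl (Ψ e (J t)) = - rest e := by
      have hmul : ∀ e', ∑ t, incl (M e t) * incl (M.adjugate t e') = if e = e' then incl M.det else 0 := fun e' => by
        simp only [← map_mul, ← map_sum]
        rw [← Matrix.mul_apply, Matrix.mul_adjugate]
        by_cases h : e = e' <;> simp [Matrix.one_apply, h]
      exact cramer_row (MvPolynomial.C u) (incl M.det) (by rw [hincl, ← map_mul, hu, map_one])
        (fun e t => incl (M e t)) (fun t e => incl (M.adjugate t e)) rest e hmul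
    rw [h1, neg_add_eq_zero]
    exact Finset.sum_congr rfl fun j' _ => mul_comm _ _
  have hgenB := Var76.BertiniAlg.span_away (k := k) a v fun ω => by
    have := Submodule.smul_mem (Submodule.span A (Set.range v)) M.det (hv ω)
    rwa [smul_smul, show M.det * a0 = a by rw [ha]; ring] at this
  have hgenC := Var76.BertiniAlg.span_mvPolynomial (σ := ULift.{u} σ) _ hgenB
  let e := (Fintype.equivFin (Fin n ⊕ ULift.{u} σ)).symm
  rw [← e.surjective.range_comp] at hgenC
  refine ⟨C, inferInstance, inferInstance, inferInstance, inferInstance, incl, img, _, _, ?_, hgenC, heq, ?_, ?_⟩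
  · simp only [Fintype.card_sum, Fintype.card_fin, Fintype.card_ulift]
    have h2 : Fintype.card σ = Fintype.card (Fin m) - Fintype.card ↥(Set.range J) := Fintype.card_subtype_compl _
    have h3 : Fintype.card ↥(Set.range J) ≤ Fintype.card (Fin m) := Fintype.card_subtype_le _
    have h1 := Fintype.card_congr (Equiv.ofInjective J hJ)
    rw [Fintype.card_fin] at h1 h2 h3
    omega
  · intro _ z hz
    let e' := MvPolynomial.renameEquiv B (Equiv.ulift : ULift.{u} σ ≃ σ)
    refine e'.injective ((?_ : e' z = 0).trans (map_zero e').symm)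
    refine eq_zero_of_forall_eval (k := k) fun χ t => ?_
    let Θ : C →ₐ[k] k :=
      { MvPolynomial.eval₂Hom χ.toRingHom fun j => t j.down with
        commutes' := fun c => (MvPolynomial.eval₂_C χ.toRingHom _ (algebraMap k B c)).trans (χ.commutes c) }
    rw [show e' z = MvPolynomial.rename (Equiv.ulift : ULift.{u} σ ≃ σ) z from rfl, MvPolynomial.eval₂_rename]
    exact hz Θ
  · intro T _ _ θ c hunit hsys
    let θB : B →ₐ[k] T :=
      { IsLocalization.Away.lift a (g := θ.toRingHom) hunit with
        commutes' := fun x => by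
          show IsLocalization.Away.lift a (g := θ.toRingHom) hunit (algebraMap k B x) = _
          rw [IsScalarTower.algebraMap_apply k A B, IsLocalization.Away.lift_eq]
          exact θ.commutes x }
    have hθ : ∀ x, θB (algebraMap A B x) = θ x := fun x => IsLocalization.Away.lift_eq (g := θ.toRingHom) a hunit x
    let Θ : C →ₐ[k] T :=
      { MvPolynomial.eval₂Hom θB.toRingHom fun j => c j.down.1 with
        commutes' := fun x => (MvPolynomial.eval₂_C θB.toRingHom _ (algebraMap k B x)).trans (θB.commutes x) }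
    have hC : ∀ b : B, Θ (MvPolynomial.C b) = θB b := fun b => MvPolynomial.eval₂Hom_C _ _ b
    have hX : ∀ j : ULift.{u} σ, Θ (MvPolynomial.X j) = c j.down.1 := fun j => MvPolynomial.eval₂Hom_X' _ _ j
    have hcomp : Θ.comp incl = θ := AlgHom.ext fun x => (hC _).trans (hθ x)
    refine ⟨Θ, hcomp, fun j => ?_⟩
    by_cases hj : j ∈ Set.range J
    swap
    · rw [show img j = MvPolynomial.X ⟨⟨j, hj⟩⟩ from dif_neg hj, hX]
    obtain ⟨t, rfl⟩ := hj
    rw [himgJ]
    have hrow : ∀ e, ∑ j' : σ, θ (Ψ e j'.1) * c j'.1 = -∑ t', θ (M e t') * c (J t') := fun e => by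
      have := hsys e
      rw [hsplit] at this
      simp only [hM, Matrix.of_apply]
      rw [eq_neg_iff_add_eq_zero, add_comm]
      simpa only [mul_comm] using this
    have hadj : ∑ e, θ (M.adjugate t e) * ∑ t', θ (M e t') * c (J t') = θ M.det * c (J t) := by
      simp only [Finset.mul_sum, ← mul_assoc, ← map_mul]
      rw [Finset.sum_comm]
      simp only [← Finset.sum_mul, ← map_sum]
      have := Matrix.adjugate_mul M
      rw [Finset.sum_eq_single t]
      · rw [show ∑ e, M.adjugate t e * M e t = M.det by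
          rw [← Matrix.mul_apply, this]; simp]
      · intro b _ hb
        rw [show ∑ e, M.adjugate t e * M e b = 0 by
          rw [← Matrix.mul_apply, this]; simp [Matrix.one_apply_ne' hb], map_zero, zero_mul]
      · simp
    simp only [sol, rest, map_neg, map_mul, map_sum, hC, hX, hincl, hθ, hrow, mul_neg, Finset.sum_neg_distrib, neg_neg]
    rw [hadj, ← mul_assoc, ← hθ, ← map_mul, hu, map_one, one_mul]

/-- Near a point of a variety carrying a linear system, off a proper subset of the hypersurface swept out by its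
solutions, the differential is injective and lands in the tangent hyperplane. -/
theorem exists_injective_differential [CharZero k] [IsAlgClosed k] [IsDomain A] [Algebra.FiniteType k A] {m n : ℕ}
    {ι : Type} [Fintype ι] (y : ι → A) (Ψ : Fin (n + 1) → Fin m → A) (J : Fin (n + 1) → Fin m)
    (hdet : (Matrix.of fun e t => Ψ e (J t)).det ≠ 0) (a0 : A) (ha0 : a0 ≠ 0) (v : Fin n → Ω[A⁄k])
    (hv : ∀ ω : Ω[A⁄k], a0 • ω ∈ Submodule.span A (Set.range v))
    (g : MvPolynomial (Fin m) k) (hg : Prime g)
    (hvan : ∀ (χ : A →ₐ[k] k) (c : Fin m → k), χ (a0 * (Matrix.of fun e t => Ψ e (J t)).det) ≠ 0 →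
      (∀ e, ∑ j, c j * χ (Ψ e j) = 0) → MvPolynomial.eval c g = 0) :
    ∃ q : MvPolynomial (Fin m) k, ¬ g ∣ q ∧ ∀ (χ : A →ₐ[k] k) (c : Fin m → k),
      χ (a0 * (Matrix.of fun e t => Ψ e (J t)).det) ≠ 0 → (∀ e, ∑ j, c j * χ (Ψ e j) = 0) →
      MvPolynomial.eval c q ≠ 0 →
      ∀ (θ : A →ₐ[k] DualNumber k), (∀ x, TrivSqZeroExt.fst (θ x) = χ x) → ∀ G : Fin m → k,
        (∀ e, ∑ j, (TrivSqZeroExt.inl (c j) + TrivSqZeroExt.inr (G j)) * θ (Ψ e j) = 0) →
          (∑ j, G j * MvPolynomial.eval c (MvPolynomial.pderiv j g) = 0) ∧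
          (G = 0 → ∀ l, TrivSqZeroExt.snd (θ (y l)) = 0) := by
  classical
  obtain ⟨β, hβ⟩ := exists_pderiv_not_dvd hg
  obtain ⟨C, _, _, _, _, incl, img, r, w, hr, hw, heq, hzero, hlift⟩ := exists_solution Ψ J hdet a0 ha0 v hv
  let φ : MvPolynomial (Fin m) k →ₐ[k] C := MvPolynomial.aeval img
  set a := a0 * (Matrix.of fun e t => Ψ e (J t)).det with ha
  have hag : incl a * φ g = 0 := by
    refine hzero _ fun Θ => ?_
    rw [map_mul]
    by_cases hz : Θ (incl a) = 0
    · rw [hz, zero_mul]
    · refine mul_eq_zero_of_right _ ?_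
      rw [← AlgHom.comp_apply, MvPolynomial.comp_aeval, MvPolynomial.aeval_eq_eval]
      refine hvan (Θ.comp incl) _ hz fun e => ?_
      have := congrArg Θ (heq e)
      simpa [map_sum] using this
  have hincl : incl a ≠ 0 := fun h0 => by
    obtain ⟨χ, hχ⟩ : ∃ χ : A →ₐ[k] k, χ a ≠ 0 := by
      by_contra hc
      push Not at hc
      have hane : a ≠ 0 := mul_ne_zero ha0 hdet
      refine hane (MvPolynomial.C_eq_zero.1 (eq_zero_of_forall_eval (k := k) (σ := Fin 0) fun χ t => ?_))
      rw [MvPolynomial.eval₂_C]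
      exact hc χ
    obtain ⟨Θ, hΘ, -⟩ := hlift k χ 0 (isUnit_iff_ne_zero.2 hχ) (by simp)
    exact hχ (by rw [← hΘ, AlgHom.comp_apply, h0, map_zero])
  have hφg : φ g = 0 := (mul_eq_zero.1 hag).resolve_left hincl
  let τ := {l : Fin m // l ≠ β}
  let ψ : MvPolynomial τ k →ₐ[k] C := φ.comp (MvPolynomial.rename Subtype.val)
  have conc : ∀ {θ : A →ₐ[k] DualNumber k} {χ : A →ₐ[k] k} {c G : Fin m → k},
      χ a ≠ 0 → (∀ x, TrivSqZeroExt.fst (θ x) = χ x) →
      (∀ e, ∑ j, (TrivSqZeroExt.inl (c j) + TrivSqZeroExt.inr (G j)) * θ (Ψ e j) = 0) →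
      ∃ Θ : C →ₐ[k] DualNumber k, Θ.comp incl = θ ∧
        ∀ j, Θ (img j) = TrivSqZeroExt.inl (c j) + TrivSqZeroExt.inr (G j) := by
    intro θ χ c G hχ hfst hsys
    refine hlift (DualNumber k) θ _ ?_ hsys
    rw [TrivSqZeroExt.isUnit_iff_isUnit_fst, hfst]
    exact isUnit_iff_ne_zero.2 hχ
  have taylor : ∀ (p : MvPolynomial (Fin m) k) (c G : Fin m → k),
      MvPolynomial.aeval (fun j => (TrivSqZeroExt.inl (c j) + TrivSqZeroExt.inr (G j) : DualNumber k)) p =
        TrivSqZeroExt.inl (MvPolynomial.eval c p) +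
          TrivSqZeroExt.inr (∑ j, G j * MvPolynomial.eval c (MvPolynomial.pderiv j p)) := by
    intro p c G
    induction p using MvPolynomial.induction_on with
    | C b => simp [TrivSqZeroExt.algebraMap_eq_inl]
    | add p q hp hq =>
      rw [map_add, hp, hq]
      refine TrivSqZeroExt.ext ?_ ?_ <;> simp [mul_add, Finset.sum_add_distrib]
    | mul_X p t hp =>
      rw [map_mul, hp, MvPolynomial.aeval_X]
      refine TrivSqZeroExt.ext ?_ ?_
      · simp
      · simp [MvPolynomial.pderiv_mul, MvPolynomial.pderiv_X, Pi.single_apply, mul_add, Finset.sum_add_distrib,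
          apply_ite, Finset.sum_mul, Finset.mul_sum, mul_comm, mul_left_comm]
  by_cases hinj : ∀ p, ψ p = 0 → p = 0
  swap
  · push Not at hinj
    obtain ⟨p, hp, hp0⟩ := hinj
    refine ⟨MvPolynomial.rename Subtype.val p, fun hd => hp0 (eq_zero_of_dvd_rename hg hβ p hd),
      fun χ c hχ hsys hq => ?_⟩
    obtain ⟨Θ, -, hΘ⟩ := hlift k χ c (isUnit_iff_ne_zero.2 hχ) hsys
    refine absurd ?_ hq
    have := congrArg Θ hp
    rwa [map_zero, show ψ p = φ (MvPolynomial.rename Subtype.val p) from rfl, ← AlgHom.comp_apply,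
      MvPolynomial.comp_aeval, MvPolynomial.aeval_eq_eval, show (fun j => Θ (img j)) = c from funext hΘ] at this
  -- every element is algebraic over the other coefficients
  have hτ : Fintype.card τ + 1 = m := by
    have h2 : Fintype.card τ = m - 1 := by simp [τ, Fintype.card_subtype_compl]
    have := β.pos
    omega
  have halg : ∀ z : C, ∃ P : Polynomial (MvPolynomial τ k), P ≠ 0 ∧ Polynomial.eval₂ ψ.toRingHom z P = 0 := by
    intro z
    by_contra hc
    push Not at hc
    let G : Polynomial (MvPolynomial τ k) →ₐ[k] C :=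
      { Polynomial.eval₂RingHom ψ.toRingHom z with
        commutes' := fun x => (Polynomial.eval₂_C ψ.toRingHom z).trans (ψ.commutes x) }
    let eτ := MvPolynomial.renameEquiv k (Fintype.equivFin τ)
    let g' := G.comp ((Polynomial.mapAlgEquiv eτ.symm).toAlgHom.comp (MvPolynomial.finSuccEquiv k (Fintype.card τ)).toAlgHom)
    have hg' : Function.Injective g' := (injective_iff_map_eq_zero g').2 fun q hq => by
      have h1 : (Polynomial.mapAlgEquiv eτ.symm) ((MvPolynomial.finSuccEquiv k (Fintype.card τ)) q) = 0 := by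
        by_contra hne
        exact hc _ hne hq
      exact (MvPolynomial.finSuccEquiv k _).injective
        (((Polynomial.mapAlgEquiv eτ.symm).injective (h1.trans (map_zero _).symm)).trans (map_zero _).symm)
    have hle := Var76.KaehlerGen.le_of_injective k C g' hg' w hw
    omega
  have hsep : ∀ z : C, ∃ P : Polynomial (MvPolynomial τ k), Polynomial.eval₂ ψ.toRingHom z P = 0 ∧
      Polynomial.eval₂ ψ.toRingHom z P.derivative ≠ 0 := by
    intro z
    obtain ⟨P, hP0, hP⟩ := halg z
    induction hd : P.natDegree using Nat.strong_induction_on generalizing P with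
    | _ D ih =>
      by_cases h' : Polynomial.eval₂ ψ.toRingHom z P.derivative = 0
      swap
      · exact ⟨P, hP, h'⟩
      have hdeg : P.natDegree ≠ 0 := fun h0 => by
        rw [Polynomial.eq_C_of_natDegree_eq_zero h0, Polynomial.eval₂_C] at hP
        refine hP0 ?_
        rw [Polynomial.eq_C_of_natDegree_eq_zero h0, hinj _ hP, map_zero]
      refine ih _ (hd ▸ Polynomial.natDegree_derivative_lt hdeg) P.derivative (fun h0 => hdeg ?_) h' rfl
      exact Polynomial.natDegree_eq_zero_of_derivative_eq_zero h0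
  choose P hP hP' using fun l => hsep (incl (y l))
  let h : C := ∏ l, Polynomial.eval₂ ψ.toRingHom (incl (y l)) (P l).derivative
  have hh : h ≠ 0 := Finset.prod_ne_zero_iff.2 fun l _ => hP' l
  obtain ⟨Q, hQ0, hQ⟩ := halg h
  obtain ⟨b, hb0, hb⟩ : ∃ b : MvPolynomial τ k, b ≠ 0 ∧ ψ b ∈ Ideal.span {h} := by
    induction Q using Polynomial.recOnHorner with
    | M0 => exact absurd rfl hQ0
    | MC q c hq hc0 _ =>
      refine ⟨c, hc0, ?_⟩
      obtain ⟨q', rfl⟩ := Polynomial.X_dvd_iff.2 hq
      rw [Polynomial.eval₂_add, Polynomial.eval₂_mul, Polynomial.eval₂_X, Polynomial.eval₂_C] at hQ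
      rw [show ψ c = ψ.toRingHom c from rfl, eq_neg_of_add_eq_zero_right hQ, Ideal.mem_span_singleton']
      exact ⟨-Polynomial.eval₂ ψ.toRingHom h q', by ring⟩
    | MX q hq ih =>
      rw [Polynomial.eval₂_mul, Polynomial.eval₂_X, mul_eq_zero] at hQ
      exact ih hq (hQ.resolve_right hh)
  refine ⟨MvPolynomial.rename Subtype.val b, fun hd => hb0 (eq_zero_of_dvd_rename hg hβ b hd),
    fun χ c hχ hsys hq θ hfst G hG => ?_⟩
  obtain ⟨Θ, hcomp, hΘ⟩ := conc hχ hfst hG
  have hev : ∀ p, Θ (φ p) = TrivSqZeroExt.inl (MvPolynomial.eval c p) +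
      TrivSqZeroExt.inr (∑ j, G j * MvPolynomial.eval c (MvPolynomial.pderiv j p)) := fun p => by
    rw [← taylor, ← AlgHom.comp_apply, MvPolynomial.comp_aeval]
    exact congrArg (fun f => MvPolynomial.aeval f p) (funext hΘ)
  refine ⟨?_, fun hG0 l => ?_⟩
  · have := congrArg TrivSqZeroExt.snd ((hev g).symm.trans (by rw [hφg, map_zero]))
    simpa using this
  · subst hG0
    let z := incl (y l)
    have hψ : ∀ p, Θ (ψ p) = algebraMap k (DualNumber k) (MvPolynomial.eval c (MvPolynomial.rename Subtype.val p)) := fun p => by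
      refine (hev _).trans ?_
      simp [TrivSqZeroExt.algebraMap_eq_inl]
    let ev : MvPolynomial τ k →+* k := (MvPolynomial.eval c).comp (MvPolynomial.rename Subtype.val).toRingHom
    have hpush : ∀ Q : Polynomial (MvPolynomial τ k), Θ (Polynomial.eval₂ ψ.toRingHom z Q) =
        Polynomial.eval₂ (algebraMap k (DualNumber k)) (Θ z) (Q.map ev) := fun Q => by
      refine (Polynomial.hom_eval₂ Q ψ.toRingHom Θ.toRingHom z).trans ?_
      rw [Polynomial.eval₂_map]
      congr 1
      exact RingHom.ext hψ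
    set x := TrivSqZeroExt.fst (Θ z) with hx
    set dx := TrivSqZeroExt.snd (Θ z) with hdx
    have htay : ∀ Q : Polynomial k, Polynomial.eval₂ (algebraMap k (DualNumber k)) (Θ z) Q =
        TrivSqZeroExt.inl (Q.eval x) + TrivSqZeroExt.inr (Q.derivative.eval x * dx) := fun Q => by
      induction Q using Polynomial.induction_on with
      | C b => simp [TrivSqZeroExt.algebraMap_eq_inl]
      | add p q hp hq =>
        rw [Polynomial.eval₂_add, hp, hq]
        refine TrivSqZeroExt.ext ?_ ?_ <;> simp [add_mul]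
      | monomial e b hp =>
        rw [pow_succ, ← mul_assoc, Polynomial.eval₂_mul, hp, Polynomial.eval₂_X]
        refine TrivSqZeroExt.ext ?_ ?_
        · simp [x]
        · simp [x, dx, Polynomial.derivative_mul]; ring
    have hne : TrivSqZeroExt.fst (Θ (Polynomial.eval₂ ψ.toRingHom z (P l).derivative)) ≠ 0 := by
      obtain ⟨u, hu⟩ := Ideal.mem_span_singleton'.1 hb
      have hfb : TrivSqZeroExt.fst (Θ (ψ b)) ≠ 0 := by
        rw [hψ]; simpa [TrivSqZeroExt.algebraMap_eq_inl] using hq
      have hfh : TrivSqZeroExt.fst (Θ h) ≠ 0 := fun h0 => hfb (by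
        rw [← hu, map_mul, TrivSqZeroExt.fst_mul, h0, mul_zero])
      rw [map_prod, show TrivSqZeroExt.fst (∏ l, Θ (Polynomial.eval₂ ψ.toRingHom (incl (y l)) (P l).derivative)) =
        ∏ l, TrivSqZeroExt.fst (Θ (Polynomial.eval₂ ψ.toRingHom (incl (y l)) (P l).derivative)) from
          map_prod (TrivSqZeroExt.fstHom k k k) _ _] at hfh
      exact Finset.prod_ne_zero_iff.1 hfh l (Finset.mem_univ l)
    rw [hpush, htay, Polynomial.derivative_map] at *
    have h0 := congrArg (fun t => TrivSqZeroExt.snd (Θ t)) (hP l)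
    simp only [show incl (y l) = z from rfl, hpush, htay, map_zero, TrivSqZeroExt.snd_add, TrivSqZeroExt.snd_inl, TrivSqZeroExt.snd_inr, zero_add,
      TrivSqZeroExt.snd_zero, Polynomial.derivative_map] at h0
    simp only [TrivSqZeroExt.fst_add, TrivSqZeroExt.fst_inl, TrivSqZeroExt.fst_inr, add_zero] at hne
    have hdx0 : dx = 0 := (mul_eq_zero.1 h0).resolve_left hne
    rw [← hcomp]
    exact hdx0

end Groth.Agent.An92.Lef
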