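import Groth.Agent.An92.Lef.HypIdeal
import Groth.Agent.Var76.HypSection

/-! The dehomogenisation of a form as a polynomial in the affine coordinates, and the section ideal. -/

universe u

open CategoryTheory CategoryTheory.Limits AlgebraicGeometry Opposite TopologicalSpace

noncomputable section

set_option backward.isDefEq.respectTransparency false

namespace Groth.Agent.An92.Lef

open LefPen Groth.Agent.Var76 Groth.Agent.Var76.BertiniScheme HomogeneousLocalization

variable {k : Type u} [Field k] {r : ℕ}

theorem dehom_eq_eval₂ {d : ℕ} (G : Form r k d) (j : Fin (r + 1)) :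
    dehom G j = MvPolynomial.eval₂ (const (k := k) (CohB1.ProjSpace r k) (ProjCoord.U k r j))
      (fun l => Proj.awayToSection (CohB1.polyGrading r k) (MvPolynomial.X j)
        (ProjCoord.frac k r j (ProjCoord.X₁ k r l))) G.1 := by
  let 𝒜 := CohB1.polyGrading r k
  let f : MvPolynomial (Fin (r + 1)) k := MvPolynomial.X j
  let a := Proj.awayToSection 𝒜 f
  let cst : k →+* Away 𝒜 f := (fromZeroRingHom 𝒜 _).comp (algebraMap k (𝒜 0))
  have hc : const (k := k) (CohB1.ProjSpace r k) (ProjCoord.U k r j) = a.hom.comp cst :=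
    congrArg CommRingCat.Hom.hom (ProjCoord.const_eq k r j)
  rw [hc]
  show _ = MvPolynomial.eval₂ (a.hom.comp cst) (a.hom ∘ fun l => ProjCoord.frac k r j (ProjCoord.X₁ k r l)) G.1
  rw [← MvPolynomial.eval₂_comp_left a.hom cst]
  refine congrArg a.hom (HomogeneousLocalization.val_injective _ ?_)
  let L := Localization (Submonoid.powers f)
  let v : Away 𝒜 f →+* L := algebraMap (Away 𝒜 f) L
  show _ = v _
  rw [MvPolynomial.eval₂_comp_left v, HomogeneousLocalization.Away.val_mk, Localization.mk_eq_mk',
    eq_comm, IsLocalization.eq_mk'_iff_mul_eq]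
  have hdeg : G.1.IsHomogeneous d := G.2
  have hv : ∀ i, v (ProjCoord.frac k r j (ProjCoord.X₁ k r i)) * algebraMap _ L f =
      algebraMap _ L (MvPolynomial.X i) := fun i => by
    show (ProjCoord.frac k r j (ProjCoord.X₁ k r i)).val * _ = _
    rw [ProjCoord.frac, HomogeneousLocalization.val_mk, Localization.mk_eq_mk']
    exact IsLocalization.mk'_spec _ _ _
  have hcst : ∀ c, v (cst c) = algebraMap _ L (MvPolynomial.C c) := fun c => by
    show (cst c).val = _
    exact (Localization.mk_one_eq_algebraMap _)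
  show MvPolynomial.eval₂ (v.comp cst) (v ∘ fun i => ProjCoord.frac k r j (ProjCoord.X₁ k r i)) G.1 *
    algebraMap _ L (f ^ d) = algebraMap _ L G.1
  conv_rhs => rw [G.1.as_sum, map_sum]
  rw [MvPolynomial.eval₂_eq, Finset.sum_mul]
  refine Finset.sum_congr rfl fun e he => ?_
  have he' : e.degree = d := by
    by_contra hne
    exact MvPolynomial.mem_support_iff.1 he (hdeg.coeff_eq_zero hne)
  rw [MvPolynomial.monomial_eq, map_mul, RingHom.comp_apply, hcst, mul_assoc, map_pow,
    show algebraMap _ L f ^ d = algebraMap (MvPolynomial (Fin (r + 1)) k) L f ^ e.degree by rw [he'],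
    Finsupp.degree_apply, ← Finset.prod_pow_eq_pow_sum, ← Finset.prod_mul_distrib, Finsupp.prod, map_prod]
  refine congrArg _ (Finset.prod_congr rfl fun i _ => ?_)
  rw [map_pow, Function.comp_apply, ← mul_pow, hv]

variable {X : Scheme.{u}} (i : X ⟶ CohB1.ProjSpace r k)

/-- The piece of `X` over a standard chart. -/
abbrev piece (j : Fin (r + 1)) : X.Opens := i ⁻¹ᵁ ProjCoord.U k r j

theorem isAffineOpen_piece [IsAffineHom i] (j : Fin (r + 1)) : IsAffineOpen (piece i j) :=
  (ProjCoord.isAffineOpen_U k r j).preimage i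

theorem iSup_piece : ⨆ j, piece i j = ⊤ :=
  eq_top_iff.2 fun x _ => Opens.mem_iSup.2 (ProjCoord.exists_mem_U k r (i x))

/-- The structure over `Spec k` induced by an embedding. -/
abbrev overOf : X.Over (Spec (CommRingCat.of k)) := ⟨i ≫ CohB1.ProjSpace.toSpec r k⟩

/-- The constants on a piece. -/
def pconst (j : Fin (r + 1)) : k →+* Γ(X, piece i j) :=
  letI := overOf i
  const (k := k) X (piece i j)

/-- The affine coordinates on a piece. -/
def pcoord (j : Fin (r + 1)) (l : Fin (r + 1)) : Γ(X, piece i j) :=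
  ProjCoord.coord i j (ProjCoord.X₁ k r l)

/-- The function cut by a form on a piece. -/
def pform (j : Fin (r + 1)) {d : ℕ} (G : Form r k d) : Γ(X, piece i j) :=
  i.app (ProjCoord.U k r j) (dehom G j)

theorem pform_eq (j : Fin (r + 1)) {d : ℕ} (G : Form r k d) :
    pform i j G = MvPolynomial.eval₂ (pconst i j) (pcoord i j) G.1 := by
  letI := overOf i
  rw [pform, dehom_eq_eval₂]
  show (i.app (ProjCoord.U k r j)).hom _ = _
  rw [MvPolynomial.eval₂_comp_left (i.app (ProjCoord.U k r j)).hom]
  congr 1
  exact RingHom.ext fun c => ProjCoord.app_const i rfl _ c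

theorem pcoord_self (j : Fin (r + 1)) : pcoord i j j = 1 := ProjCoord.coord_self i j

theorem adjoin_pcoord [IsClosedImmersion i] (j : Fin (r + 1)) :
    letI := (pconst i j).toAlgebra
    Algebra.adjoin k (Set.range (pcoord i j)) = ⊤ :=
  letI := overOf i
  ProjCoord.adjoin_coord i rfl j

/-- The ideal of a section on a piece. -/
theorem secIdeal_piece [IsClosedImmersion i] {d : ℕ} (s : Set (Form r k d)) (j : Fin (r + 1)) :
    (secIdeal i s).ideal ⟨piece i j, isAffineOpen_piece i j⟩ = Ideal.span (pform i j '' s) := by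
  refine (HypSection.ideal_comap i _ ⟨ProjCoord.U k r j, ProjCoord.isAffineOpen_U k r j⟩).trans ?_
  rw [Scheme.IdealSheafData.ideal_iSup, iSup_apply]
  simp only [Scheme.IdealSheafData.ideal_iSup, iSup_apply]
  simp only [Ideal.map_iSup]
  rw [← Set.biUnion_of_singleton (pform i j '' s), Set.biUnion_image]
  simp only [Ideal.span_iUnion]
  refine iSup_congr fun G => ?_
  by_cases hG : G ∈ s
  · simp only [iSup_pos hG]
    exact (congrArg (Ideal.map (i.app (ProjCoord.U k r j)).hom) (hypIdeal_chart G j)).trans
      ((Ideal.map_span _ _).trans (by rw [Set.image_singleton]; rfl))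
  · simp only [iSup_neg hG]
    exact Ideal.map_bot

end Groth.Agent.An92.Lef
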