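import Groth.Agent.An92.Lef.LocalRing
import Groth.Agent.An92.MorseD.Form

/-! Two points of a smooth algebra near the diagonal. -/

universe u

open scoped TensorProduct
open KaehlerDifferential

noncomputable section

set_option backward.isDefEq.respectTransparency false

namespace Groth.Agent.An92.Lef

open Matrix

variable {k A : Type u} [Field k] [CommRing A] [Algebra k A] {ι : Type} [Fintype ι]

/-- The difference of the two coordinates. -/
def dz (f : A) : A ⊗[k] A := (1 : A) ⊗ₜ[k] f - f ⊗ₜ[k] (1 : A)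

/-- Evaluation at a pair of points. -/
def evalPair (χ χ' : A →ₐ[k] k) : A ⊗[k] A →ₐ[k] k := Algebra.TensorProduct.lift χ χ' (fun _ _ => .all _ _)

/-- Evaluation of the first point. -/
def sliceMap (χ : A →ₐ[k] k) : A ⊗[k] A →ₐ[k] A :=
  Algebra.TensorProduct.lift ((Algebra.ofId k A).comp χ) (AlgHom.id k A) (fun _ _ => .all _ _)

theorem evalPair_dz (χ χ' : A →ₐ[k] k) (f : A) : evalPair χ χ' (dz f) = χ' f - χ f := by
  simp [evalPair, dz]

theorem sliceMap_dz (χ : A →ₐ[k] k) (f : A) : sliceMap χ (dz f) = f - algebraMap k A (χ f) := by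
  simp [sliceMap, dz]

theorem algHom_sliceMap (χ : A →ₐ[k] k) (b : A ⊗[k] A) : χ (sliceMap χ b) = evalPair χ χ b := by
  have : χ.comp (sliceMap χ) = evalPair χ χ := by
    apply Algebra.TensorProduct.ext'
    intro a b
    simp [sliceMap, evalPair]
  exact DFunLike.congr_fun this b

variable (y : ι → A) (hy : Algebra.adjoin k (Set.range y) = ⊤)
include hy

theorem dz_mem_span (f : A) : dz (k := k) f ∈ Ideal.span (Set.range fun l => dz (k := k) (y l)) := by
  have hf : f ∈ Algebra.adjoin k (Set.range y) := by rw [hy]; trivial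
  induction hf using Algebra.adjoin_induction with
  | mem x hx => obtain ⟨l, rfl⟩ := hx; exact Ideal.subset_span ⟨l, rfl⟩
  | algebraMap c =>
    rw [dz, Algebra.TensorProduct.tmul_one_eq_one_tmul, sub_self]
    exact zero_mem _
  | add a b _ _ ha hb =>
    rw [show dz (k := k) (a + b) = dz a + dz b by simp only [dz, TensorProduct.tmul_add, TensorProduct.add_tmul]; abel]
    exact add_mem ha hb
  | mul a b _ _ ha hb =>
    rw [show dz (k := k) (a * b) = ((1 : A) ⊗ₜ[k] a) * dz b + (b ⊗ₜ[k] (1 : A)) * dz a by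
      simp only [dz, mul_sub, Algebra.TensorProduct.tmul_mul_tmul, one_mul, mul_one, mul_comm b a]; abel]
    exact add_mem (Ideal.mul_mem_left _ _ hb) (Ideal.mul_mem_left _ _ ha)

theorem ideal_eq_span : KaehlerDifferential.ideal k A = Ideal.span (Set.range fun l => dz (k := k) (y l)) := by
  refine le_antisymm ?_ (Ideal.span_le.2 ?_)
  · rw [← KaehlerDifferential.span_range_eq_ideal, Ideal.span_le]
    rintro _ ⟨f, rfl⟩
    exact dz_mem_span y hy f
  · rintro _ ⟨l, rfl⟩
    exact KaehlerDifferential.one_smul_sub_smul_one_mem_ideal k (y l)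

theorem exists_first (f : A) : ∃ G : ι → A ⊗[k] A, dz (k := k) f = ∑ l, G l * dz (y l) := by
  obtain ⟨G, hG⟩ := Ideal.mem_span_range_iff_exists_fun.1 (dz_mem_span y hy f)
  exact ⟨G, hG.symm⟩

theorem span_D_eq_top : Submodule.span A (Set.range fun l => D k A (y l)) = ⊤ := by
  rw [eq_top_iff, ← KaehlerDifferential.span_range_derivation, Submodule.span_le]
  rintro _ ⟨f, rfl⟩
  have hf : f ∈ Algebra.adjoin k (Set.range y) := by rw [hy]; trivial
  induction hf using Algebra.adjoin_induction with
  | mem x hx => obtain ⟨l, rfl⟩ := hx; exact Submodule.subset_span ⟨l, rfl⟩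
  | algebraMap c => rw [Derivation.map_algebraMap]; exact zero_mem _
  | add a b _ _ ha hb => rw [map_add]; exact add_mem ha hb
  | mul a b _ _ ha hb =>
    rw [Derivation.leibniz]
    exact add_mem (Submodule.smul_mem _ _ hb) (Submodule.smul_mem _ _ ha)

theorem exists_dualDer [Algebra.Smooth k A] :
    ∃ Δ : ι → Derivation k A A, ∀ f, D k A f = ∑ l, Δ l f • D k A (y l) := by
  let π : (ι → A) →ₗ[A] Ω[A⁄k] := Fintype.linearCombination A fun l => D k A (y l)
  have hπ : Function.Surjective π := by
    rw [← LinearMap.range_eq_top, Fintype.range_linearCombination, span_D_eq_top y hy]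
  obtain ⟨s, hs⟩ := Module.projective_lifting_property π LinearMap.id hπ
  refine ⟨fun l => ((LinearMap.proj l).comp s).compDer (D k A), fun f => ?_⟩
  conv_lhs => rw [show D k A f = π (s (D k A f)) from (LinearMap.congr_fun hs _).symm]
  exact Fintype.linearCombination_apply _ _ _

theorem exists_second (Δ : ι → Derivation k A A) (hΔ : ∀ f, D k A f = ∑ l, Δ l f • D k A (y l)) (f : A) :
    ∃ G : ι → ι → A ⊗[k] A,
      dz (k := k) f - ∑ l, (Δ l f ⊗ₜ[k] (1 : A)) * dz (y l) = ∑ a, ∑ b, G a b * (dz (y a) * dz (y b)) := by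
  classical
  set I := KaehlerDifferential.ideal k A with hI
  have hm : ∀ g : A, dz (k := k) g ∈ I := fun g => KaehlerDifferential.one_smul_sub_smul_one_mem_ideal k g
  let T : I := ⟨dz f, hm f⟩ - ∑ l, (Δ l f ⊗ₜ[k] (1 : A)) • (⟨dz (y l), hm (y l)⟩ : I)
  have hsq : (T : A ⊗[k] A) ∈ I ^ 2 := by
    rw [← Ideal.toCotangent_eq_zero]
    simp only [T, map_sub, map_sum, map_smul]
    rw [show I.toCotangent ⟨dz f, hm f⟩ = D k A f from rfl, sub_eq_zero, hΔ f]
    refine Finset.sum_congr rfl fun l _ => ?_
    exact (algebraMap_smul (A ⊗[k] A) (Δ l f) (I.toCotangent ⟨dz (y l), hm (y l)⟩)).symm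
  have hv : (T : A ⊗[k] A) = dz f - ∑ l, (Δ l f ⊗ₜ[k] (1 : A)) * dz (y l) := by
    simp only [T, AddSubgroupClass.coe_sub, AddSubmonoidClass.coe_finset_sum, Submodule.coe_smul, smul_eq_mul]
  rw [← hv]
  have hsq' : (T : A ⊗[k] A) ∈
      (Ideal.span (Set.range fun l => dz (k := k) (y l))) * Ideal.span (Set.range fun l => dz (k := k) (y l)) := by
    rw [← pow_two, ← ideal_eq_span y hy]; exact hsq
  refine Submodule.mul_induction_on hsq' (fun a ha b hb => ?_) (fun a b ⟨G, hG⟩ ⟨G', hG'⟩ => ⟨G + G', ?_⟩)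
  · obtain ⟨G, rfl⟩ := Ideal.mem_span_range_iff_exists_fun.1 ha
    obtain ⟨G', rfl⟩ := Ideal.mem_span_range_iff_exists_fun.1 hb
    refine ⟨fun a b => G a * G' b, ?_⟩
    rw [Finset.sum_mul_sum]
    exact Finset.sum_congr rfl fun a _ => Finset.sum_congr rfl fun b _ => by ring
  · rw [hG, hG', ← Finset.sum_add_distrib]
    refine Finset.sum_congr rfl fun c _ => ?_
    rw [← Finset.sum_add_distrib]
    exact Finset.sum_congr rfl fun e _ => by simp only [Pi.add_apply, add_mul]

omit hy

theorem sum_comm4 {α γ M : Type*} [Fintype α] [Fintype γ] [AddCommMonoid M] (F : α → α → γ → γ → M) :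
    ∑ a, ∑ b, ∑ p, ∑ q, F a b p q = ∑ p, ∑ q, ∑ a, ∑ b, F a b p q :=
  ((Finset.sum_congr rfl fun _ _ => Finset.sum_comm).trans Finset.sum_comm).trans
    (Finset.sum_congr rfl fun _ _ => (Finset.sum_congr rfl fun _ _ => Finset.sum_comm).trans Finset.sum_comm)

/-- The data describing pairs of points near the diagonal. -/
structure DiagData {β : Type} (f : β → A) where
  /-- dual derivations -/
  Δ : ι → Derivation k A A
  /-- second order terms of the coordinates -/
  GY : ι → ι → ι → A ⊗[k] A
  /-- first order terms of the derivatives -/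
  G1 : ι → β → ι → A ⊗[k] A
  /-- second order terms of the functions -/
  G2 : β → ι → ι → A ⊗[k] A
  eqY : ∀ i, dz (k := k) (y i) - ∑ l, (Δ l (y i) ⊗ₜ[k] (1 : A)) * dz (y l) =
    ∑ a, ∑ b, GY i a b * (dz (y a) * dz (y b))
  eq1 : ∀ a e, dz (k := k) (Δ a (f e)) = ∑ l, G1 a e l * dz (y l)
  eq2 : ∀ e, dz (k := k) (f e) - ∑ l, (Δ l (f e) ⊗ₜ[k] (1 : A)) * dz (y l) =
    ∑ a, ∑ b, G2 e a b * (dz (y a) * dz (y b))

include hy in
theorem exists_diagData [Algebra.Smooth k A] {β : Type} (f : β → A) : Nonempty (DiagData (k := k) y f) := by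
  obtain ⟨Δ, hΔ⟩ := exists_dualDer y hy
  choose GY hGY using fun i => exists_second y hy Δ hΔ (y i)
  choose G1 hG1 using fun a e => exists_first y hy (Δ a (f e))
  choose G2 hG2 using fun e => exists_second y hy Δ hΔ (f e)
  exact ⟨⟨Δ, GY, G1, G2, hGY, hG1, hG2⟩⟩

variable {y} {β : Type} [Fintype β] {f : β → A} (S : DiagData (k := k) y f)

/-- The matrix of the tangency condition. -/
def DiagData.tMat (χ χ' : A →ₐ[k] k) (i l : ι) : k :=
  χ (S.Δ l (y i)) + ∑ b, evalPair χ χ' (S.GY i l b) * (χ' (y b) - χ (y b))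

/-- The equations of a direction joining two tangency points. -/
def DiagData.Sol (c : β → k) (χ χ' : A →ₐ[k] k) (δ : ι → k) : Prop :=
  (∀ i, δ i = ∑ l, S.tMat χ χ' i l * δ l) ∧
  (∀ a, ∑ l, (∑ e, c e * evalPair χ χ' (S.G1 a e l)) * δ l = 0) ∧
  (∑ a, ∑ b, (∑ e, c e * evalPair χ χ' (S.G2 e a b)) * (δ a * δ b) = 0)

theorem algHom_der_of_mem_sq {χ : A →ₐ[k] k} {a : A} (ha : a ∈ RingHom.ker χ.toRingHom ^ 2)
    (Δ : Derivation k A A) : χ (Δ a) = 0 := by
  rw [pow_two] at ha
  refine Submodule.mul_induction_on ha (fun a ha' b hb' => ?_) (fun a b ha' hb' => ?_)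
  · rw [Derivation.leibniz, map_add, smul_eq_mul, smul_eq_mul, map_mul, map_mul,
      show χ a = 0 from ha', show χ b = 0 from hb', zero_mul, zero_mul, add_zero]
  · rw [map_add, map_add, ha', hb', add_zero]

theorem DiagData.sol_sub (c : β → k) (χ χ' : A →ₐ[k] k)
    (h : ∑ e, c e • f e ∈ RingHom.ker χ.toRingHom ^ 2) (h' : ∑ e, c e • f e ∈ RingHom.ker χ'.toRingHom ^ 2) :
    S.Sol c χ χ' fun l => χ' (y l) - χ (y l) := by
  classical
  have hval : ∀ {ξ : A →ₐ[k] k}, ∑ e, c e • f e ∈ RingHom.ker ξ.toRingHom ^ 2 → ∑ e, c e * ξ (f e) = 0 := by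
    intro ξ hξ
    have h0 : ξ (∑ e, c e • f e) = 0 := Ideal.pow_le_self two_ne_zero hξ
    simpa [map_sum] using h0
  have hder : ∀ {ξ : A →ₐ[k] k}, ∑ e, c e • f e ∈ RingHom.ker ξ.toRingHom ^ 2 →
      ∀ a, ∑ e, c e * ξ (S.Δ a (f e)) = 0 := fun {ξ} hξ a => by
    have h0 := algHom_der_of_mem_sq hξ (S.Δ a)
    simpa [map_sum, Derivation.map_smul] using h0
  have hl : ∀ a b : A, evalPair χ χ' (a ⊗ₜ[k] b) = χ a * χ' b := fun a b => by simp [evalPair]
  refine ⟨fun i => ?_, fun a => ?_, ?_⟩
  · have e := congrArg (evalPair χ χ') (S.eqY i)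
    simp only [map_sub, map_sum, map_mul, evalPair_dz, hl, map_one, mul_one] at e
    simp only [DiagData.tMat, add_mul, Finset.sum_add_distrib, Finset.sum_mul]
    rw [sub_eq_iff_eq_add'] at e
    refine e.trans (congrArg₂ _ rfl ?_)
    exact Finset.sum_congr rfl fun a _ => Finset.sum_congr rfl fun b _ => by ring
  · have e := fun b => congrArg (evalPair χ χ') (S.eq1 a b)
    simp only [map_sum, map_mul, evalPair_dz] at e
    calc _ = ∑ b, c b * ∑ l, evalPair χ χ' (S.G1 a b l) * (χ' (y l) - χ (y l)) := by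
          simp only [Finset.sum_mul, Finset.mul_sum, mul_assoc]
          exact Finset.sum_comm
      _ = ∑ b, c b * (χ' (S.Δ a (f b)) - χ (S.Δ a (f b))) := by simp only [e]
      _ = 0 := by simp only [mul_sub, Finset.sum_sub_distrib, hder h a, hder h' a, sub_self]
  · have e := fun b => congrArg (evalPair χ χ') (S.eq2 b)
    simp only [map_sub, map_sum, map_mul, evalPair_dz, hl, map_one, mul_one] at e
    calc _ = ∑ b, c b * ∑ i, ∑ l, evalPair χ χ' (S.G2 b i l) * ((χ' (y i) - χ (y i)) * (χ' (y l) - χ (y l))) := by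
          simp only [Finset.sum_mul, Finset.mul_sum, mul_assoc]
          exact (Finset.sum_congr rfl fun _ _ => Finset.sum_comm).trans Finset.sum_comm
      _ = ∑ b, c b * (χ' (f b) - χ (f b) - ∑ l, χ (S.Δ l (f b)) * (χ' (y l) - χ (y l))) := by simp only [e]
      _ = 0 := by
          simp only [mul_sub (c _), Finset.sum_sub_distrib (s := (Finset.univ : Finset β)), hval h, hval h', sub_self,
            zero_sub, neg_eq_zero, Finset.mul_sum, ← mul_assoc]
          rw [Finset.sum_comm]
          exact Finset.sum_eq_zero fun l _ => by rw [← Finset.sum_mul, hder h l, zero_mul]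

section Point

variable {n : ℕ} (hA : RingHom.Locally (RingHom.IsStandardSmoothOfRelativeDimension n) (algebraMap k A))
include hy hA

theorem DiagData.quadAt_iff (c : β → k) (χ : A →ₐ[k] k)
    (h : ∑ e, c e • f e ∈ RingHom.ker χ.toRingHom ^ 2) :
    QuadAt n χ (∑ e, c e • f e) ↔ ∀ δ, S.Sol c χ χ δ → δ = 0 := by
  classical
  set M := RingHom.ker χ.toRingHom with hM
  set φ := ∑ e, c e • f e with hφ
  obtain ⟨u, hu⟩ := exists_params hA χ
  let η : ι → A := fun l => y l - algebraMap k A (χ (y l))
  have hη : ∀ l, η l ∈ M := fun l => by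
    show χ (y l - algebraMap k A (χ (y l))) = 0
    rw [map_sub, χ.commutes]; simp
  choose T hT using fun l => hu.span hA (η l) (hη l)
  let U : Fin n → ι → k := fun e l => χ (S.Δ l (u e))
  have hslice : ∀ a : A, sliceMap χ (a ⊗ₜ[k] (1 : A)) = algebraMap k A (χ a) := fun a => by simp [sliceMap]
  have hres : ∀ b : A ⊗[k] A, sliceMap χ b - algebraMap k A (evalPair χ χ b) ∈ M := fun b => by
    show χ (sliceMap χ b - algebraMap k A (evalPair χ χ b)) = 0
    rw [map_sub, χ.commutes, algHom_sliceMap]; simp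
  have hηs : ∀ l, sliceMap χ (dz (y l)) = η l := fun l => sliceMap_dz χ (y l)
  -- the expansion of the parameters
  have hTU : ∀ e e', ∑ l, U e l * T l e' = if e = e' then 1 else 0 := by
    intro e e'
    obtain ⟨G, hG⟩ := exists_first y hy (u e)
    have h1 : u e - ∑ l, evalPair χ χ (G l) • η l ∈ M ^ 2 := by
      have hs := congrArg (sliceMap χ) hG
      rw [sliceMap_dz, show χ (u e) = 0 from hu.mem e, map_zero, sub_zero, map_sum] at hs
      conv => arg 2; rw [hs, ← Finset.sum_sub_distrib]
      refine Ideal.sum_mem _ fun l _ => ?_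
      rw [map_mul, hηs, Algebra.smul_def, ← sub_mul, pow_two]
      exact Ideal.mul_mem_mul (hres _) (hη l)
    have hd : ∀ l, evalPair χ χ (G l) • η l - evalPair χ χ (G l) • (∑ t, T l t • u t) ∈ M ^ 2 := fun l => by
      rw [← smul_sub, Algebra.smul_def]; exact Ideal.mul_mem_left _ _ (hT l)
    have h2 : u e - ∑ t, (∑ l, evalPair χ χ (G l) * T l t) • u t ∈ M ^ 2 := by
      have := add_mem h1 (Ideal.sum_mem (M ^ 2) (t := Finset.univ) fun l _ => hd l)
      rw [Finset.sum_sub_distrib, sub_add_sub_cancel] at this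
      simp only [Finset.smul_sum, smul_smul] at this
      rw [Finset.sum_comm] at this
      simpa only [Finset.sum_smul] using this
    have e3 : ∑ t, ((if e = t then (1 : k) else 0) - ∑ l, evalPair χ χ (G l) * T l t) • u t =
        u e - ∑ t, (∑ l, evalPair χ χ (G l) * T l t) • u t := by
      simp only [sub_smul, Finset.sum_sub_distrib, ite_smul, one_smul, zero_smul, Finset.sum_ite_eq,
        Finset.mem_univ, if_true]
    have h3 := hu.indep (fun t => (if e = t then (1 : k) else 0) - ∑ l, evalPair χ χ (G l) * T l t) (e3 ▸ h2)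
    have h4 := sub_eq_zero.1 (congrFun h3 e')
    -- derivatives
    have h5 : ∀ l, χ (S.Δ l (u e)) = ∑ t, evalPair χ χ (G t) * χ (S.Δ l (y t)) := fun l => by
      have := algHom_der_of_mem_sq h1 (S.Δ l)
      rw [map_sub, map_sub, sub_eq_zero, map_sum, map_sum] at this
      refine this.trans (Finset.sum_congr rfl fun t _ => ?_)
      rw [Derivation.map_smul, map_smul, smul_eq_mul]
      congr 1
      simp only [η, map_sub, Derivation.map_algebraMap, map_zero, sub_zero]
    have h6 : ∀ t, ∑ l, χ (S.Δ l (y t)) * T l e' = T t e' := fun t => by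
      have hs := congrArg (sliceMap χ) (S.eqY t)
      rw [map_sub, hηs, map_sum, map_sum] at hs
      have hq : η t - ∑ l, χ (S.Δ l (y t)) • η l ∈ M ^ 2 := by
        simp only [map_mul, hslice, hηs, ← Algebra.smul_def] at hs
        rw [hs]
        refine Ideal.sum_mem _ fun a _ => ?_
        rw [map_sum]
        refine Ideal.sum_mem _ fun b _ => ?_
        rw [map_mul, map_mul, hηs, hηs, pow_two]
        exact Ideal.mul_mem_left _ _ (Ideal.mul_mem_mul (hη a) (hη b))
      have hd' : ∀ l, χ (S.Δ l (y t)) • η l - χ (S.Δ l (y t)) • (∑ s, T l s • u s) ∈ M ^ 2 := fun l => by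
        rw [← smul_sub, Algebra.smul_def]; exact Ideal.mul_mem_left _ _ (hT l)
      have hq2 := sub_mem (add_mem hq (Ideal.sum_mem (M ^ 2) (t := Finset.univ) fun l _ => hd' l)) (hT t)
      rw [Finset.sum_sub_distrib, sub_add_sub_cancel] at hq2
      simp only [sub_sub_sub_cancel_left, Finset.smul_sum, smul_smul] at hq2
      rw [Finset.sum_comm] at hq2
      simp only [← Finset.sum_smul] at hq2
      have := hu.indep (fun s => T t s - ∑ l, χ (S.Δ l (y t)) * T l s) (by
        simpa only [sub_smul, Finset.sum_sub_distrib] using hq2)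
      exact (sub_eq_zero.1 (congrFun this e')).symm
    calc ∑ l, U e l * T l e' = ∑ t, evalPair χ χ (G t) * ∑ l, χ (S.Δ l (y t)) * T l e' := by
          simp only [U, h5, Finset.sum_mul, Finset.mul_sum, mul_assoc]
          exact Finset.sum_comm
      _ = _ := by simp only [h6]; exact h4.symm
  have hP : ∀ i l, χ (S.Δ l (y i)) = ∑ e, T i e * U e l := fun i l => by
    have := algHom_der_of_mem_sq (hT i) (S.Δ l)
    rw [map_sub, map_sub, sub_eq_zero] at this
    simp only [η, map_sub, Derivation.map_algebraMap, map_zero, sub_zero] at this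
    rw [this, map_sum, map_sum]
    simp [U]
  -- the quadratic part
  let g : ι → ι → k := fun a b => ∑ e, c e * evalPair χ χ (S.G2 e a b)
  let W : Matrix (Fin n) (Fin n) k := Matrix.of fun p q => ∑ a, ∑ b, g a b * (T a p * T b q)
  let q := Morse.symT W
  have hdd : ∀ a, ∑ e, c e * χ (S.Δ a (f e)) = 0 := fun a => by
    have h0 := algHom_der_of_mem_sq h (S.Δ a)
    simpa [hφ, map_sum, Derivation.map_smul] using h0
  have hval : ∑ e, c e * χ (f e) = 0 := by
    have h0 : χ φ = 0 := Ideal.pow_le_self two_ne_zero h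
    simpa [hφ, map_sum] using h0
  have hexp : φ - VanCyc.quadEval (fun a b => algebraMap k A (q a b)) u ∈ M ^ 3 := by
    have h1 : φ - ∑ a, ∑ b, algebraMap k A (g a b) * (η a * η b) ∈ M ^ 3 := by
      have hs : ∀ e, f e - algebraMap k A (χ (f e)) - ∑ l, algebraMap k A (χ (S.Δ l (f e))) * η l =
          ∑ a, ∑ b, sliceMap χ (S.G2 e a b) * (η a * η b) := fun e => by
        have := congrArg (sliceMap χ) (S.eq2 e)
        simpa only [map_sub, map_sum, map_mul, hslice, hηs, sliceMap_dz] using this
      have hφ' : φ = ∑ e, algebraMap k A (c e) * ∑ a, ∑ b, sliceMap χ (S.G2 e a b) * (η a * η b) := by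
        simp only [← hs, mul_sub (algebraMap k A (c _)), Finset.sum_sub_distrib (s := (Finset.univ : Finset β))]
        have e1 : ∑ e, algebraMap k A (c e) * algebraMap k A (χ (f e)) = 0 := by
          simp only [← map_mul, ← map_sum, hval, map_zero]
        have e2 : ∑ e, algebraMap k A (c e) * ∑ l, algebraMap k A (χ (S.Δ l (f e))) * η l = 0 := by
          simp only [Finset.mul_sum, ← mul_assoc, ← map_mul]
          rw [Finset.sum_comm]
          exact Finset.sum_eq_zero fun l _ => by rw [← Finset.sum_mul, ← map_sum, hdd, map_zero, zero_mul]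
        rw [e1, e2, sub_zero, sub_zero, hφ]
        simp only [Algebra.smul_def]
      conv => arg 2; rw [hφ']
      have hg : ∑ a, ∑ b, algebraMap k A (g a b) * (η a * η b) =
          ∑ e, algebraMap k A (c e) * ∑ a, ∑ b, algebraMap k A (evalPair χ χ (S.G2 e a b)) * (η a * η b) := by
        simp only [g, map_sum, map_mul, Finset.sum_mul, Finset.mul_sum, mul_assoc]
        rw [Finset.sum_congr rfl fun a _ => Finset.sum_comm, Finset.sum_comm]
      rw [hg, ← Finset.sum_sub_distrib]
      refine Ideal.sum_mem _ fun e _ => ?_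
      rw [← mul_sub, ← Finset.sum_sub_distrib]
      refine Ideal.mul_mem_left _ _ (Ideal.sum_mem _ fun a _ => ?_)
      rw [← Finset.sum_sub_distrib]
      refine Ideal.sum_mem _ fun b _ => ?_
      rw [← sub_mul, pow_succ', pow_two]
      exact Ideal.mul_mem_mul (hres _) (Ideal.mul_mem_mul (hη a) (hη b))
    let v : ι → A := fun l => ∑ t, T l t • u t
    have hv : ∀ l, v l ∈ M := fun l => Ideal.sum_mem _ fun t _ => by
      rw [Algebra.smul_def]; exact Ideal.mul_mem_left _ _ (hu.mem t)
    have h2 : (∑ a, ∑ b, algebraMap k A (g a b) * (η a * η b)) -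
        (∑ a, ∑ b, algebraMap k A (g a b) * (v a * v b)) ∈ M ^ 3 := by
      rw [← Finset.sum_sub_distrib]
      refine Ideal.sum_mem _ fun a _ => ?_
      rw [← Finset.sum_sub_distrib]
      refine Ideal.sum_mem _ fun b _ => ?_
      rw [← mul_sub, show η a * η b - v a * v b = (η a - v a) * η b + (η b - v b) * v a by ring]
      refine Ideal.mul_mem_left _ _ (add_mem ?_ ?_)
      · rw [pow_succ]; exact Ideal.mul_mem_mul (hT a) (hη b)
      · rw [pow_succ]; exact Ideal.mul_mem_mul (hT b) (hv a)
    have h3 : (∑ a, ∑ b, algebraMap k A (g a b) * (v a * v b)) =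
        VanCyc.quadEval (fun a b => algebraMap k A (q a b)) u := by
      rw [show (fun a b => algebraMap k A (q a b)) = Morse.symT (W.map (algebraMap k A)) from
        funext fun a => funext fun b => Morse.symT_map (algebraMap k A) W a b, Morse.quadEval_symT]
      simp only [v, W, dotProduct, Matrix.mulVec, Matrix.map_apply, Matrix.of_apply, map_sum, map_mul,
        Algebra.smul_def, Finset.mul_sum, Finset.sum_mul]
      rw [sum_comm4]
      refine Finset.sum_comm.trans (Finset.sum_congr rfl fun p _ => Finset.sum_congr rfl fun p' _ => ?_)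
      exact Finset.sum_congr rfl fun a _ => Finset.sum_congr rfl fun b _ => by ring
    rw [← h3, ← sub_add_sub_cancel φ (∑ a, ∑ b, algebraMap k A (g a b) * (η a * η b)) _]
    exact add_mem h1 h2
  -- the polar form
  let g1 : ι → ι → k := fun a l => ∑ e, c e * evalPair χ χ (S.G1 a e l)
  have hg1 : ∀ a p, ∑ l, g1 a l * T l p = ∑ e, U e a * VanCyc.polarMatrix q e p := by
    intro a p
    have h1 : S.Δ a φ - ∑ l, g1 a l • η l ∈ M ^ 2 := by
      have hs : ∀ e, S.Δ a (f e) - algebraMap k A (χ (S.Δ a (f e))) = ∑ l, sliceMap χ (S.G1 a e l) * η l := fun e => by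
        have := congrArg (sliceMap χ) (S.eq1 a e)
        simpa only [map_sum, map_mul, hηs, sliceMap_dz] using this
      have hφ' : S.Δ a φ = ∑ e, algebraMap k A (c e) * ∑ l, sliceMap χ (S.G1 a e l) * η l := by
        simp only [← hs, mul_sub, Finset.sum_sub_distrib, ← map_mul, ← map_sum, hdd, map_zero, sub_zero]
        simp [hφ, map_sum, Derivation.map_smul, Algebra.smul_def]
      conv => arg 2; rw [hφ']
      simp only [g1, Algebra.smul_def, map_sum, map_mul, Finset.sum_mul, Finset.mul_sum, ← mul_assoc]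
      rw [Finset.sum_comm (f := fun l e => algebraMap k A (c e) * algebraMap k A (evalPair χ χ (S.G1 a e l)) * η l),
        ← Finset.sum_sub_distrib]
      refine Ideal.sum_mem _ fun e _ => ?_
      rw [← Finset.sum_sub_distrib]
      refine Ideal.sum_mem _ fun l _ => ?_
      rw [← sub_mul, ← mul_sub, mul_assoc, pow_two]
      exact Ideal.mul_mem_left _ _ (Ideal.mul_mem_mul (hres _) (hη l))
    -- differentiate the expansion
    have hM3 : ∀ {x : A}, x ∈ M ^ 3 → S.Δ a x ∈ M ^ 2 := by
      intro x hx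
      rw [pow_succ] at hx
      refine Submodule.mul_induction_on hx (fun x hx y hy => ?_) (fun x y hx hy => by rw [map_add]; exact add_mem hx hy)
      rw [Derivation.leibniz, smul_eq_mul, smul_eq_mul]
      refine add_mem (Ideal.mul_mem_right _ _ hx) ?_
      rw [pow_two] at hx ⊢
      refine Ideal.mul_mem_mul hy ?_
      show χ (S.Δ a x) = 0
      exact algHom_der_of_mem_sq (by rwa [pow_two]) _
    have hpol : ∀ (s t : Fin n), S.Δ a (algebraMap k A (W s t) * (u s * u t)) -
        (algebraMap k A (W s t * U s a) * u t + algebraMap k A (W s t * U t a) * u s) ∈ M ^ 2 := by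
      intro s t
      rw [Derivation.leibniz, Derivation.map_algebraMap, smul_zero, add_zero, Derivation.leibniz, smul_eq_mul,
        smul_eq_mul, smul_eq_mul, map_mul, map_mul]
      rw [show algebraMap k A (W s t) * (u s * S.Δ a (u t) + u t * S.Δ a (u s)) -
          (algebraMap k A (W s t) * algebraMap k A (U s a) * u t + algebraMap k A (W s t) * algebraMap k A (U t a) * u s) =
          algebraMap k A (W s t) * ((S.Δ a (u s) - algebraMap k A (U s a)) * u t +
            (S.Δ a (u t) - algebraMap k A (U t a)) * u s) by ring, pow_two]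
      have hU : ∀ s, S.Δ a (u s) - algebraMap k A (U s a) ∈ M := fun s => by
        show χ (S.Δ a (u s) - algebraMap k A (U s a)) = 0
        rw [map_sub, χ.commutes]; simp [U]
      exact Ideal.mul_mem_left _ _ (add_mem (Ideal.mul_mem_mul (hU s) (hu.mem t)) (Ideal.mul_mem_mul (hU t) (hu.mem s)))
    have e1 := hM3 hexp
    have e2 : S.Δ a (VanCyc.quadEval (fun a b => algebraMap k A (q a b)) u) -
        ∑ t, (∑ e, U e a * VanCyc.polarMatrix q e t) • u t ∈ M ^ 2 := by
      have e0 : VanCyc.quadEval (fun a b => algebraMap k A (q a b)) u =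
          ∑ s, ∑ t, algebraMap k A (W s t) * (u s * u t) := by
        rw [show (fun a b => algebraMap k A (q a b)) = Morse.symT (W.map (algebraMap k A)) from
          funext fun a => funext fun b => Morse.symT_map (algebraMap k A) W a b, Morse.quadEval_symT]
        simp only [dotProduct, Matrix.mulVec, Matrix.map_apply, Finset.mul_sum]
        exact Finset.sum_congr rfl fun a _ => Finset.sum_congr rfl fun b _ => by ring
      have e5 : ∑ t, (∑ e, U e a * VanCyc.polarMatrix q e t) • u t =
          ∑ s, ∑ t, (algebraMap k A (W s t * U s a) * u t + algebraMap k A (W s t * U t a) * u s) := by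
        simp only [q, MorseD.polarMatrix_symT, Matrix.add_apply, Matrix.transpose_apply, mul_add, Algebra.smul_def,
          map_sum, map_add, map_mul, Finset.sum_mul, add_mul, Finset.sum_add_distrib]
        refine congrArg₂ _ (Finset.sum_comm.trans ?_) ?_ <;>
          exact Finset.sum_congr rfl fun a _ => Finset.sum_congr rfl fun b _ => by ring
      rw [e0, e5, map_sum, ← Finset.sum_sub_distrib]
      refine Ideal.sum_mem _ fun s _ => ?_
      rw [map_sum, ← Finset.sum_sub_distrib]
      exact Ideal.sum_mem _ fun t _ => hpol s t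
    rw [map_sub] at e1
    have hd' : ∀ l, g1 a l • η l - g1 a l • (∑ s, T l s • u s) ∈ M ^ 2 := fun l => by
      rw [← smul_sub, Algebra.smul_def]; exact Ideal.mul_mem_left _ _ (hT l)
    have h4 := sub_mem (add_mem e1 e2) (add_mem h1 (Ideal.sum_mem (M ^ 2) (t := Finset.univ) fun l _ => hd' l))
    rw [Finset.sum_sub_distrib, sub_add_sub_cancel, sub_add_sub_cancel, sub_sub_sub_cancel_left] at h4
    simp only [Finset.smul_sum, smul_smul] at h4
    rw [Finset.sum_comm] at h4
    simp only [← Finset.sum_smul, ← Finset.sum_sub_distrib, ← sub_smul] at h4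
    exact sub_eq_zero.1 (congrFun (hu.indep (fun t => (∑ l, g1 a l * T l t) - ∑ e, U e a * VanCyc.polarMatrix q e t) h4) p)
  -- transport
  have ht : ∀ i l, S.tMat χ χ i l = χ (S.Δ l (y i)) := fun i l => by simp [DiagData.tMat]
  have hTv : ∀ (v : Fin n → k), S.Sol c χ χ (fun i => ∑ e, T i e * v e) ↔
      ((∀ a, ∑ e, U e a * (VanCyc.polarMatrix q *ᵥ v) e = 0) ∧ VanCyc.quadEval q v = 0) := by
    intro v
    have hN : (∑ a, ∑ b, g a b * ((∑ e, T a e * v e) * ∑ e, T b e * v e)) = VanCyc.quadEval q v := by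
      rw [Morse.quadEval_symT]
      simp only [W, dotProduct, Matrix.mulVec, Matrix.of_apply, Finset.mul_sum, Finset.sum_mul]
      rw [sum_comm4]
      refine Finset.sum_comm.trans (Finset.sum_congr rfl fun p _ => Finset.sum_congr rfl fun p' _ => ?_)
      exact Finset.sum_congr rfl fun a _ => Finset.sum_congr rfl fun b _ => by ring
    have hM1 : ∀ a, ∑ l, g1 a l * (∑ e, T l e * v e) = ∑ e, U e a * (VanCyc.polarMatrix q *ᵥ v) e := fun a => by
      calc ∑ l, g1 a l * (∑ e, T l e * v e) = ∑ p, (∑ l, g1 a l * T l p) * v p := by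
            simp only [Finset.mul_sum, Finset.sum_mul, mul_assoc]; exact Finset.sum_comm
        _ = _ := by
            simp only [hg1, Matrix.mulVec, dotProduct, Finset.mul_sum, Finset.sum_mul, mul_assoc]
            exact Finset.sum_comm
    constructor
    · rintro ⟨-, h1, h2⟩
      exact ⟨fun a => (hM1 a).symm.trans (h1 a), hN.symm.trans h2⟩
    · rintro ⟨h1, h2⟩
      refine ⟨fun i => ?_, fun a => (hM1 a).trans (h1 a), hN.trans h2⟩
      calc (∑ e, T i e * v e) = ∑ e, T i e * ∑ e', (∑ l, U e l * T l e') * v e' := by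
            simp only [hTU, ite_mul, one_mul, zero_mul, Finset.sum_ite_eq, Finset.mem_univ, if_true]
        _ = _ := by
            simp only [ht, hP, Finset.mul_sum, Finset.sum_mul, mul_assoc]
            exact ((Finset.sum_congr rfl fun _ _ => Finset.sum_comm).trans Finset.sum_comm).trans
              (Finset.sum_congr rfl fun _ _ => Finset.sum_comm)
  have hpol0 : ∀ w : Fin n → k, (∀ a, ∑ e, U e a * w e = 0) → w = 0 := fun w hw => by
    funext e'
    calc w e' = ∑ e, (∑ l, U e l * T l e') * w e := by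
          simp only [hTU, ite_mul, one_mul, zero_mul, Finset.sum_ite_eq', Finset.mem_univ, if_true]
      _ = ∑ l, T l e' * ∑ e, U e l * w e := by
          simp only [Finset.mul_sum, Finset.sum_mul]
          rw [Finset.sum_comm]
          exact Finset.sum_congr rfl fun a _ => Finset.sum_congr rfl fun b _ => by ring
      _ = 0 := by simp [hw]
  constructor
  · intro hq δ hδ
    have hord := hq.forall hA hu hexp
    have hδT : δ = fun i => ∑ e, T i e * ∑ l, U e l * δ l := funext fun i => (hδ.1 i).trans (by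
      simp only [ht, hP, Finset.mul_sum, Finset.sum_mul, mul_assoc]
      exact Finset.sum_comm)
    obtain ⟨h1, h2⟩ := (hTv _).1 (hδT ▸ hδ)
    have := hord _ h2 (hpol0 _ h1)
    rw [hδT]
    funext i
    simp [show ∀ e, ∑ l, U e l * δ l = 0 from congrFun this]
  · intro hz
    refine ⟨u, q, hu, fun v hv1 hv2 => ?_, hexp⟩
    have := hz _ ((hTv v).2 ⟨fun a => by simp [hv2], hv1⟩)
    funext e'
    calc v e' = ∑ e, (∑ l, U e' l * T l e) * v e := by
          simp only [hTU, ite_mul, one_mul, zero_mul, Finset.sum_ite_eq, Finset.mem_univ, if_true]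
      _ = ∑ l, U e' l * ∑ e, T l e * v e := by
          simp only [Finset.mul_sum, Finset.sum_mul, mul_assoc]; exact Finset.sum_comm
      _ = 0 := by simp [show ∀ l, ∑ e, T l e * v e = 0 from congrFun this]

end Point

end Groth.Agent.An92.Lef
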