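import Mathlib.RingTheory.Nullstellensatz
import Mathlib.LinearAlgebra.Matrix.NonsingularInverse
import Mathlib.LinearAlgebra.Matrix.ToLinearEquiv
import Mathlib.LinearAlgebra.Dimension.Basic
import Mathlib.RingTheory.MvPolynomial.Homogeneous
import Mathlib.LinearAlgebra.FreeModule.Finite.Basic

/-! Elimination of projective variables. -/

universe u

open MvPolynomial

namespace Groth.Agent.An92.Lef

variable {k : Type u} [Field k] {r : ℕ} {σ : Type}

/-- Specialisation of the parameters. -/
noncomputable abbrev spec (c : σ → k) :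
    MvPolynomial (Fin (r + 1)) (MvPolynomial σ k) →+* MvPolynomial (Fin (r + 1)) k :=
  MvPolynomial.map (MvPolynomial.eval c)

theorem eq_zero_of_pow_degree {N : ℕ} (v : Fin (r + 1) → k)
    (h : ∀ β : Fin (r + 1) →₀ ℕ, β.degree = N + 1 → ∏ t, v t ^ β t = 0) : v = 0 := by
  funext t
  classical
  have := h (Finsupp.single t (N + 1)) (by simp)
  rw [Finset.prod_eq_single t (fun b _ hb => by simp [Finsupp.single_eq_of_ne hb]) (by simp)] at this
  simpa using this

theorem homogeneousComponent_mul_of_isHomogeneous {p q : MvPolynomial (Fin (r + 1)) k} {e N : ℕ}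
    (hq : q.IsHomogeneous e) :
    homogeneousComponent N (p * q) = if e ≤ N then homogeneousComponent (N - e) p * q else 0 := by
  classical
  conv_lhs => rw [← sum_homogeneousComponent p, Finset.sum_mul]
  rw [map_sum]
  have key : ∀ a, homogeneousComponent N (homogeneousComponent a p * q) =
      if a + e = N then homogeneousComponent a p * q else 0 := fun a => by
    rw [homogeneousComponent_of_mem ((mem_homogeneousSubmodule _ _).2
      ((homogeneousComponent_isHomogeneous a p).mul hq))]
    simp [eq_comm]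
  simp only [key]
  split_ifs with h
  · rw [Finset.sum_eq_single (N - e) (fun a _ ha => if_neg (by omega)) (fun hn => ?_),
      if_pos (Nat.sub_add_cancel h)]
    rw [if_pos (Nat.sub_add_cancel h), homogeneousComponent_eq_zero _ _ (by
      simp only [Finset.mem_range, not_lt] at hn; omega), zero_mul]
  · exact Finset.sum_eq_zero fun a _ => if_neg (by omega)

theorem eval_eq_sum_degree {D : ℕ} {p : MvPolynomial (Fin (r + 1)) k} (hp : p.IsHomogeneous D)
    (v : Fin (r + 1) → k) [Fintype {β : Fin (r + 1) →₀ ℕ // β.degree = D}] :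
    eval v p = ∑ β : {β : Fin (r + 1) →₀ ℕ // β.degree = D}, coeff β.1 p * ∏ t, v t ^ β.1 t := by
  classical
  conv_lhs => rw [eval_eq']
  refine (Finset.sum_subset (s₂ := (Finset.univ : Finset {β : Fin (r + 1) →₀ ℕ // β.degree = D}).map
    (Function.Embedding.subtype _)) (fun m hm => Finset.mem_map.2 ⟨⟨m, ?_⟩, Finset.mem_univ _, rfl⟩)
    (fun m _ hm => by simp [notMem_support_iff.1 hm])).trans (Finset.sum_map _ _ _)
  by_contra hne
  exact mem_support_iff.1 hm (hp.coeff_eq_zero hne)

set_option maxHeartbeats 400000 in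
/-- The parameters for which a family closed in the projective variable has no member form a
Zariski open set. -/
theorem exists_elim [IsAlgClosed k] [Finite σ] (Z : (Fin (r + 1) → k) → (σ → k) → Prop)
    (hZ0 : ∀ v c, Z v c → v ≠ 0)
    (hsep : ∀ v₀ c₀, v₀ ≠ 0 → ¬ Z v₀ c₀ → ∃ (e : ℕ) (F : MvPolynomial (Fin (r + 1)) (MvPolynomial σ k)),
      F.IsHomogeneous e ∧ (∀ v c, Z v c → eval v (spec c F) = 0) ∧ eval v₀ (spec c₀ F) ≠ 0)
    (c₀ : σ → k) (h₀ : ∀ v, ¬ Z v c₀) :
    ∃ q : MvPolynomial σ k, eval c₀ q ≠ 0 ∧ ∀ c, eval c q ≠ 0 → ∀ v, ¬ Z v c := by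
  classical
  let 𝔉 : Set (MvPolynomial (Fin (r + 1)) (MvPolynomial σ k)) :=
    {F | (∃ e, F.IsHomogeneous e) ∧ ∀ v c, Z v c → eval v (spec c F) = 0}
  let J : Ideal (MvPolynomial (Fin (r + 1)) k) := Ideal.span (spec c₀ '' 𝔉)
  have hzl : zeroLocus k J ⊆ {0} := by
    intro v hv
    by_contra hne
    obtain ⟨e, F, hF, hFZ, hF0⟩ := hsep v c₀ hne (h₀ v)
    refine hF0 ?_
    rw [← aeval_eq_eval]
    exact (mem_zeroLocus_iff.1 hv) _ (Ideal.subset_span ⟨F, ⟨⟨e, hF⟩, hFZ⟩, rfl⟩)
  have hX : ∀ t, (X t : MvPolynomial (Fin (r + 1)) k) ∈ J.radical := fun t => by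
    rw [← vanishingIdeal_zeroLocus_eq_radical (K := k) J, mem_vanishingIdeal_iff]
    intro v hv
    rw [aeval_X, hzl hv]
    rfl
  choose a ha using hX
  set N := (∑ t, a t) * (r + 1)
  -- monomials of large degree lie in the ideal
  have hmono : ∀ β : Fin (r + 1) →₀ ℕ, β.degree = N + 1 → monomial β (1 : k) ∈ J := by
    intro β hβ
    obtain ⟨t, ht⟩ : ∃ t, a t ≤ β t := by
      by_contra hc
      push Not at hc
      have h1 : β.degree ≤ ∑ t, a t := by
        rw [Finsupp.degree_apply]
        exact (Finset.sum_le_sum_of_subset (Finset.subset_univ β.support)).trans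
          (Finset.sum_le_sum fun t _ => (hc t).le)
      have h2 : ∑ t, a t ≤ N := Nat.le_mul_of_pos_right _ (Nat.succ_pos r)
      omega
    have : monomial β (1 : k) = monomial (β - Finsupp.single t (a t)) 1 * X t ^ a t := by
      rw [X_pow_eq_monomial, monomial_mul, one_mul, tsub_add_cancel_of_le (Finsupp.single_le_iff.2 ht)]
    rw [this]
    exact Ideal.mul_mem_left _ _ (ha t)
  let I := {β : Fin (r + 1) →₀ ℕ // β.degree = N + 1}
  have : Finite I := ((Finsupp.finite_of_degree_le (σ := Fin (r + 1)) (N + 1)).subset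
    (fun m (hm : m.degree = N + 1) => by change m.degree ≤ N + 1; exact hm.le)).to_subtype
  have : Fintype I := Fintype.ofFinite I
  let P := {G : MvPolynomial (Fin (r + 1)) (MvPolynomial σ k) //
    G.IsHomogeneous (N + 1) ∧ ∀ v c, Z v c → eval v (spec c G) = 0}
  let w : P → I → MvPolynomial σ k := fun G β => coeff β.1 G.1
  let w₀ : P → I → k := fun G β => eval c₀ (w G β)
  have hsum : ∀ (G : P) (c : σ → k) (v : Fin (r + 1) → k),
      eval v (spec c G.1) = ∑ β : I, eval c (w G β) * ∏ t, v t ^ β.1 t := by
    intro G c v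
    rw [eval_eq_sum_degree (G.2.1.map _) v]
    exact Finset.sum_congr rfl fun β _ => by rw [coeff_map]
  -- the coefficient vectors at `c₀` span
  have hspan : Submodule.span k (Set.range w₀) = ⊤ := by
    let T : MvPolynomial (Fin (r + 1)) k →ₗ[k] (I → k) :=
      LinearMap.pi fun β => lcoeff k β.1
    let S : Submodule k (MvPolynomial (Fin (r + 1)) k) :=
      (Submodule.span k (Set.range w₀)).comap T
    have hS : ∀ p ∈ J, homogeneousComponent (N + 1) p ∈ S := by
      intro p hp
      suffices h : ∀ b, homogeneousComponent (N + 1) (b * p) ∈ S by simpa using h 1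
      refine Submodule.span_induction
        (p := fun x _ => ∀ b, homogeneousComponent (N + 1) (b * x) ∈ S) ?_
        (fun b => by rw [mul_zero, map_zero]; exact zero_mem _)
        (fun x y _ _ hx hy b => by rw [mul_add, map_add]; exact add_mem (hx b) (hy b))
        (fun a x _ hx b => by rw [smul_eq_mul, ← mul_assoc]; exact hx _) hp
      rintro _ ⟨F, hF, rfl⟩ b
      obtain ⟨⟨e, hFe⟩, hFZ⟩ := hF
      rw [homogeneousComponent_mul_of_isHomogeneous (q := spec c₀ F) (hFe.map _)]
      split_ifs with he
      · rw [(homogeneousComponent (N + 1 - e) b).as_sum, Finset.sum_mul]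
        refine Submodule.sum_mem _ fun m hm => ?_
        have hm' : m.degree = N + 1 - e := by
          by_contra hne
          exact mem_support_iff.1 hm ((homogeneousComponent_isHomogeneous _ _).coeff_eq_zero hne)
        let G : P := ⟨monomial m 1 * F, by
          have := (isHomogeneous_monomial (1 : MvPolynomial σ k) hm').mul hFe
          rwa [Nat.sub_add_cancel he] at this, fun v c hv => by
          simp only [spec, map_mul, map_monomial, map_one]
          rw [show eval v (MvPolynomial.map (eval c) F) = 0 from hFZ v c hv, mul_zero]⟩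
        rw [show monomial m (coeff m (homogeneousComponent (N + 1 - e) b)) * spec c₀ F =
          coeff m (homogeneousComponent (N + 1 - e) b) • spec c₀ G.1 by
            simp only [G, spec, map_mul, map_monomial, map_one, ← smul_mul_assoc, smul_monomial,
              smul_eq_mul, mul_one]]
        refine Submodule.smul_mem _ _ ?_
        show T (spec c₀ G.1) ∈ Submodule.span k (Set.range w₀)
        rw [show T (spec c₀ G.1) = w₀ G from funext fun β => coeff_map (eval c₀) G.1 β.1]
        exact Submodule.subset_span ⟨G, rfl⟩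
      · exact zero_mem _
    rw [eq_top_iff]
    intro x _
    have hx : x = ∑ β : I, x β • (Pi.single β 1 : I → k) := by
      funext γ
      rw [Finset.sum_apply, Finset.sum_eq_single γ (fun b _ hb => by simp [Pi.single_eq_of_ne (Ne.symm hb)]) (by simp)]
      simp
    rw [hx]
    refine Submodule.sum_mem _ fun β _ => Submodule.smul_mem _ _ ?_
    have := hS _ (hmono β.1 β.2)
    rw [homogeneousComponent_of_mem ((mem_homogeneousSubmodule _ _).2 (isHomogeneous_monomial 1 β.2)),
      if_pos rfl] at this
    rwa [Submodule.mem_comap, show T (monomial β.1 (1 : k)) = Pi.single β 1 from funext fun γ => by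
      by_cases h : β = γ
      · subst h; simp [T]
      · rw [Pi.single_eq_of_ne (Ne.symm h)]
        simp only [T, LinearMap.pi_apply, lcoeff_apply]
        rw [coeff_monomial, if_neg fun e : β.1 = γ.1 => h (Subtype.ext e)]] at this
  obtain ⟨κ, ιP, hιP, hsp, hli⟩ := exists_linearIndependent' k w₀
  let b : Module.Basis κ k (I → k) := Module.Basis.mk hli (by rw [hsp, hspan])
  let eI : κ ≃ I := b.indexEquiv (Pi.basisFun k I)
  let M : Matrix I I (MvPolynomial σ k) := Matrix.of fun s β => w (ιP (eI.symm s)) β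
  have hdet : (M.map (eval c₀)).det ≠ 0 := by
    have h1 : LinearIndependent k fun s => (M.map (eval c₀)) s :=
      hli.comp eI.symm eI.symm.injective
    exact IsUnit.ne_zero ((Matrix.isUnit_iff_isUnit_det _).1 (Matrix.linearIndependent_rows_iff_isUnit.1 h1))
  refine ⟨M.det, ?_, fun c hc v hv => hZ0 v c hv ?_⟩
  · rwa [RingHom.map_det, RingHom.mapMatrix_apply]
  rw [RingHom.map_det, RingHom.mapMatrix_apply] at hc
  refine eq_zero_of_pow_degree (N := N) v fun β hβ => ?_
  have h0 : (M.map (eval c)).mulVec (fun β : I => ∏ t, v t ^ β.1 t) = 0 := by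
    funext s
    rw [Pi.zero_apply, ← (ιP (eI.symm s)).2.2 v c hv, hsum]
    rfl
  exact congrFun (Matrix.eq_zero_of_mulVec_eq_zero hc h0) ⟨β, hβ⟩

end Groth.Agent.An92.Lef
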