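import Groth.Agent.An92.Lef.Singular

/-! Forms with a prescribed ordinary quadratic point. -/

universe u

open CategoryTheory CategoryTheory.Limits AlgebraicGeometry Opposite TopologicalSpace

noncomputable section

set_option backward.isDefEq.respectTransparency false

namespace Groth.Agent.An92.Lef

open LefPen Groth.Agent.Var76 Groth.Agent.Var76.BertiniScheme

/-- The split quadratic table. -/
def splitTable (k : Type u) [Field k] (N : ℕ) : Fin N → Fin N → k :=
  fun a b => if a ≤ b ∧ b = Fin.rev a then 1 else 0

theorem quadOrd_splitTable (k : Type u) [Field k] (N : ℕ) : VanCyc.QuadOrd (splitTable k N) := by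
  classical
  intro v h0 hp
  have hne : ∀ a : Fin N, Fin.rev a ≠ a → v a = 0 := by
    intro a ha
    have h := congrFun hp (Fin.rev a)
    rw [Pi.zero_apply, Matrix.mulVec, dotProduct, Finset.sum_eq_single a] at h
    · have h1 : VanCyc.polarMatrix (splitTable k N) (Fin.rev a) a = 1 := by
        rcases lt_or_gt_of_ne ha with hlt | hgt
        · simp [VanCyc.polarMatrix, splitTable, ha, hlt, hlt.le, Fin.rev_rev]
        · simp [VanCyc.polarMatrix, splitTable, ha, not_lt.2 hgt.le, hgt.le, Fin.rev_rev]
      rwa [h1, one_mul] at h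
    · intro b _ hb
      have h1 : VanCyc.polarMatrix (splitTable k N) (Fin.rev a) b = 0 := by
        have e1 : b ≠ Fin.rev (Fin.rev a) := by rw [Fin.rev_rev]; exact hb
        have e2 : Fin.rev a ≠ Fin.rev b := fun e => hb (Fin.rev_injective e).symm
        by_cases hab : Fin.rev a = b
        · subst hab
          simp [VanCyc.polarMatrix, splitTable, ha]
        · simp [VanCyc.polarMatrix, splitTable, hab, e1, e2, hb]
      rw [h1, zero_mul]
    · intro h'; exact absurd (Finset.mem_univ _) h'
  funext a
  by_cases ha : Fin.rev a = a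
  · have hq : VanCyc.quadEval (splitTable k N) v = v a * v a := by
      unfold VanCyc.quadEval
      rw [Finset.sum_eq_single a, Finset.sum_eq_single a]
      · simp [splitTable, ha]
      · intro b _ hb; simp [splitTable, ha, hb]
      · intro h'; exact absurd (Finset.mem_univ _) h'
      · intro b _ hb
        have : v b = 0 := hne b (fun e => hb (by
          apply Fin.ext
          have h1 := congrArg Fin.val ha
          have h2 := congrArg Fin.val e
          simp only [Fin.val_rev] at h1 h2
          omega))
        exact Finset.sum_eq_zero fun c _ => by simp [this]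
      · intro h'; exact absurd (Finset.mem_univ _) h'
    rw [hq] at h0
    exact mul_self_eq_zero.1 h0
  · exact hne a ha

variable {k : Type u} [Field k] {r : ℕ} {X : Scheme.{u}} (i : X ⟶ CohB1.ProjSpace r k)

/-- Linear forms give every first order jet. -/
theorem exists_linear_jet [IsClosedImmersion i] {j : Fin (r + 1)} (χ : Γ(X, piece i j) →ₐ[k] k)
    (a : Γ(X, piece i j)) : ∃ L : Form r k 1, a - pform i j L ∈ RingHom.ker χ.toRingHom ^ 2 := by
  set M := RingHom.ker χ.toRingHom
  have hadj : a ∈ Algebra.adjoin k (Set.range (pcoord i j)) := by rw [adjoin_pcoord i j]; trivial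
  induction hadj using Algebra.adjoin_induction with
  | mem x hx =>
    obtain ⟨l, rfl⟩ := hx
    exact ⟨⟨MvPolynomial.X l, X_mem r k l⟩, by rw [pform_X, sub_self]; exact zero_mem _⟩
  | algebraMap c =>
    refine ⟨c • ⟨MvPolynomial.X j, X_mem r k j⟩, ?_⟩
    rw [pform_eq_aeval, Submodule.coe_smul, map_smul, MvPolynomial.aeval_X, pcoord_self,
      Algebra.algebraMap_eq_smul_one, sub_self]
    exact zero_mem _
  | add x y _ _ hx hy =>
    obtain ⟨L, hL⟩ := hx
    obtain ⟨L', hL'⟩ := hy
    refine ⟨L + L', ?_⟩
    rw [show pform i j (L + L') = pform i j L + pform i j L' by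
      simp only [pform_eq_aeval, Submodule.coe_add, map_add]]
    rw [show x + y - (pform i j L + pform i j L') = (x - pform i j L) + (y - pform i j L') by ring]
    exact add_mem hL hL'
  | mul x y _ _ hx hy =>
    obtain ⟨L, hL⟩ := hx
    obtain ⟨L', hL'⟩ := hy
    set p := pform i j L with hp
    set p' := pform i j L' with hp'
    refine ⟨(χ p') • L + (χ p) • L' - (χ p * χ p') • ⟨MvPolynomial.X j, X_mem r k j⟩, ?_⟩
    have e : pform i j ((χ p') • L + (χ p) • L' - (χ p * χ p') • (⟨MvPolynomial.X j, X_mem r k j⟩ : Form r k 1)) =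
        algebraMap k _ (χ p') * p + algebraMap k _ (χ p) * p' - algebraMap k _ (χ p * χ p') := by
      simp only [hp, hp', pform_eq_aeval, AddSubgroupClass.coe_sub, Submodule.coe_add, Submodule.coe_smul, map_sub,
        map_add, map_smul, MvPolynomial.aeval_X, pcoord_self]
      simp only [Algebra.smul_def, mul_one]
    rw [e, map_mul]
    have h1 : ∀ b, b - algebraMap k _ (χ b) ∈ M := fun b => by
      show χ (b - algebraMap k _ (χ b)) = 0
      rw [map_sub, χ.commutes]; simp
    rw [show x * y - (algebraMap k _ (χ p') * p + algebraMap k _ (χ p) * p' -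
        algebraMap k Γ(X, piece i j) (χ p) * algebraMap k _ (χ p')) =
      (x - p) * y + p * (y - p') + (p - algebraMap k _ (χ p)) * (p' - algebraMap k _ (χ p')) by ring]
    refine add_mem (add_mem (Ideal.mul_mem_right _ _ hL) (Ideal.mul_mem_left _ _ hL')) ?_
    rw [pow_two]
    exact Ideal.mul_mem_mul (h1 p) (h1 p')

/-- A form with an ordinary quadratic point at a prescribed point. -/
theorem exists_quadAt [IsClosedImmersion i] {n : ℕ} [SmoothOfRelativeDimension n (i ≫ CohB1.ProjSpace.toSpec r k)]
    {j : Fin (r + 1)} (χ : Γ(X, piece i j) →ₐ[k] k) {d : ℕ} (hd : 2 ≤ d) :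
    ∃ H : Form r k d, QuadAt n χ (pform i j H) := by
  classical
  have hA : RingHom.Locally (RingHom.IsStandardSmoothOfRelativeDimension n) (algebraMap k Γ(X, piece i j)) := by
    rw [RingHom.algebraMap_toAlgebra]; exact locally_piece i j
  obtain ⟨u, hu⟩ := exists_params hA χ
  choose L hL using fun a => exists_linear_jet i χ (u a)
  let q := splitTable k n
  let P : MvPolynomial (Fin (r + 1)) k :=
    (∑ a, ∑ b, if a ≤ b then MvPolynomial.C (q a b) * (L a).1 * (L b).1 else 0) * MvPolynomial.X j ^ (d - 2)
  have hP : P.IsHomogeneous d := by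
    have h2 : (∑ a, ∑ b, if a ≤ b then MvPolynomial.C (q a b) * (L a).1 * (L b).1 else 0).IsHomogeneous 2 := by
      refine MvPolynomial.IsHomogeneous.sum _ _ _ fun a _ => MvPolynomial.IsHomogeneous.sum _ _ _ fun b _ => ?_
      split_ifs
      · exact ((MvPolynomial.isHomogeneous_C _ _).mul (L a).2).mul (L b).2
      · exact MvPolynomial.isHomogeneous_zero _ _ _
    have := h2.mul (((MvPolynomial.isHomogeneous_X k j)).pow (d - 2))
    rwa [one_mul, show 2 + (d - 2) = d by omega] at this
  refine ⟨⟨P, (MvPolynomial.mem_homogeneousSubmodule _ _).2 hP⟩, u, q, hu, quadOrd_splitTable k n, ?_⟩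
  have e : pform i j (⟨P, (MvPolynomial.mem_homogeneousSubmodule _ _).2 hP⟩ : Form r k d) =
      VanCyc.quadEval (fun a b => algebraMap k Γ(X, piece i j) (q a b)) (fun a => pform i j (L a)) := by
    simp only [pform_eq_aeval, P, map_mul, map_pow, MvPolynomial.aeval_X, pcoord_self, one_pow, mul_one, map_sum]
    unfold VanCyc.quadEval
    refine Finset.sum_congr rfl fun a _ => Finset.sum_congr rfl fun b _ => ?_
    split_ifs
    · rw [map_mul, map_mul, MvPolynomial.aeval_C]
    · exact map_zero _
  rw [e, ← neg_sub]
  refine neg_mem (quadEval_mem_congr _ hu.mem (fun a => ?_) hL)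
  have h1 := Ideal.pow_le_self two_ne_zero (hL a)
  have h2 := sub_mem (hu.mem a) h1
  rwa [sub_sub_cancel] at h2

end Groth.Agent.An92.Lef
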