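import Groth.Agent.An92.Lef.AlgCrit
import Groth.Agent.An92.Morse.Coord
import Groth.Agent.An92.Morse.Hensel
import Groth.Agent.An92.MorseA.Chart
import Groth.Agent.CAlg1.SectionPowerSeries
import Groth.Agent.QS97.HyperLocal
import Groth.Prelude.Def_QuadSing
import Mathlib.RingTheory.Smooth.Locus

/-! The quadratic part of a function at a rational point of a smooth algebra. -/

universe u

open scoped TensorProduct
open IsLocalRing

noncomputable section

namespace Groth.Agent.An92.Lef

theorem formallySmooth_not_mem_sq {k A : Type u} [Field k] [CommRing A] [Algebra k A] [IsDomain A]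
    [Algebra.FormallySmooth k A] (χ : A →ₐ[k] k) (φ : A) (hφ : φ ≠ 0)
    [Algebra.FormallySmooth k (A ⧸ Ideal.span {φ})] (h0 : χ φ = 0) :
    φ ∉ RingHom.ker χ.toRingHom ^ 2 := by
  intro h2
  set I := Ideal.span {φ}
  set M := RingHom.ker χ.toRingHom
  letI := χ.toRingHom.toAlgebra
  have : IsScalarTower k A k := IsScalarTower.of_algebraMap_eq fun c => (χ.commutes c).symm
  obtain ⟨l, hl⟩ := (Algebra.FormallySmooth.iff_split_injection (R := k) (P := A) (A := A ⧸ I)
    Ideal.Quotient.mk_surjective).1 ‹_›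
  set κ := RingHom.ker (algebraMap A (A ⧸ I))
  have hker : φ ∈ κ := by simp [κ, I, RingHom.mem_ker, Ideal.Quotient.eq_zero_iff_mem]
  have e1 := LinearMap.congr_fun hl (κ.toCotangent ⟨φ, hker⟩)
  rw [LinearMap.comp_apply, KaehlerDifferential.kerCotangentToTensor_toCotangent, LinearMap.id_apply] at e1
  -- the differential of `φ` is in `M Ω`
  have hDM : KaehlerDifferential.D k A φ ∈ M • (⊤ : Submodule A Ω[A⁄k]) := by
    rw [pow_two] at h2
    refine Submodule.mul_induction_on h2 (fun a ha b hb => ?_) (fun a b ha hb => ?_)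
    · rw [Derivation.leibniz]
      exact add_mem (Submodule.smul_mem_smul ha trivial) (Submodule.smul_mem_smul hb trivial)
    · rw [map_add]; exact add_mem ha hb
  have h3 : κ.toCotangent ⟨φ, hker⟩ ∈ M • (⊤ : Submodule A κ.Cotangent) := by
    rw [← e1]
    have : (1 : A ⧸ I) ⊗ₜ[A] KaehlerDifferential.D k A φ ∈ M • (⊤ : Submodule A ((A ⧸ I) ⊗[A] Ω[A⁄k])) := by
      refine Submodule.smul_induction_on hDM (fun a ha w _ => ?_) (fun a b ha hb => ?_)
      · rw [TensorProduct.tmul_smul]; exact Submodule.smul_mem_smul ha trivial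
      · rw [TensorProduct.tmul_add]; exact add_mem ha hb
    refine Submodule.smul_induction_on this (fun a ha w _ => ?_) (fun a b ha hb => ?_)
    · rw [map_smul]; exact Submodule.smul_mem_smul ha trivial
    · rw [map_add]; exact add_mem ha hb
  obtain ⟨y, hy, hy'⟩ : ∃ y : κ, (y : A) ∈ M * I ∧ κ.toCotangent y = κ.toCotangent ⟨φ, hker⟩ := by
    have hκ : ∀ z : κ, (z : A) ∈ I := fun z => by
      have := z.2
      simpa [κ, RingHom.mem_ker, Ideal.Quotient.eq_zero_iff_mem] using this
    refine Submodule.smul_induction_on (p := fun t => ∃ y : κ, (y : A) ∈ M * I ∧ κ.toCotangent y = t) h3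
      (fun a ha w _ => ?_) (fun a b ha hb => ?_)
    · obtain ⟨z, rfl⟩ := κ.toCotangent_surjective w
      exact ⟨a • z, Ideal.mul_mem_mul ha (hκ z), map_smul _ _ _⟩
    · obtain ⟨y, hy, rfl⟩ := ha
      obtain ⟨z, hz, rfl⟩ := hb
      exact ⟨y + z, add_mem hy hz, map_add _ _ _⟩
  rw [Ideal.toCotangent_eq] at hy'
  have hκI : κ = I := by simp [κ, Ideal.mk_ker]
  have hy2 : (y : A) - φ ∈ I * I := by
    rw [← pow_two]; exact Ideal.pow_right_mono hκI.le 2 hy'
  obtain ⟨a, ha, hay⟩ := Ideal.mem_mul_span_singleton.1 hy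
  obtain ⟨b, hb, hby⟩ := Ideal.mem_mul_span_singleton.1 hy2
  obtain ⟨c, rfl⟩ := Ideal.mem_span_singleton'.1 hb
  have : φ * (1 - a + c * φ) = 0 := by linear_combination hby - hay
  rcases mul_eq_zero.1 this with h | h
  · exact hφ h
  · have := congrArg χ h
    rw [map_add, map_sub, map_one, map_mul, h0, mul_zero, add_zero, show χ a = 0 from ha, sub_zero, map_zero] at this
    exact one_ne_zero this

section Forms

variable {k : Type u} [Field k] {N : ℕ}

theorem quadEval_add_sub (q : Fin N → Fin N → k) (v w : Fin N → k) :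
    VanCyc.quadEval q (v + w) - VanCyc.quadEval q v - VanCyc.quadEval q w =
      ∑ l, (VanCyc.polarMatrix q).mulVec v l * w l := by
  unfold VanCyc.quadEval
  have h1 : ∀ i j, (if i ≤ j then q i j * (v + w) i * (v + w) j else 0) =
      (if i ≤ j then q i j * v i * v j else 0) + ((if i ≤ j then q i j * v i * w j else 0) +
        (if i ≤ j then q i j * w i * v j else 0)) + (if i ≤ j then q i j * w i * w j else 0) := fun i j => by
    split_ifs <;> (try simp only [Pi.add_apply]) <;> ring
  simp only [h1, Finset.sum_add_distrib]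
  rw [show ∀ a b c : k, a + b + c - a - c = b from fun a b c => by ring]
  rw [Finset.sum_comm, ← Finset.sum_add_distrib]
  refine Finset.sum_congr rfl fun l _ => ?_
  rw [Matrix.mulVec, dotProduct, Finset.sum_mul, ← Finset.sum_add_distrib]
  refine Finset.sum_congr rfl fun t _ => ?_
  unfold VanCyc.polarMatrix
  rcases lt_trichotomy l t with h | rfl | h
  · rw [if_neg (not_le.2 h), if_pos h.le, if_neg h.ne, if_pos h]; ring
  · rw [if_pos le_rfl, if_pos le_rfl, if_pos rfl]; ring
  · rw [if_pos h.le, if_neg (not_le.2 h), if_neg h.ne', if_neg (not_lt.2 h.le)]; ring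

/-- Ordinarity only depends on the quadratic function up to linear change of variables. -/
theorem quadOrd_of_eval_eq {q q' : Fin N → Fin N → k} (L : (Fin N → k) →ₗ[k] (Fin N → k))
    (hL : Function.Injective L) {c : k} (hc : c ≠ 0)
    (h : ∀ v, VanCyc.quadEval q' v = c * VanCyc.quadEval q (L v)) (hq : VanCyc.QuadOrd q) :
    VanCyc.QuadOrd q' := by
  intro v h1 h2
  refine hL (((hq (L v)) ?_ ?_).trans (map_zero L).symm)
  · have := h v
    rw [h1] at this
    exact (mul_eq_zero.1 this.symm).resolve_left hc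
  · have hLs : Function.Surjective L := LinearMap.injective_iff_surjective.1 hL
    funext l
    obtain ⟨w, hw⟩ := hLs (Pi.single l 1)
    have e := quadEval_add_sub q' v w
    rw [h2, h, h, h, map_add, hw] at e
    have e2 := quadEval_add_sub q (L v) (Pi.single l 1)
    simp only [Pi.zero_apply, zero_mul, Finset.sum_const_zero] at e
    rw [Finset.sum_eq_single l (fun b _ hb => by simp [Pi.single_eq_of_ne hb]) (by simp),
      Pi.single_eq_same, mul_one] at e2
    rw [Pi.zero_apply, ← e2]
    rw [← mul_sub, ← mul_sub] at e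
    exact (mul_eq_zero.1 e).resolve_left hc

theorem quadEval_mem_congr {A : Type u} [CommRing A] {I : Ideal A} (q : Fin N → Fin N → A) {u w : Fin N → A}
    (hu : ∀ l, u l ∈ I) (hw : ∀ l, w l ∈ I) (h : ∀ l, u l - w l ∈ I ^ 2) :
    VanCyc.quadEval q u - VanCyc.quadEval q w ∈ I ^ 3 := by
  unfold VanCyc.quadEval
  rw [← Finset.sum_sub_distrib]
  refine Ideal.sum_mem _ fun a _ => ?_
  rw [← Finset.sum_sub_distrib]
  refine Ideal.sum_mem _ fun b _ => ?_
  split_ifs
  · rw [show q a b * u a * u b - q a b * w a * w b =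
      q a b * ((u a - w a) * u b) + q a b * ((u b - w b) * w a) by ring]
    refine add_mem (Ideal.mul_mem_left _ _ ?_) (Ideal.mul_mem_left _ _ ?_)
    · rw [pow_succ]; exact Ideal.mul_mem_mul (h a) (hu b)
    · rw [pow_succ]; exact Ideal.mul_mem_mul (h b) (hw a)
  · rw [sub_zero]; exact zero_mem _

theorem exists_quad_of_mem_sq {A : Type u} [CommRing A] [Algebra k A] (χ : A →ₐ[k] k) {u : Fin N → A}
    (hu : ∀ l, u l ∈ RingHom.ker χ.toRingHom)
    (hspan : ∀ a ∈ RingHom.ker χ.toRingHom, ∃ c : Fin N → k, a - ∑ l, c l • u l ∈ RingHom.ker χ.toRingHom ^ 2)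
    {φ : A} (hφ : φ ∈ RingHom.ker χ.toRingHom ^ 2) :
    ∃ q : Fin N → Fin N → k,
      φ - VanCyc.quadEval (fun a b => algebraMap k A (q a b)) u ∈ RingHom.ker χ.toRingHom ^ 3 := by
  classical
  set M := RingHom.ker χ.toRingHom
  let Q : (Fin N → Fin N → k) → A := fun q => VanCyc.quadEval (fun a b => algebraMap k A (q a b)) u
  have hadd : ∀ p q, Q (p + q) = Q p + Q q := fun p q => by
    simp only [Q, VanCyc.quadEval, ← Finset.sum_add_distrib]
    refine Finset.sum_congr rfl fun a _ => Finset.sum_congr rfl fun b _ => ?_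
    split_ifs <;> simp [add_mul]
  rw [pow_two] at hφ
  refine Submodule.mul_induction_on hφ (fun a ha b hb => ?_) (fun a b ⟨p, hp⟩ ⟨q, hq⟩ => ⟨p + q, ?_⟩)
  · obtain ⟨c, hc⟩ := hspan a ha
    obtain ⟨e, he⟩ := hspan b hb
    let q : Fin N → Fin N → k := fun s t => if s = t then c s * e s else c s * e t + c t * e s
    refine ⟨q, ?_⟩
    have hprod : (∑ l, c l • u l) * (∑ l, e l • u l) = Q q := by
      have := Morse.quadEval_symT (Matrix.of fun s t => algebraMap k A (c s * e t)) u
      rw [show Morse.symT (Matrix.of fun s t => algebraMap k A (c s * e t)) = fun s t => algebraMap k A (q s t) by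
        funext s t
        simp only [Morse.symT, Matrix.of_apply, q]
        split_ifs <;> simp] at this
      show _ = VanCyc.quadEval _ u
      rw [this]
      simp only [dotProduct, Matrix.mulVec, Matrix.of_apply, Finset.mul_sum, Finset.sum_mul, Algebra.smul_def,
        map_mul]
      rw [Finset.sum_comm]
      exact Finset.sum_congr rfl fun s _ => Finset.sum_congr rfl fun t _ => by ring
    show a * b - Q q ∈ _
    rw [← hprod, show a * b - (∑ l, c l • u l) * (∑ l, e l • u l) =
      (a - ∑ l, c l • u l) * b + (∑ l, c l • u l) * (b - ∑ l, e l • u l) by ring]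
    refine add_mem ?_ ?_
    · rw [pow_succ]; exact Ideal.mul_mem_mul hc hb
    · rw [pow_succ']
      refine Ideal.mul_mem_mul (Ideal.sum_mem _ fun l _ => ?_) he
      rw [Algebra.smul_def]
      exact Ideal.mul_mem_left _ _ (hu l)
  · show a + b - Q (p + q) ∈ _
    rw [hadd, show a + b - (Q p + Q q) = (a - Q p) + (b - Q q) by ring]
    exact add_mem hp hq

end Forms

section Point

variable {k A : Type u} [Field k] [CommRing A] [Algebra k A] {n : ℕ}

/-- A system of parameters at a rational point. -/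
structure IsParams (χ : A →ₐ[k] k) (u : Fin n → A) : Prop where
  mem : ∀ l, u l ∈ RingHom.ker χ.toRingHom
  indep : ∀ c : Fin n → k, ∑ l, c l • u l ∈ RingHom.ker χ.toRingHom ^ 2 → c = 0

theorem finrank_cotangent (hA : RingHom.Locally (RingHom.IsStandardSmoothOfRelativeDimension n) (algebraMap k A))
    (χ : A →ₐ[k] k) : Module.finrank k (RingHom.ker χ.toRingHom).Cotangent = n ∧
      FiniteDimensional k (RingHom.ker χ.toRingHom).Cotangent := by
  letI := χ.toRingHom.toAlgebra
  have : IsScalarTower k A k := IsScalarTower.of_algebraMap_eq fun c => (χ.commutes c).symm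
  have hk : Function.Surjective (algebraMap k k) := fun c => ⟨c, rfl⟩
  set M := RingHom.ker χ.toRingHom
  have hsm : Algebra.Smooth k A := by
    have : M.IsPrime := RingHom.ker_isPrime _
    exact (rankAtStalk_eq_of_locally hA ⟨M, this⟩).1
  have hr : Module.finrank k (k ⊗[A] Ω[A⁄k]) = n := by
    let p : PrimeSpectrum k := ⟨⊥, Ideal.isPrime_bot⟩
    have h1 := Module.rankAtStalk_baseChange (R := A) (M := Ω[A⁄k]) (S := k) p
    rw [Module.rankAtStalk_eq_finrank_of_free, (rankAtStalk_eq_of_locally hA _).2] at h1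
    exact h1
  let F : M.Cotangent →ₗ[k] k ⊗[A] Ω[A⁄k] :=
    { toFun := Quotient.lift (fun a : M => (1 : k) ⊗ₜ[A] KaehlerDifferential.D k A a.1) (fun a b hab => by
        have h : (a : A) - b ∈ M ^ 2 :=
          (Ideal.toCotangent_eq M).1 (Quotient.sound hab)
        rw [← sub_eq_zero, ← TensorProduct.tmul_sub, ← map_sub]
        exact (Var76.SmoothCrit.D_eq_zero_iff k hk (M.sub_mem a.2 b.2)).2 h)
      map_add' := fun x y => by
        obtain ⟨a, rfl⟩ := M.toCotangent_surjective x
        obtain ⟨b, rfl⟩ := M.toCotangent_surjective y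
        show (1 : k) ⊗ₜ[A] KaehlerDifferential.D k A (a.1 + b.1) = _
        rw [map_add, TensorProduct.tmul_add]
        rfl
      map_smul' := fun c x => by
        obtain ⟨a, rfl⟩ := M.toCotangent_surjective x
        rw [← algebraMap_smul A c (M.toCotangent a), ← map_smul]
        show (1 : k) ⊗ₜ[A] KaehlerDifferential.D k A ((algebraMap k A c) * a.1) = c • ((1 : k) ⊗ₜ[A] KaehlerDifferential.D k A a.1) 
        rw [← Algebra.smul_def, Derivation.map_smul, TensorProduct.tmul_smul] }
  have hF : Function.Bijective F := by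
    refine ⟨(injective_iff_map_eq_zero F).2 fun x hx => ?_, fun z => ?_⟩
    · obtain ⟨a, rfl⟩ := M.toCotangent_surjective x
      exact (Ideal.toCotangent_eq_zero M a).2 ((Var76.SmoothCrit.D_eq_zero_iff k hk a.2).1 hx)
    · obtain ⟨a, ha, rfl⟩ := Var76.SmoothCrit.exists_eq_D k hk z
      exact ⟨M.toCotangent ⟨a, ha⟩, rfl⟩
  let e := LinearEquiv.ofBijective F hF
  refine ⟨e.finrank_eq.trans hr, ?_⟩
  exact e.symm.finiteDimensional

variable (hA : RingHom.Locally (RingHom.IsStandardSmoothOfRelativeDimension n) (algebraMap k A))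
include hA

theorem IsParams.span {χ : A →ₐ[k] k} {u : Fin n → A} (hu : IsParams χ u) :
    ∀ a ∈ RingHom.ker χ.toRingHom, ∃ c : Fin n → k, a - ∑ l, c l • u l ∈ RingHom.ker χ.toRingHom ^ 2 := by
  classical
  intro a ha
  set M := RingHom.ker χ.toRingHom
  obtain ⟨hfr, hfd⟩ := finrank_cotangent hA χ
  let v : Fin n → M.Cotangent := fun l => M.toCotangent ⟨u l, hu.mem l⟩
  have hsum : ∀ c : Fin n → k, ∀ h, ∑ l, c l • v l = M.toCotangent ⟨∑ l, c l • u l, h⟩ := by
    intro c h
    rw [show (⟨∑ l, c l • u l, h⟩ : M) = ∑ l, (algebraMap k A (c l)) • (⟨u l, hu.mem l⟩ : M) from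
      Subtype.ext (by rw [AddSubmonoidClass.coe_finset_sum]; simp only [Submodule.coe_smul, smul_eq_mul, Algebra.smul_def]), map_sum]
    refine Finset.sum_congr rfl fun l _ => ?_
    rw [map_smul, algebraMap_smul]
  have hmem : ∀ c : Fin n → k, ∑ l, c l • u l ∈ M := fun c => Ideal.sum_mem _ fun l _ => by
    rw [Algebra.smul_def]; exact Ideal.mul_mem_left _ _ (hu.mem l)
  have hli : LinearIndependent k v := by
    rw [Fintype.linearIndependent_iff]
    intro c hc l
    rw [hsum c (hmem c), Ideal.toCotangent_eq_zero] at hc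
    exact congrFun (hu.indep c hc) l
  have htop : Submodule.span k (Set.range v) = ⊤ := by
    refine Submodule.eq_top_of_finrank_eq ?_
    rw [finrank_span_eq_card hli, Fintype.card_fin, hfr]
  obtain ⟨c, hc⟩ := (Submodule.mem_span_range_iff_exists_fun k).1
    (show M.toCotangent ⟨a, ha⟩ ∈ Submodule.span k (Set.range v) from htop ▸ trivial)
  refine ⟨c, ?_⟩
  rw [hsum c (hmem c)] at hc
  exact (Ideal.toCotangent_eq M).1 hc.symm

theorem exists_params (χ : A →ₐ[k] k) : ∃ u : Fin n → A, IsParams χ u := by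
  set M := RingHom.ker χ.toRingHom
  obtain ⟨hfr, hfd⟩ := finrank_cotangent hA χ
  let b := (Module.finBasisOfFinrankEq k M.Cotangent hfr)
  choose u hu using fun l => M.toCotangent_surjective (b l)
  refine ⟨fun l => (u l).1, fun l => (u l).2, fun c hc => ?_⟩
  have : ∑ l, c l • b l = 0 := by
    rw [← (Ideal.toCotangent_eq_zero M ⟨∑ l, c l • (u l).1, Ideal.pow_le_self two_ne_zero hc⟩).2 hc,
      show (⟨∑ l, c l • (u l).1, Ideal.pow_le_self two_ne_zero hc⟩ : M) = ∑ l, (algebraMap k A (c l)) • u l from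
        Subtype.ext (by rw [AddSubmonoidClass.coe_finset_sum]; simp only [Submodule.coe_smul, smul_eq_mul, Algebra.smul_def]), map_sum]
    refine Finset.sum_congr rfl fun l _ => ?_
    rw [map_smul, algebraMap_smul, hu]
  exact funext (Fintype.linearIndependent_iff.1 b.linearIndependent c this)

local notation "P" => MvPowerSeries (Fin n) k

omit hA in
/-- An expansion in power series. -/
structure IsSeries (χ : A →ₐ[k] k) (ψ : A →ₐ[k] MvPowerSeries (Fin n) k) : Prop where
  mem_iff : ∀ N x, ψ x ∈ maximalIdeal (MvPowerSeries (Fin n) k) ^ N ↔ x ∈ RingHom.ker χ.toRingHom ^ N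
  dense : ∀ N (y : MvPowerSeries (Fin n) k), ∃ x, ψ x - y ∈ maximalIdeal (MvPowerSeries (Fin n) k) ^ N

theorem exists_series (χ : A →ₐ[k] k) : ∃ ψ : A →ₐ[k] P, IsSeries χ ψ := by
  classical
  set M := RingHom.ker χ.toRingHom with hMdef
  have hsm : Algebra.Smooth k A := by
    have : M.IsPrime := RingHom.ker_isPrime _
    exact (rankAtStalk_eq_of_locally hA ⟨M, this⟩).1
  obtain ⟨hfr, hfd⟩ := finrank_cotangent hA χ
  obtain ⟨E⟩ := CAlg1.completion_section_equiv_powerSeries χ n
    ((Module.finBasisOfFinrankEq k M.Cotangent hfr).equivFun)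
  let C0 := AdicCompletion M A
  let ψ : A →ₐ[k] P := E.toAlgHom.comp (IsScalarTower.toAlgHom k A C0)
  have : IsNoetherianRing A := Algebra.FiniteType.isNoetherianRing k A
  have hfg : M.FG := M.fg_of_isNoetherianRing
  have hmap : (M.map (algebraMap A C0)).map E.toRingHom = maximalIdeal P := by
    refine le_antisymm ?_ ?_
    · intro t ht
      by_contra h
      have htu : IsUnit t := IsLocalRing.notMem_maximalIdeal.1 h
      obtain ⟨z, hz, hze⟩ := (Ideal.mem_map_iff_of_surjective E.toRingHom E.surjective).1 ht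
      have hzu : IsUnit z := by
        have := htu.map E.symm.toRingEquiv.toRingHom
        rw [← hze] at this
        rwa [show E.symm.toRingEquiv.toRingHom (E.toRingHom z) = z from E.symm_apply_apply z] at this
      have h1 : algebraMap A C0 1 ∈ (M.map (algebraMap A C0)) ^ 1 := by
        rw [pow_one, map_one]; exact (Ideal.eq_top_iff_one _).1 (Ideal.eq_top_of_isUnit_mem _ hz hzu)
      have := CAlg5.mem_pow_of_algebraMap_mem _ hfg 1 1 h1
      rw [pow_one] at this
      exact one_ne_zero (α := k) (by simpa [hMdef, RingHom.mem_ker] using this)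
    · intro t ht
      obtain ⟨z, rfl⟩ := E.surjective t
      obtain ⟨a, ha⟩ := CAlg5.exists_sub_mem_pow M hfg 1 z
      rw [pow_one] at ha
      refine Ideal.mem_map_of_mem _ ?_
      have ha' : a - algebraMap k A (χ a) ∈ M := by
        show χ (a - algebraMap k A (χ a)) = 0
        rw [map_sub, χ.commutes]; simp
      by_cases hc : χ a = 0
      · rw [show z = (z - algebraMap A C0 a) + algebraMap A C0 a by ring]
        exact add_mem ha (Ideal.mem_map_of_mem _ hc)
      · exfalso
        have hz : z - algebraMap A C0 (algebraMap k A (χ a)) ∈ M.map (algebraMap A C0) := by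
          rw [show z - algebraMap A C0 (algebraMap k A (χ a)) =
            (z - algebraMap A C0 a) + algebraMap A C0 (a - algebraMap k A (χ a)) by rw [map_sub]; ring]
          exact add_mem ha (Ideal.mem_map_of_mem _ ha')
        have h2 : E (z - algebraMap A C0 (algebraMap k A (χ a))) ∈ maximalIdeal P := by
          by_contra h
          have hu : IsUnit (z - algebraMap A C0 (algebraMap k A (χ a))) := by
            have := (IsLocalRing.notMem_maximalIdeal.1 h).map E.symm.toRingEquiv.toRingHom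
            rwa [show E.symm.toRingEquiv.toRingHom (E (z - algebraMap A C0 (algebraMap k A (χ a)))) =
              z - algebraMap A C0 (algebraMap k A (χ a)) from E.symm_apply_apply _] at this
          have h1 : algebraMap A C0 1 ∈ (M.map (algebraMap A C0)) ^ 1 := by
            rw [pow_one, map_one]; exact (Ideal.eq_top_iff_one _).1 (Ideal.eq_top_of_isUnit_mem _ hz hu)
          have := CAlg5.mem_pow_of_algebraMap_mem _ hfg 1 1 h1
          rw [pow_one] at this
          exact one_ne_zero (α := k) (by simpa [hMdef, RingHom.mem_ker] using this)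
        rw [map_sub, ← IsScalarTower.algebraMap_apply k A C0, AlgEquiv.commutes] at h2
        have h3 := (maximalIdeal P).sub_mem ht h2
        rw [sub_sub_cancel] at h3
        exact (maximalIdeal.isMaximal P).ne_top (Ideal.eq_top_of_isUnit_mem _ h3 ((Ne.isUnit hc).map (algebraMap k P)))
  refine ⟨ψ, fun N x => ?_, fun N y => ?_⟩
  · rw [← hmap, ← Ideal.map_pow]
    refine ⟨fun h => CAlg5.mem_pow_of_algebraMap_mem _ hfg N x ?_, fun h => ?_⟩
    · obtain ⟨z, hz, hze⟩ := (Ideal.mem_map_iff_of_surjective E.toRingHom E.surjective).1 h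
      exact (E.injective hze) ▸ hz
    · exact Ideal.mem_map_of_mem _ (by rw [← Ideal.map_pow]; exact Ideal.mem_map_of_mem _ h)
  · obtain ⟨z, rfl⟩ := E.surjective y
    obtain ⟨a, ha⟩ := CAlg5.exists_sub_mem_pow M hfg N z
    refine ⟨a, ?_⟩
    have h1 : algebraMap A C0 a - z ∈ (M.map (algebraMap A C0)) ^ N := by
      rw [← neg_sub]; exact neg_mem ha
    have h2 := Ideal.mem_map_of_mem E.toRingHom h1
    rw [Ideal.map_pow, hmap] at h2
    rw [show E.toRingHom (algebraMap A C0 a - z) = ψ a - E z from map_sub E _ _] at h2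
    exact h2

omit hA in
/-- The linear part of the expansion of parameters. -/
def linPart (ψ : A →ₐ[k] P) (u : Fin n → A) : (Fin n → k) →ₗ[k] (Fin n → k) :=
  Matrix.mulVecLin (Matrix.of fun a b => MorseA.lc (ψ (u a)) b)

omit hA in
theorem linPart_injective {χ : A →ₐ[k] k} {ψ : A →ₐ[k] P} (hψ : IsSeries χ ψ) {u : Fin n → A} (hu : IsParams χ u) :
    Function.Injective (linPart ψ u) := by
  classical
  rw [linPart]
  show Function.Injective (Matrix.mulVec _)
  rw [Matrix.mulVec_injective_iff_isUnit, ← Matrix.linearIndependent_rows_iff_isUnit, Fintype.linearIndependent_iff]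
  intro c hc l
  refine congrFun (hu.indep c ((hψ.mem_iff 2 _).1 (QS97.mem_pow_of_ordGE 2 fun d hd => ?_))) l
  obtain hd0 | hd1 : d.degree = 0 ∨ d.degree = 1 := by omega
  · rw [(Finsupp.degree_eq_zero_iff d).1 hd0, MvPowerSeries.coeff_zero_eq_constantCoeff_apply, ← CAlg6.mem_maximalIdeal_iff, ← pow_one (maximalIdeal P), hψ.mem_iff, pow_one]
    exact Ideal.sum_mem _ fun t _ => by rw [Algebra.smul_def]; exact Ideal.mul_mem_left _ _ (hu.mem t)
  · obtain ⟨t, rfl⟩ := QS97.exists_single hd1
    have := congrFun hc t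
    simp only [Finset.sum_apply, Pi.smul_apply, smul_eq_mul, Pi.zero_apply, Matrix.row, Matrix.of_apply] at this
    rw [map_sum, map_sum, ← this]
    exact Finset.sum_congr rfl fun s _ => by rw [map_smul, map_smul]; rfl

omit hA in
/-- The expansion of a quadratic expression in parameters. -/
theorem exists_series_quad {χ : A →ₐ[k] k} {ψ : A →ₐ[k] P} (hψ : IsSeries χ ψ) {u : Fin n → A}
    (hu : ∀ l, u l ∈ RingHom.ker χ.toRingHom) (q : Fin n → Fin n → k) :
    ∃ p : Fin n → Fin n → k,
      ψ (VanCyc.quadEval (fun a b => algebraMap k A (q a b)) u) -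
        ((VanCyc.quadPoly p : MvPolynomial (Fin n) k) : P) ∈ maximalIdeal P ^ 3 ∧
      ∀ v, VanCyc.quadEval p v = VanCyc.quadEval q (linPart ψ u v) := by
  classical
  set L : Matrix (Fin n) (Fin n) k := Matrix.of fun a b => MorseA.lc (ψ (u a)) b
  refine ⟨Morse.symT (L.transpose * QS97.upper q * L), ?_, fun v => (Morse.quadEval_mulVec q L v).symm⟩
  rw [QS97.coe_quadPoly]
  let C : k →+* P := MvPowerSeries.C
  have hmap : ψ (VanCyc.quadEval (fun a b => algebraMap k A (q a b)) u) =
      VanCyc.quadEval (fun a b => C (q a b)) (fun l => ψ (u l)) := by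
    unfold VanCyc.quadEval
    rw [map_sum]
    refine Finset.sum_congr rfl fun a _ => ?_
    rw [map_sum]
    refine Finset.sum_congr rfl fun b _ => ?_
    split_ifs
    · rw [map_mul, map_mul, AlgHom.commutes]; rfl
    · rw [map_zero]
  have hlin : (L.map C).mulVec (MvPowerSeries.X : Fin n → P) = fun a => ∑ b, C (MorseA.lc (ψ (u a)) b) * MvPowerSeries.X b := rfl
  have h2 := Morse.quadEval_mulVec (fun a b => C (q a b)) (L.map C) (MvPowerSeries.X : Fin n → P)
  rw [show Morse.symT ((L.map C).transpose * QS97.upper (fun a b => C (q a b)) * L.map C) =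
    fun a b => C (Morse.symT (L.transpose * QS97.upper q * L) a b) by
      funext a b
      rw [Morse.symT_map, Matrix.map_mul, Matrix.map_mul, Matrix.transpose_map]
      congr 2
      congr 1
      ext s t
      simp [QS97.upper, apply_ite C]] at h2
  rw [hmap, ← h2, hlin]
  have hXm : ∀ l, (MvPowerSeries.X l : P) ∈ maximalIdeal P := fun l =>
    CAlg6.mem_maximalIdeal_iff.2 (MvPowerSeries.constantCoeff_X l)
  have hum : ∀ l, ψ (u l) ∈ maximalIdeal P := fun l => by
    have := (hψ.mem_iff 1 (u l)).2 (by rw [pow_one]; exact hu l)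
    rwa [pow_one] at this
  exact quadEval_mem_congr _ hum (fun l => Ideal.sum_mem _ fun b _ => Ideal.mul_mem_left _ _ (hXm b))
    (fun l => MorseA.sub_lin_mem (CAlg6.mem_maximalIdeal_iff.1 (hum l)))

omit hA in
theorem eq_upper_of_sub_mem {p p' : Fin n → Fin n → k}
    (h : ((VanCyc.quadPoly p : MvPolynomial (Fin n) k) : P) - (VanCyc.quadPoly p' : MvPolynomial (Fin n) k) ∈ maximalIdeal P ^ 3) :
    ∀ v, VanCyc.quadEval p v = VanCyc.quadEval p' v := by
  have hz : ∀ a b, a ≤ b → p a b = p' a b := fun a b hab => by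
    have := QS97.ordGE_of_mem_pow 3 h (QS97.pairExp a b) (by simp [QS97.pairExp, map_add])
    rwa [map_sub, sub_eq_zero, QS97.coe_quadPoly, QS97.coe_quadPoly, QS97.coeff_quadEval_pairExp _ hab,
      QS97.coeff_quadEval_pairExp _ hab] at this
  intro v
  unfold VanCyc.quadEval
  refine Finset.sum_congr rfl fun a _ => Finset.sum_congr rfl fun b _ => ?_
  split_ifs with hab
  · rw [hz a b hab]
  · rfl

omit hA in
/-- An ordinary quadratic point of the zero locus of a function. -/
def QuadAt (n : ℕ) (χ : A →ₐ[k] k) (φ : A) : Prop :=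
  ∃ (u : Fin n → A) (q : Fin n → Fin n → k), IsParams χ u ∧ VanCyc.QuadOrd q ∧
    φ - VanCyc.quadEval (fun a b => algebraMap k A (q a b)) u ∈ RingHom.ker χ.toRingHom ^ 3

omit hA in
theorem QuadAt.mem_sq {χ : A →ₐ[k] k} {φ : A} (h : QuadAt n χ φ) : φ ∈ RingHom.ker χ.toRingHom ^ 2 := by
  obtain ⟨u, q, hu, -, hφ⟩ := h
  rw [← sub_add_cancel φ (VanCyc.quadEval (fun a b => algebraMap k A (q a b)) u)]
  refine add_mem (Ideal.pow_le_pow_right (by norm_num) hφ) ?_
  unfold VanCyc.quadEval
  refine Ideal.sum_mem _ fun a _ => Ideal.sum_mem _ fun b _ => ?_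
  split_ifs
  · rw [mul_assoc, pow_two]
    exact Ideal.mul_mem_left _ _ (Ideal.mul_mem_mul (hu.mem a) (hu.mem b))
  · exact zero_mem _

theorem QuadAt.forall {χ : A →ₐ[k] k} {φ : A} (h : QuadAt n χ φ) {u : Fin n → A} (hu : IsParams χ u)
    {q : Fin n → Fin n → k}
    (hq : φ - VanCyc.quadEval (fun a b => algebraMap k A (q a b)) u ∈ RingHom.ker χ.toRingHom ^ 3) :
    VanCyc.QuadOrd q := by
  obtain ⟨u₀, q₀, hu₀, hord, hq₀⟩ := h
  obtain ⟨ψ, hψ⟩ := exists_series hA χ
  obtain ⟨p, hp, hpv⟩ := exists_series_quad hψ hu.mem q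
  obtain ⟨p₀, hp₀, hpv₀⟩ := exists_series_quad hψ hu₀.mem q₀
  have hψq := (hψ.mem_iff 3 _).2 hq
  have hψq₀ := (hψ.mem_iff 3 _).2 hq₀
  rw [map_sub] at hψq hψq₀
  have hv := eq_upper_of_sub_mem (p := p) (p' := p₀) (by
    have := (maximalIdeal P ^ 3).sub_mem ((maximalIdeal P ^ 3).add_mem hψq₀ hp₀) ((maximalIdeal P ^ 3).add_mem hψq hp)
    rwa [show ∀ a b c d e : P, (a - b + (b - c)) - (a - d + (d - e)) = e - c from fun a b c d e => by ring] at this)
  let Lu := LinearEquiv.ofInjectiveEndo _ (linPart_injective hψ hu)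
  refine quadOrd_of_eval_eq ((linPart ψ u₀).comp Lu.symm.toLinearMap)
    ((linPart_injective hψ hu₀).comp Lu.symm.injective) one_ne_zero (fun v => ?_) hord
  rw [one_mul, LinearMap.comp_apply, ← hpv₀, ← hv, hpv]
  congr 1
  exact (Lu.apply_symm_apply v).symm

/-- A formal model at an ordinary quadratic point. -/
theorem QuadAt.exists_model {χ : A →ₐ[k] k} {φ : A} (h : QuadAt n χ φ) :
    ∃ ψ : A →ₐ[k] P, IsSeries χ ψ ∧ ∃ p : Fin n → Fin n → k, VanCyc.QuadOrd p ∧
      ψ φ - ((VanCyc.quadPoly p : MvPolynomial (Fin n) k) : P) ∈ maximalIdeal P ^ 3 := by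
  obtain ⟨u, q, hu, hord, hq⟩ := h
  obtain ⟨ψ, hψ⟩ := exists_series hA χ
  obtain ⟨p, hp, hpv⟩ := exists_series_quad hψ hu.mem q
  refine ⟨ψ, hψ, p, quadOrd_of_eval_eq (linPart ψ u) (linPart_injective hψ hu) one_ne_zero
    (fun v => by rw [one_mul, hpv]) hord, ?_⟩
  have hψq := (hψ.mem_iff 3 _).2 hq
  rw [map_sub] at hψq
  have := (maximalIdeal P ^ 3).add_mem hψq hp
  rwa [sub_add_sub_cancel] at this

end Point

/-- A formal presentation with ordinary quadratic part forces an ordinary quadratic point. -/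
theorem quadAt_of_presentation {k A : Type u} [Field k] [CommRing A] [Algebra k A] {m : ℕ}
    (hA : RingHom.Locally (RingHom.IsStandardSmoothOfRelativeDimension (m + 1)) (algebraMap k A))
    (χ : A →ₐ[k] k) (φ : A) (q : Fin (m + 1) → Fin (m + 1) → k) (hq : VanCyc.QuadOrd q)
    (f : MvPowerSeries (Fin (m + 1)) k) (ε : A →ₐ[k] MvPowerSeries (Fin (m + 1)) k ⧸ Ideal.span {f})
    (hf : f - (VanCyc.quadPoly q : MvPolynomial (Fin (m + 1)) k) ∈ maximalIdeal (MvPowerSeries (Fin (m + 1)) k) ^ 3)
    (hε : ∀ j x, ε x ∈ ((maximalIdeal (MvPowerSeries (Fin (m + 1)) k)).map (Ideal.Quotient.mk (Ideal.span {f}))) ^ j ↔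
      x ∈ Ideal.span {φ} ⊔ RingHom.ker χ.toRingHom ^ j)
    (hεφ : ε φ = 0)
    (t : Fin (m + 1) → A)
    (ht : ∀ i, ε (t i) - Ideal.Quotient.mk _ (MvPowerSeries.X i) ∈
      ((maximalIdeal (MvPowerSeries (Fin (m + 1)) k)).map (Ideal.Quotient.mk (Ideal.span {f}))) ^ 2)
    (hφ1 : φ ∈ RingHom.ker χ.toRingHom) :
    QuadAt (m + 1) χ φ := by
  classical
  let P := MvPowerSeries (Fin (m + 1)) k
  set M := RingHom.ker χ.toRingHom
  let π := Ideal.Quotient.mk (Ideal.span {f})
  let mT : Ideal (P ⧸ Ideal.span {f}) := (maximalIdeal P).map π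
  have hX : ∀ l, π (MvPowerSeries.X l) ∈ mT := fun l =>
    Ideal.mem_map_of_mem _ (CAlg6.mem_maximalIdeal_iff.2 (MvPowerSeries.constantCoeff_X l))
  have htm : ∀ l, t l ∈ M := fun l => by
    have h1 : ε (t l) ∈ mT := by
      rw [← sub_add_cancel (ε (t l)) (π (MvPowerSeries.X l))]
      exact add_mem (Ideal.pow_le_self two_ne_zero (ht l)) (hX l)
    have := (hε 1 (t l)).1 (by rwa [pow_one])
    rw [pow_one] at this
    exact (sup_le ((Ideal.span_singleton_le_iff_mem _).2 hφ1) le_rfl : Ideal.span {φ} ⊔ M ≤ M) this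
  have hQ2 : ((VanCyc.quadPoly q : MvPolynomial (Fin (m + 1)) k) : P) ∈ maximalIdeal P ^ 2 := by
    rw [QS97.coe_quadPoly]
    exact QS97.mem_pow_of_ordGE 2 fun d hd => QS97.coeff_quadEval_of_ne_two _ (by omega)
  have hf2 : f ∈ maximalIdeal P ^ 2 := by
    have := add_mem (Ideal.pow_le_pow_right (by norm_num) hf) hQ2
    rwa [sub_add_cancel] at this
  have hεlin : ∀ c : Fin (m + 1) → k,
      ε (∑ l, c l • t l) - π (∑ l, MvPowerSeries.C (c l) * MvPowerSeries.X l) ∈ mT ^ 2 := fun c => by
    rw [map_sum, map_sum, ← Finset.sum_sub_distrib]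
    refine Ideal.sum_mem _ fun l _ => ?_
    rw [map_smul, Algebra.smul_def (c l) (ε (t l)), map_mul]
    show π (MvPowerSeries.C (c l)) * ε (t l) - π (MvPowerSeries.C (c l)) * π (MvPowerSeries.X l) ∈ _
    rw [← mul_sub]
    exact Ideal.mul_mem_left _ _ (ht l)
  -- the lifts are independent even modulo `φ`
  have hind : ∀ c : Fin (m + 1) → k, ∑ l, c l • t l ∈ Ideal.span {φ} ⊔ M ^ 2 → c = 0 := by
    intro c hc
    have h2 : π (∑ l, MvPowerSeries.C (c l) * MvPowerSeries.X l) ∈ mT ^ 2 := by
      have := (mT ^ 2).sub_mem ((hε 2 _).2 hc) (hεlin c)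
      rwa [sub_sub_cancel] at this
    rw [← Ideal.map_pow] at h2
    have h3 : (∑ l, MvPowerSeries.C (c l) * MvPowerSeries.X l) ∈ maximalIdeal P ^ 2 := by
      obtain ⟨z, hz, hze⟩ := (Ideal.mem_map_iff_of_surjective π Ideal.Quotient.mk_surjective).1 h2
      rw [Ideal.Quotient.eq] at hze
      obtain ⟨b, hb⟩ := Ideal.mem_span_singleton'.1 hze
      have := (maximalIdeal P ^ 2).sub_mem hz (Ideal.mul_mem_left _ b hf2)
      rwa [hb, sub_sub_cancel] at this
    funext l
    have := congrFun (MorseA.lc_of_mem_sq h3) l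
    rw [MorseA.lc_sum, Finset.sum_apply, Finset.sum_eq_single l (fun b _ hb => by
      rw [MorseA.lc_C_mul, MorseA.lc_X, Pi.smul_apply, Pi.single_eq_of_ne (Ne.symm hb), smul_zero]) (by simp),
      MorseA.lc_C_mul, MorseA.lc_X, Pi.smul_apply, Pi.single_eq_same, smul_eq_mul, mul_one] at this
    exact this
  have hu : IsParams χ t := ⟨htm, fun c hc => hind c (Ideal.mem_sup_right hc)⟩
  have hφ2 : φ ∈ M ^ 2 := by
    obtain ⟨c, hc⟩ := IsParams.span hA hu φ hφ1
    have : c = 0 := hind c (by
      have : ∑ l, c l • t l = φ - (φ - ∑ l, c l • t l) := by ring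
      rw [this]
      exact sub_mem (Ideal.mem_sup_left (Ideal.mem_span_singleton_self φ)) (Ideal.mem_sup_right hc))
    subst this
    simpa [M] using hc
  obtain ⟨p, hp⟩ := exists_quad_of_mem_sq χ htm (IsParams.span hA hu) hφ2
  -- the expansion of a quadratic expression in the lifts
  have hεq : ∀ r : Fin (m + 1) → Fin (m + 1) → k,
      ε (VanCyc.quadEval (fun a b => algebraMap k A (r a b)) t) -
        π ((VanCyc.quadPoly r : MvPolynomial (Fin (m + 1)) k) : P) ∈ mT ^ 3 := fun r => by
    have e1 : ε (VanCyc.quadEval (fun a b => algebraMap k A (r a b)) t) =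
        VanCyc.quadEval (fun a b => π (MvPowerSeries.C (r a b))) (fun l => ε (t l)) := by
      unfold VanCyc.quadEval
      rw [map_sum]
      refine Finset.sum_congr rfl fun a _ => ?_
      rw [map_sum]
      refine Finset.sum_congr rfl fun b _ => ?_
      split_ifs
      · rw [map_mul, map_mul, AlgHom.commutes]; rfl
      · rw [map_zero]
    have e2 : π ((VanCyc.quadPoly r : MvPolynomial (Fin (m + 1)) k) : P) =
        VanCyc.quadEval (fun a b => π (MvPowerSeries.C (r a b))) (fun l => π (MvPowerSeries.X l)) := by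
      rw [QS97.coe_quadPoly]
      unfold VanCyc.quadEval
      rw [map_sum]
      refine Finset.sum_congr rfl fun a _ => ?_
      rw [map_sum]
      refine Finset.sum_congr rfl fun b _ => ?_
      split_ifs
      · rw [map_mul, map_mul]
      · rw [map_zero]
    rw [e1, e2]
    refine quadEval_mem_congr _ (fun l => ?_) hX ht
    rw [← sub_add_cancel (ε (t l)) (π (MvPowerSeries.X l))]
    exact add_mem (Ideal.pow_le_self two_ne_zero (ht l)) (hX l)
  -- compare with the given form
  have hp2 : π ((VanCyc.quadPoly p : MvPolynomial (Fin (m + 1)) k) : P) ∈ mT ^ 3 := by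
    have h1 : ε (φ - VanCyc.quadEval (fun a b => algebraMap k A (p a b)) t) ∈ mT ^ 3 := (hε 3 _).2 (Ideal.mem_sup_right hp)
    rw [map_sub, hεφ, zero_sub] at h1
    have := (mT ^ 3).sub_mem (neg_mem h1) (hεq p)
    rwa [neg_neg, sub_sub_cancel] at this
  rw [← Ideal.map_pow] at hp2
  obtain ⟨z, hz, hze⟩ := (Ideal.mem_map_iff_of_surjective π Ideal.Quotient.mk_surjective).1 hp2
  rw [Ideal.Quotient.eq] at hze
  obtain ⟨b, hb⟩ := Ideal.mem_span_singleton'.1 hze
  let c := MvPowerSeries.constantCoeff b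
  let cq : Fin (m + 1) → Fin (m + 1) → k := fun s t => -c * q s t
  have hcq : ∀ v, VanCyc.quadEval cq v = -c * VanCyc.quadEval q v := fun v => by
    unfold VanCyc.quadEval
    rw [Finset.mul_sum]
    refine Finset.sum_congr rfl fun s _ => ?_
    rw [Finset.mul_sum]
    refine Finset.sum_congr rfl fun t _ => ?_
    split_ifs <;> simp [cq, mul_assoc]
  have hcp : ((VanCyc.quadPoly cq : MvPolynomial (Fin (m + 1)) k) : P) =
      -(MvPowerSeries.C c * ((VanCyc.quadPoly q : MvPolynomial (Fin (m + 1)) k) : P)) := by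
    rw [QS97.coe_quadPoly, QS97.coe_quadPoly]
    unfold VanCyc.quadEval
    rw [Finset.mul_sum, ← Finset.sum_neg_distrib]
    refine Finset.sum_congr rfl fun s _ => ?_
    rw [Finset.mul_sum, ← Finset.sum_neg_distrib]
    refine Finset.sum_congr rfl fun t _ => ?_
    split_ifs
    · simp only [cq, map_neg, map_mul]; ring
    · simp
  have hcmp : ((VanCyc.quadPoly p : MvPolynomial (Fin (m + 1)) k) : P) -
      (VanCyc.quadPoly cq : MvPolynomial (Fin (m + 1)) k) ∈ maximalIdeal P ^ 3 := by
    have h1 : (b - MvPowerSeries.C c) * f ∈ maximalIdeal P ^ 3 := by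
      rw [pow_succ']
      exact Ideal.mul_mem_mul (CAlg6.mem_maximalIdeal_iff.2 (by simp [c])) hf2
    have h2 : MvPowerSeries.C c * (f - ((VanCyc.quadPoly q : MvPolynomial (Fin (m + 1)) k) : P)) ∈ maximalIdeal P ^ 3 :=
      Ideal.mul_mem_left _ _ hf
    have := (maximalIdeal P ^ 3).sub_mem hz ((maximalIdeal P ^ 3).add_mem h1 h2)
    rw [hcp]
    rwa [show z - ((b - MvPowerSeries.C c) * f + MvPowerSeries.C c * (f - ((VanCyc.quadPoly q : MvPolynomial (Fin (m + 1)) k) : P))) =
      ((VanCyc.quadPoly p : MvPolynomial (Fin (m + 1)) k) : P) - -(MvPowerSeries.C c * ((VanCyc.quadPoly q : MvPolynomial (Fin (m + 1)) k) : P)) by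
      linear_combination -hb] at this
  have hpv := eq_upper_of_sub_mem hcmp
  refine ⟨t, p, hu, quadOrd_of_eval_eq LinearMap.id Function.injective_id (c := -c) ?_
    (fun v => (hpv v).trans (hcq v)) hq, hp⟩
  intro hc0
  have hp0 : ∀ a b, a ≤ b → p a b = 0 := fun a b hab => by
    have h0 := QS97.ordGE_of_mem_pow 3 hcmp (QS97.pairExp a b) (by simp [QS97.pairExp, map_add])
    rw [map_sub, sub_eq_zero, QS97.coe_quadPoly, QS97.coe_quadPoly, QS97.coeff_quadEval_pairExp _ hab,
      QS97.coeff_quadEval_pairExp _ hab] at h0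
    rw [h0]
    simp [cq, hc0]
  -- then `φ` would vanish to third order
  have hφ3 : φ ∈ M ^ 3 := by
    have hz' : VanCyc.quadEval (fun a b => algebraMap k A (p a b)) t = 0 := by
      unfold VanCyc.quadEval
      refine Finset.sum_eq_zero fun a _ => Finset.sum_eq_zero fun b _ => ?_
      split_ifs with hab
      · simp only [hp0 a b hab, map_zero, zero_mul]
      · rfl
    rwa [hz', sub_zero] at hp
  obtain ⟨ψ, hψ⟩ := exists_series hA χ
  obtain ⟨pq, hpq, hpqv⟩ := exists_series_quad hψ htm q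
  have hq3 : VanCyc.quadEval (fun a b => algebraMap k A (q a b)) t ∈ M ^ 3 := by
    have h1 : ε (VanCyc.quadEval (fun a b => algebraMap k A (q a b)) t) ∈ mT ^ 3 := by
      have h2 : π f - π ((VanCyc.quadPoly q : MvPolynomial (Fin (m + 1)) k) : P) ∈ mT ^ 3 := by
        rw [← map_sub, ← Ideal.map_pow]; exact Ideal.mem_map_of_mem _ hf
      rw [show π f = 0 from Ideal.Quotient.eq_zero_iff_mem.2 (Ideal.mem_span_singleton_self f), zero_sub] at h2
      have := (mT ^ 3).sub_mem (hεq q) h2
      rwa [sub_neg_eq_add, sub_add_cancel] at this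
    exact (sup_le ((Ideal.span_singleton_le_iff_mem _).2 hφ3) le_rfl : Ideal.span {φ} ⊔ M ^ 3 ≤ M ^ 3) ((hε 3 _).1 h1)
  have hpq0 : ((VanCyc.quadPoly pq : MvPolynomial (Fin (m + 1)) k) : P) ∈ maximalIdeal P ^ 3 := by
    have := (maximalIdeal P ^ 3).sub_mem ((hψ.mem_iff 3 _).2 hq3) hpq
    rwa [sub_sub_cancel] at this
  exact Morse.quadPoly_notMem pq
    (quadOrd_of_eval_eq (linPart ψ t) (linPart_injective hψ hu) one_ne_zero (fun v => by rw [one_mul, hpqv]) hq) hpq0

end Groth.Agent.An92.Lef
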