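import Groth.Agent.An92.Lef.Generic

/-! Rational points on the charts, tangency, and change of chart. -/

universe u

open CategoryTheory CategoryTheory.Limits AlgebraicGeometry Opposite TopologicalSpace
open scoped TensorProduct

noncomputable section

set_option backward.isDefEq.respectTransparency false

namespace Groth.Agent.An92.Lef

open LefPen Groth.Agent.Var76

variable {k : Type u} [Field k] {r : ℕ}

theorem mem_basicOpen_dehom {d : ℕ} (G : Form r k d) (l : Fin (r + 1)) {x : CohB1.ProjSpace r k}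
    (hx : x ∈ chart r k l) :
    x ∈ (CohB1.ProjSpace r k).basicOpen (dehom G l) ↔ G.1 ∉ x.asHomogeneousIdeal := by
  rw [Scheme.mem_basicOpen _ _ _ hx]
  have h1 : IsUnit ((CohB1.ProjSpace r k).presheaf.germ _ x hx (dehom G l)) ↔
      IsUnit (Proj.stalkIso' (CohB1.polyGrading r k) x
        ((CohB1.ProjSpace r k).presheaf.germ _ x hx (dehom G l))) :=
    (isUnit_map_iff (Proj.stalkIso' (CohB1.polyGrading r k) x) _).symm
  refine h1.trans ?_
  erw [Proj.stalkIso'_germ]
  rw [← HomogeneousLocalization.isUnit_iff_isUnit_val]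
  change IsUnit (Localization.mk G.1
    (⟨MvPolynomial.X l ^ d, x.asHomogeneousIdeal.toIdeal.primeCompl.pow_mem hx d⟩ :
      x.asHomogeneousIdeal.toIdeal.primeCompl)) ↔ _
  rw [Localization.mk_eq_mk', IsLocalization.AtPrime.isUnit_mk'_iff]
  rfl

variable {X : Scheme.{u}} (i : X ⟶ CohB1.ProjSpace r k)

instance pieceAlgebra (j : Fin (r + 1)) : Algebra k Γ(X, piece i j) := (pconst i j).toAlgebra

theorem pform_eq_aeval (j : Fin (r + 1)) {d : ℕ} (H : Form r k d) :
    pform i j H = MvPolynomial.aeval (pcoord i j) H.1 := pform_eq i j H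

theorem pform_X (j l : Fin (r + 1)) : pform i j (⟨MvPolynomial.X l, X_mem r k l⟩ : Form r k 1) = pcoord i j l := by
  rw [pform_eq_aeval, MvPolynomial.aeval_X]

/-- A constant as a form. -/
def constForm (r : ℕ) {k : Type u} [Field k] (c : k) : Form r k 0 :=
  ⟨MvPolynomial.C c, (MvPolynomial.mem_homogeneousSubmodule _ _).mpr (MvPolynomial.isHomogeneous_C _ c)⟩

theorem pform_C (j : Fin (r + 1)) (c : k) : pform i j (constForm r c) = algebraMap k _ c := by
  rw [pform_eq_aeval, constForm, MvPolynomial.aeval_C]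

theorem basicOpen_pcoord (l j : Fin (r + 1)) :
    X.basicOpen (pcoord i l j) = piece i l ⊓ piece i j := by
  rw [← pform_X, pform, ← Scheme.preimage_basicOpen, ← Scheme.Hom.preimage_inf]
  congr 1
  ext x
  constructor
  · intro hx
    have hl : x ∈ chart r k l := Scheme.basicOpen_le _ _ hx
    exact ⟨hl, (mem_basicOpen_dehom _ l hl).1 hx⟩
  · rintro ⟨hl, hj⟩
    exact (mem_basicOpen_dehom _ l hl).2 hj

/-- The change of chart on `X`. -/
theorem res_pform {d : ℕ} (G : Form r k d) (l j : Fin (r + 1)) :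
    (X.presheaf.map (homOfLE (inf_le_left : piece i l ⊓ piece i j ≤ piece i l)).op).hom (pform i l G) =
      (X.presheaf.map (homOfLE (inf_le_left : piece i l ⊓ piece i j ≤ piece i l)).op).hom (pcoord i l j) ^ d *
      (X.presheaf.map (homOfLE (inf_le_right : piece i l ⊓ piece i j ≤ piece i j)).op).hom (pform i j G) := by
  have h := congrArg (i.app (chart r k l ⊓ chart r k j)).hom (res_dehom G j l)
  have nat : ∀ {U V : (CohB1.ProjSpace r k).Opens} (hle : V ≤ U) (s : Γ(CohB1.ProjSpace r k, U)),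
      (i.app V).hom (((CohB1.ProjSpace r k).presheaf.map (homOfLE hle).op).hom s) =
        (X.presheaf.map (homOfLE (i.preimage_mono hle)).op).hom ((i.app U).hom s) := fun hle s =>
    ConcreteCategory.congr_hom (i.naturality (homOfLE hle).op) s
  rw [map_mul, map_pow, nat, nat, nat] at h
  rw [← pform_X i l j]
  exact h

section Loc

variable {A B : Type u} [CommRing A] [CommRing B] [Algebra A B]

/-- Second order vanishing is unchanged by localisation. -/
theorem mem_sq_iff_of_localization (S : Submonoid A) [IsLocalization S B] {K : Type u} [Field K]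
    (χ : B →+* K) (hsur : Function.Surjective (χ.comp (algebraMap A B))) (a : A) :
    algebraMap A B a ∈ RingHom.ker χ ^ 2 ↔ a ∈ RingHom.ker (χ.comp (algebraMap A B)) ^ 2 := by
  set M := RingHom.ker (χ.comp (algebraMap A B))
  have hM : M.IsMaximal := RingHom.ker_isMaximal_of_surjective _ hsur
  have hMB : M.map (algebraMap A B) = RingHom.ker χ := by
    conv_rhs => rw [← IsLocalization.map_under S B (RingHom.ker χ)]
    rfl
  rw [← hMB, ← Ideal.map_pow, IsLocalization.algebraMap_mem_map_algebraMap_iff S]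
  refine ⟨fun ⟨t, ht, hta⟩ => ?_, fun h => ⟨1, S.one_mem, by rwa [one_mul]⟩⟩
  have htM : t ∉ M := fun htM => ((IsLocalization.map_units B ⟨t, ht⟩).map χ).ne_zero htM
  obtain ⟨b, e, he, hbe⟩ := Ideal.IsMaximal.exists_inv hM htM
  have hid : a = b * (t * a) + e * a := by linear_combination -a * hbe
  have hMa : a ∈ M := by
    rcases hM.isPrime.mem_or_mem (Ideal.pow_le_self two_ne_zero hta) with h | h
    · exact absurd h htM
    · exact h
  rw [hid]
  exact add_mem (Ideal.mul_mem_left _ _ hta) (by rw [pow_two]; exact Ideal.mul_mem_mul he hMa)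

end Loc

/-- The form is tangent at the rational point. -/
def Bad (j : Fin (r + 1)) (χ : Γ(X, piece i j) →ₐ[k] k) {d : ℕ} (H : Form r k d) : Prop :=
  pform i j H ∈ RingHom.ker χ.toRingHom ^ 2

theorem algHom_pform {j : Fin (r + 1)} (χ : Γ(X, piece i j) →ₐ[k] k) {d : ℕ} (H : Form r k d) :
    χ (pform i j H) = MvPolynomial.eval (fun l => χ (pcoord i j l)) H.1 := by
  rw [pform_eq_aeval, ← AlgHom.comp_apply, MvPolynomial.comp_aeval]
  rfl

variable {i} in
theorem Bad.eval_eq_zero {j : Fin (r + 1)} {χ : Γ(X, piece i j) →ₐ[k] k} {d : ℕ} {H : Form r k d}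
    (h : Bad i j χ H) : χ (pform i j H) = 0 := Ideal.pow_le_self two_ne_zero h

theorem algHom_surjective {j : Fin (r + 1)} (χ : Γ(X, piece i j) →ₐ[k] k) : Function.Surjective χ :=
  fun c => ⟨algebraMap k _ c, χ.commutes c⟩

theorem not_transversal_iff [IsAlgClosed k] [IsClosedImmersion i] {n : ℕ} (hn : 1 ≤ n)
    [SmoothOfRelativeDimension n (i ≫ CohB1.ProjSpace.toSpec r k)] {d : ℕ} (H : Form r k d) :
    ¬ Transversal k n 1 (secToSpec i ({H} : Set (Form r k d))) ↔
      ∃ (j : Fin (r + 1)) (χ : Γ(X, piece i j) →ₐ[k] k), Bad i j χ H := by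
  rw [transversal_iff i hn H]
  constructor
  · intro h
    push Not at h
    obtain ⟨j, M, hM, hmem, h2⟩ := h
    have : Algebra.FiniteType k Γ(X, piece i j) := Subalgebra.fg_def.2 ⟨_, Set.finite_range _, adjoin_pcoord i j⟩ |> fun h => ⟨h⟩
    letI := Ideal.Quotient.field M
    have : Module.Finite k (Γ(X, piece i j) ⧸ M) := finite_of_finite_type_of_isJacobsonRing k _
    let e := AlgEquiv.ofBijective (Algebra.ofId k (Γ(X, piece i j) ⧸ M))
      (IsAlgClosed.algebraMap_bijective_of_isIntegral (k := k))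
    refine ⟨j, e.symm.toAlgHom.comp (Ideal.Quotient.mkₐ k M), ?_⟩
    have hker : RingHom.ker (e.symm.toAlgHom.comp (Ideal.Quotient.mkₐ k M)).toRingHom = M := by
      ext a
      simp [RingHom.mem_ker, Ideal.Quotient.eq_zero_iff_mem]
    rwa [Bad, hker]
  · rintro ⟨j, χ, hχ⟩ h
    exact h j _ (RingHom.ker_isMaximal_of_surjective _ (algHom_surjective i χ))
      (Ideal.pow_le_self two_ne_zero hχ) hχ

/-- Change of chart for rational points. -/
theorem exists_transition [IsClosedImmersion i] (l j : Fin (r + 1)) (χ : Γ(X, piece i l) →ₐ[k] k)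
    (hne : χ (pcoord i l j) ≠ 0) :
    ∃ χ' : Γ(X, piece i j) →ₐ[k] k,
      (∀ t, χ (pcoord i l j) * χ' (pcoord i j t) = χ (pcoord i l t)) ∧
      ∀ {d : ℕ} (H : Form r k d), Bad i l χ H ↔ Bad i j χ' H := by
  let W := piece i l ⊓ piece i j
  let ρl : Γ(X, piece i l) →+* Γ(X, W) := (X.presheaf.map (homOfLE (inf_le_left : W ≤ piece i l)).op).hom
  let ρj : Γ(X, piece i j) →+* Γ(X, W) := (X.presheaf.map (homOfLE (inf_le_right : W ≤ piece i j)).op).hom
  have hl : @IsLocalization.Away _ _ (pcoord i l j) Γ(X, W) _ ρl.toAlgebra :=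
    (isAffineOpen_piece i l).isLocalization_of_eq_basicOpen _ _ (basicOpen_pcoord i l j).symm
  have hj : @IsLocalization.Away _ _ (pcoord i j l) Γ(X, W) _ ρj.toAlgebra :=
    (isAffineOpen_piece i j).isLocalization_of_eq_basicOpen _ _ (by rw [basicOpen_pcoord, inf_comm])
  let χB : Γ(X, W) →+* k :=
    letI := ρl.toAlgebra
    IsLocalization.Away.lift (pcoord i l j) (g := χ.toRingHom) (Ne.isUnit hne)
  have hB : ∀ a, χB (ρl a) = χ a := fun a => by
    letI := ρl.toAlgebra
    exact IsLocalization.Away.lift_eq _ _ a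
  have hco : ∀ {d : ℕ} (G : Form r k d), ρl (pform i l G) = ρl (pcoord i l j) ^ d * ρj (pform i j G) :=
    fun G => res_pform i G l j
  have hC : ∀ c : k, ρl (algebraMap k _ c) = ρj (algebraMap k _ c) := fun c => by
    have := hco (constForm r c)
    rwa [pform_C, pform_C, pow_zero, one_mul] at this
  have hc' : ∀ c : k, χB (ρj (algebraMap k _ c)) = c := fun c => by
    rw [← hC, hB, χ.commutes]; rfl
  let χ' : Γ(X, piece i j) →ₐ[k] k := AlgHom.mk (χB.comp ρj) hc'
  refine ⟨χ', fun t => ?_, fun {d} H => ?_⟩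
  · have := congrArg χB (hco (⟨MvPolynomial.X t, X_mem r k t⟩ : Form r k 1))
    rw [map_mul, pow_one, pform_X, pform_X, hB, hB] at this
    exact this.symm
  · have h1 : ρl (pform i l H) ∈ RingHom.ker χB ^ 2 ↔ Bad i l χ H := by
      letI := ρl.toAlgebra
      have hcomp : χB.comp (algebraMap Γ(X, piece i l) Γ(X, W)) = χ.toRingHom := RingHom.ext hB
      refine (mem_sq_iff_of_localization (Submonoid.powers (pcoord i l j)) χB ?_ _).trans ?_
      · rw [hcomp]; exact algHom_surjective i χ
      · rw [hcomp]; rfl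
    have h2 : ρj (pform i j H) ∈ RingHom.ker χB ^ 2 ↔ Bad i j χ' H := by
      letI := ρj.toAlgebra
      exact mem_sq_iff_of_localization (Submonoid.powers (pcoord i j l)) χB (algHom_surjective i χ') _
    rw [← h1, ← h2, hco H]
    have hu : IsUnit (ρl (pcoord i l j) ^ d) := by
      letI := ρl.toAlgebra
      exact (IsLocalization.Away.algebraMap_isUnit (S := Γ(X, W)) (pcoord i l j)).pow d
    exact Ideal.unit_mul_mem_iff_mem _ hu

end Groth.Agent.An92.Lef
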