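import Groth.Agent.An92.Lef.Transversal
import Groth.Agent.An92.Lef.Points
import Groth.Agent.An92.Lef.LocalRing
import Groth.Agent.S5998

/-! When is the quotient of a smooth algebra by several functions smooth of the expected dimension. -/

universe u

open scoped TensorProduct
open CategoryTheory CategoryTheory.Limits AlgebraicGeometry Opposite TopologicalSpace

noncomputable section

set_option backward.isDefEq.respectTransparency false

namespace Groth.Agent.An92.Lef

open LefPen Groth.Agent.Var76 KaehlerDifferential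

variable {k A : Type u} [Field k] [CommRing A] [Algebra k A] {m : ℕ}

/-- Independence of the differentials of a family vanishing at a point. -/
def IndepAt (M : Ideal A) (v : Fin m → A) : Prop :=
  ∀ c : Fin m → k, ∑ t, c t • v t ∈ M ^ 2 → c = 0

theorem indepAt_iff_linearIndependent {κ : Type u} [Field κ] [Algebra A κ] [Algebra k κ] [IsScalarTower k A κ]
    (hk : Function.Surjective (algebraMap k κ)) (M : Ideal A) (hM : RingHom.ker (algebraMap A κ) = M)
    (v : Fin m → A) (hv : ∀ t, v t ∈ M) :
    IndepAt (k := k) M v ↔ LinearIndependent κ fun t => (1 : κ) ⊗ₜ[A] D k A (v t) := by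
  subst hM
  have key : ∀ c : Fin m → k, ∑ t, algebraMap k κ (c t) • ((1 : κ) ⊗ₜ[A] D k A (v t)) =
      (1 : κ) ⊗ₜ[A] D k A (∑ t, c t • v t) := fun c => by
    rw [map_sum, TensorProduct.tmul_sum]
    refine Finset.sum_congr rfl fun t _ => ?_
    rw [Derivation.map_smul, TensorProduct.tmul_smul, algebraMap_smul]
  have hmem : ∀ c : Fin m → k, ∑ t, c t • v t ∈ RingHom.ker (algebraMap A κ) := fun c =>
    Ideal.sum_mem _ fun t _ => by rw [Algebra.smul_def]; exact Ideal.mul_mem_left _ _ (hv t)
  constructor
  · intro h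
    rw [Fintype.linearIndependent_iff]
    intro g hg t
    choose c hc using fun t => hk (g t)
    simp only [← hc] at hg
    rw [key, SmoothCrit.D_eq_zero_iff k hk (hmem c)] at hg
    rw [← hc, h c hg]
    exact map_zero _
  · intro h c hc
    funext t
    refine (algebraMap k κ).injective ?_
    rw [Pi.zero_apply, map_zero]
    refine Fintype.linearIndependent_iff.1 h (fun t => algebraMap k κ (c t)) ?_ t
    rw [key, SmoothCrit.D_eq_zero_iff k hk (hmem c)]
    exact hc

theorem ker_baseChange_le_range {B : Type u} [CommRing B] (κ : Type u) [CommRing κ] [Algebra B κ]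
    {M N : Type u} [AddCommGroup M] [Module B M] [AddCommGroup N] [Module B N] (g : M →ₗ[B] N)
    (e : Fin m → M) (hg : Function.Surjective g)
    (hex : Function.Exact (Submodule.span B (Set.range e)).subtype g) :
    LinearMap.ker (g.baseChange κ) ≤ Submodule.span κ (Set.range fun t => (1 : κ) ⊗ₜ[B] e t) := by
  intro x hx
  obtain ⟨z, rfl⟩ := (lTensor_exact κ hex hg x).1 hx
  clear hx
  induction z using TensorProduct.induction_on with
  | zero => simp
  | add a b ha hb => rw [map_add]; exact add_mem ha hb
  | tmul c w =>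
    obtain ⟨w, hw⟩ := w
    obtain ⟨b, rfl⟩ := (Submodule.mem_span_range_iff_exists_fun B).1 hw
    rw [LinearMap.lTensor_tmul, Submodule.subtype_apply, TensorProduct.tmul_sum]
    refine Submodule.sum_mem _ fun t _ => ?_
    rw [TensorProduct.tmul_smul, ← algebraMap_smul κ (b t),
      show c ⊗ₜ[B] e t = c • ((1 : κ) ⊗ₜ[B] e t) by simp [TensorProduct.smul_tmul']]
    exact Submodule.smul_mem _ _ (Submodule.smul_mem _ _ (Submodule.subset_span ⟨t, rfl⟩))

set_option maxHeartbeats 800000 in
set_option synthInstance.maxHeartbeats 80000 in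
/-- The rank of the differentials of the quotient by a family. -/
theorem rankAtStalk_quotient_fam [IsAlgClosed k] [Algebra.Smooth k A] (v : Fin m → A)
    (N : Ideal (A ⧸ Ideal.span (Set.range v))) [N.IsMaximal] [Algebra.Smooth k (A ⧸ Ideal.span (Set.range v))] :
    (Module.rankAtStalk Ω[A⁄k] ⟨N.comap (Ideal.Quotient.mk _), inferInstance⟩ ≤
      Module.rankAtStalk Ω[(A ⧸ Ideal.span (Set.range v))⁄k] ⟨N, inferInstance⟩ + m) ∧
    (Module.rankAtStalk Ω[(A ⧸ Ideal.span (Set.range v))⁄k] ⟨N, inferInstance⟩ + m =
        Module.rankAtStalk Ω[A⁄k] ⟨N.comap (Ideal.Quotient.mk _), inferInstance⟩ ↔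
      IndepAt (k := k) (N.comap (Ideal.Quotient.mk _)) v) := by
  classical
  set B := A ⧸ Ideal.span (Set.range v)
  let κ := N.ResidueField
  let e : Fin m → B ⊗[A] Ω[A⁄k] := fun t => 1 ⊗ₜ D k A (v t)
  have hsurj : Function.Surjective (algebraMap A B) := Ideal.Quotient.mk_surjective
  have hk : Function.Surjective (algebraMap k κ) := algebraMap_surjective_residueField N
  have hB : (Module.rankAtStalk Ω[A⁄k] ⟨N.comap (Ideal.Quotient.mk _), inferInstance⟩) =
      Module.finrank κ (κ ⊗[B] (B ⊗[A] Ω[A⁄k])) := by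
    have := Module.rankAtStalk_baseChange (R := A) (M := Ω[A⁄k]) (S := B) ⟨N, inferInstance⟩
    rw [Module.rankAtStalk_eq] at this
    exact this.symm
  rw [hB, Module.rankAtStalk_eq]
  let g : κ ⊗[B] (B ⊗[A] Ω[A⁄k]) →ₗ[κ] κ ⊗[B] Ω[B⁄k] := (mapBaseChange k A B).baseChange κ
  have hg : Function.Surjective g := LinearMap.lTensor_surjective κ (mapBaseChange_surjective k A B hsurj)
  have hv0 : ∀ t, Ideal.Quotient.mk (Ideal.span (Set.range v)) (v t) = 0 := fun t =>
    Ideal.Quotient.eq_zero_iff_mem.2 (Ideal.subset_span ⟨t, rfl⟩)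
  have hzero : ∀ t, mapBaseChange k A B (e t) = 0 := fun t => by
    show mapBaseChange k A B (1 ⊗ₜ D k A (v t)) = 0
    rw [mapBaseChange_tmul, map_D, one_smul, Ideal.Quotient.algebraMap_eq, hv0, map_zero]
  have hker : LinearMap.ker g = Submodule.span κ (Set.range fun t => (1 : κ) ⊗ₜ[B] e t) := by
    refine le_antisymm (fun x hx => ?_) ?_
    · have hex : Function.Exact ((Submodule.span B (Set.range e)).subtype) (mapBaseChange k A B) := by
        rw [LinearMap.exact_iff, Submodule.range_subtype]
        refine le_antisymm (fun y hy => ?_) ?_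
        · obtain ⟨z, rfl⟩ := (KaehlerDifferential.exact_kerCotangentToTensor_mapBaseChange k A B hsurj y).1 hy
          obtain ⟨⟨a, ha⟩, rfl⟩ := Ideal.toCotangent_surjective _ z
          rw [RingHom.mem_ker, Ideal.Quotient.algebraMap_eq, Ideal.Quotient.eq_zero_iff_mem,
            Ideal.mem_span_range_iff_exists_fun] at ha
          obtain ⟨b, rfl⟩ := ha
          rw [kerCotangentToTensor_toCotangent, map_sum, TensorProduct.tmul_sum]
          refine Submodule.sum_mem _ fun t _ => ?_
          rw [Derivation.leibniz, TensorProduct.tmul_add,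
            TensorProduct.tmul_smul, TensorProduct.tmul_smul, ← algebraMap_smul B (b t), ← algebraMap_smul B (v t)]
          refine add_mem (Submodule.smul_mem _ _ (Submodule.subset_span ⟨t, rfl⟩)) ?_
          rw [Ideal.Quotient.algebraMap_eq, hv0, zero_smul]
          exact zero_mem _
        · rw [Submodule.span_le]
          rintro _ ⟨t, rfl⟩
          exact hzero t
      exact ker_baseChange_le_range κ (mapBaseChange k A B) e (mapBaseChange_surjective k A B hsurj) hex hx
    · rw [Submodule.span_le]
      rintro _ ⟨t, rfl⟩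
      show (1 : κ) ⊗ₜ[B] mapBaseChange k A B (e t) = 0
      rw [hzero, TensorProduct.tmul_zero]
  have hkerκ : RingHom.ker (algebraMap A κ) = N.comap (Ideal.Quotient.mk _) := by
    rw [IsScalarTower.algebraMap_eq A B κ, ← RingHom.comap_ker, Ideal.ker_algebraMap_residueField]
    rfl
  have hvN : ∀ t, v t ∈ N.comap (Ideal.Quotient.mk _) := fun t => by
    rw [Ideal.mem_comap, hv0]; exact zero_mem _
  let ec := TensorProduct.AlgebraTensorModule.cancelBaseChange A B κ κ Ω[A⁄k]
  have hli : IndepAt (k := k) (N.comap (Ideal.Quotient.mk _)) v ↔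
      LinearIndependent κ fun t => (1 : κ) ⊗ₜ[B] e t := by
    rw [indepAt_iff_linearIndependent hk _ hkerκ v hvN,
      ← ec.toLinearMap.linearIndependent_iff ec.ker (v := fun t => (1 : κ) ⊗ₜ[B] e t)]
    rw [show (fun t => (1 : κ) ⊗ₜ[A] D k A (v t)) = ⇑ec.toLinearMap ∘ fun t => (1 : κ) ⊗ₜ[B] e t from
      funext fun t => by simp [ec, e]]
  have hsum := LinearMap.finrank_range_add_finrank_ker g
  rw [LinearMap.range_eq_top.2 hg, finrank_top, hker] at hsum
  have hle := finrank_range_le_card (R := κ) fun t => (1 : κ) ⊗ₜ[B] e t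
  rw [Fintype.card_fin] at hle
  refine ⟨?_, ?_⟩
  · rw [← hsum]
    exact Nat.add_le_add_left hle _
  rw [hli, linearIndependent_iff_card_eq_finrank_span, Fintype.card_fin, ← hsum]
  exact Nat.add_left_cancel_iff

/-- The criterion. -/
theorem locally_quotient_fam_iff [IsAlgClosed k] {n : ℕ} (hm : m ≤ n)
    (hA : RingHom.Locally (RingHom.IsStandardSmoothOfRelativeDimension n) (algebraMap k A)) (v : Fin m → A) :
    RingHom.Locally (RingHom.IsStandardSmoothOfRelativeDimension (n - m))
        (algebraMap k (A ⧸ Ideal.span (Set.range v))) ↔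
      ∀ M : Ideal A, M.IsMaximal → (∀ t, v t ∈ M) → IndepAt (k := k) M v := by
  classical
  rcases subsingleton_or_nontrivial A with hA0 | hA0
  · refine ⟨fun _ M hM => absurd (Subsingleton.elim M ⊤) hM.ne_top, fun _ => ?_⟩
    refine ⟨∅, ?_, by simp⟩
    have : Subsingleton (A ⧸ Ideal.span (Set.range v)) := inferInstance
    exact Subsingleton.elim _ _
  have hsm : Algebra.Smooth k A := (rankAtStalk_eq_of_locally hA (Nonempty.some inferInstance)).1
  constructor
  · intro h M hM hvM
    have hker : RingHom.ker (Ideal.Quotient.mk (Ideal.span (Set.range v))) ≤ M := by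
      rw [Ideal.mk_ker, Ideal.span_le]
      rintro _ ⟨t, rfl⟩
      exact hvM t
    have hcm : (M.map (Ideal.Quotient.mk (Ideal.span (Set.range v)))).comap (Ideal.Quotient.mk _) = M :=
      (Ideal.comap_map_of_surjective' _ Ideal.Quotient.mk_surjective M).trans (sup_eq_left.2 hker)
    have := Ideal.IsMaximal.map_of_surjective_of_ker_le (Ideal.Quotient.mk_surjective) hker
    set N := M.map (Ideal.Quotient.mk (Ideal.span (Set.range v)))
    obtain ⟨hsmB, hrB⟩ := rankAtStalk_eq_of_locally h ⟨N, inferInstance⟩
    have h1 := (rankAtStalk_quotient_fam (k := k) v N).2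
    rw [hrB, (rankAtStalk_eq_of_locally hA _).2, hcm] at h1
    exact h1.1 (Nat.sub_add_cancel hm)
  · intro h
    set B := A ⧸ Ideal.span (Set.range v)
    have hfg : (Ideal.span (Set.range v)).FG := ⟨Finset.univ.image v, by simp⟩
    have : Algebra.FinitePresentation k B := Algebra.FinitePresentation.quotient hfg
    have : IsJacobsonRing B := isJacobsonRing_of_finiteType (A := k)
    have hin : ∀ (N : Ideal B) [N.IsMaximal], ∀ t, v t ∈ N.comap (Ideal.Quotient.mk _) := fun N _ t => by
      rw [Ideal.mem_comap, show Ideal.Quotient.mk (Ideal.span (Set.range v)) (v t) = 0 from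
        Ideal.Quotient.eq_zero_iff_mem.2 (Ideal.subset_span ⟨t, rfl⟩)]
      exact zero_mem _
    have hmax : ∀ p : PrimeSpectrum B, p.asIdeal.IsMaximal → p ∈ Algebra.smoothLocus k B := fun p hp => by
      let q : Ideal A := p.asIdeal.comap (Ideal.Quotient.mk _)
      have hq : q.IsMaximal := Ideal.comap_isMaximal_of_surjective _ Ideal.Quotient.mk_surjective
      have hk : Function.Surjective (algebraMap k q.ResidueField) := algebraMap_surjective_residueField q
      have hli := (indepAt_iff_linearIndependent hk q (Ideal.ker_algebraMap_residueField q) v (hin p.asIdeal)).1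
        (h q hq (hin p.asIdeal))
      show Algebra.IsSmoothAt k p.asIdeal
      refine (S5998.result k A (Ideal.span (Set.range v)) p.asIdeal).2 ⟨Finset.univ.image v, ?_, ?_, ?_⟩
      · intro x hx
        simp only [Finset.coe_image, Finset.coe_univ, Set.image_univ] at hx
        exact Ideal.subset_span hx
      · simp [Ideal.map_span]
      · have hvinj : Function.Injective v := fun a b hab => hli.injective (by simp [hab])
        let eq : Fin m ≃ {x // x ∈ Finset.univ.image v} :=
          Equiv.ofBijective (fun t => ⟨v t, Finset.mem_image_of_mem _ (Finset.mem_univ t)⟩)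
            ⟨fun a b hab => hvinj (congrArg Subtype.val hab), fun ⟨x, hx⟩ => by
              obtain ⟨t, -, rfl⟩ := Finset.mem_image.1 hx
              exact ⟨t, rfl⟩⟩
        exact (linearIndependent_equiv eq).1 hli
    have hfs : Algebra.FormallySmooth k B := by
      rw [← Algebra.smoothLocus_eq_univ_iff, Set.eq_univ_iff_forall]
      intro p
      obtain ⟨M, hM, hle⟩ := Ideal.exists_le_maximal _ p.2.ne_top
      exact ((PrimeSpectrum.le_iff_specializes p ⟨M, hM.isPrime⟩).1 hle).mem_open
        Algebra.isOpen_smoothLocus (hmax ⟨M, hM.isPrime⟩ hM)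
    have hsmB : Algebra.Smooth k B := ⟨hfs, inferInstance⟩
    refine locally_of_rankAtStalk fun p hp => ?_
    have := hp
    have h1 := (rankAtStalk_quotient_fam (k := k) v p.asIdeal).2
    rw [(rankAtStalk_eq_of_locally hA _).2] at h1
    exact Nat.eq_sub_of_add_eq (h1.2 (h _ (Ideal.comap_isMaximal_of_surjective _ Ideal.Quotient.mk_surjective) (hin p.asIdeal)))

theorem not_indepAt_of_lt {n : ℕ} (hm : n < m)
    (hA : RingHom.Locally (RingHom.IsStandardSmoothOfRelativeDimension n) (algebraMap k A))
    (χ : A →ₐ[k] k) (v : Fin m → A) (hv : ∀ t, v t ∈ RingHom.ker χ.toRingHom) :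
    ¬ IndepAt (k := k) (RingHom.ker χ.toRingHom) v := by
  intro h
  set M := RingHom.ker χ.toRingHom
  obtain ⟨hfr, hfd⟩ := finrank_cotangent hA χ
  have : ¬ LinearIndependent k fun t => M.toCotangent ⟨v t, hv t⟩ := fun hli => by
    have := hli.fintype_card_le_finrank
    rw [Fintype.card_fin, hfr] at this
    omega
  refine this (Fintype.linearIndependent_iff.2 fun c hc t => congrFun (h c ?_) t)
  have hmem : ∑ t, c t • v t ∈ M := Ideal.sum_mem _ fun t _ => by
    rw [Algebra.smul_def]; exact Ideal.mul_mem_left _ _ (hv t)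
  refine (Ideal.toCotangent_eq_zero M ⟨_, hmem⟩).1 ?_
  rw [show (⟨_, hmem⟩ : M) = ∑ t, (algebraMap k A (c t)) • (⟨v t, hv t⟩ : M) from
    Subtype.ext (by rw [AddSubmonoidClass.coe_finset_sum]; simp only [Submodule.coe_smul, smul_eq_mul, Algebra.smul_def]),
    map_sum, ← hc]
  refine Finset.sum_congr rfl fun t _ => ?_
  rw [map_smul, algebraMap_smul]

variable {r : ℕ} {X : Scheme.{u}} (i : X ⟶ CohB1.ProjSpace r k)

theorem exists_algHom_of_isMaximal [IsAlgClosed k] [IsClosedImmersion i] (j : Fin (r + 1))
    (M : Ideal Γ(X, piece i j)) [M.IsMaximal] :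
    ∃ χ : Γ(X, piece i j) →ₐ[k] k, RingHom.ker χ.toRingHom = M := by
  have : Algebra.FiniteType k Γ(X, piece i j) := ⟨Subalgebra.fg_def.2 ⟨_, Set.finite_range _, adjoin_pcoord i j⟩⟩
  letI := Ideal.Quotient.field M
  have : Module.Finite k (Γ(X, piece i j) ⧸ M) := finite_of_finite_type_of_isJacobsonRing k _
  let e := AlgEquiv.ofBijective (Algebra.ofId k (Γ(X, piece i j) ⧸ M))
    (IsAlgClosed.algebraMap_bijective_of_isIntegral (k := k))
  refine ⟨e.symm.toAlgHom.comp (Ideal.Quotient.mkₐ k M), ?_⟩
  ext a
  simp [RingHom.mem_ker, Ideal.Quotient.eq_zero_iff_mem]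

/-- Transversality of the common zeros of several forms, point by point. -/
theorem transversal_fam_iff [IsAlgClosed k] [IsClosedImmersion i] {n : ℕ}
    [SmoothOfRelativeDimension n (i ≫ CohB1.ProjSpace.toSpec r k)] {d : ℕ} (G : Fin m → Form r k d) :
    Transversal k n m (secToSpec i (Set.range G)) ↔
      ∀ (j : Fin (r + 1)) (χ : Γ(X, piece i j) →ₐ[k] k), (∀ t, χ (pform i j (G t)) = 0) →
        IndepAt (k := k) (RingHom.ker χ.toRingHom) fun t => pform i j (G t) := by
  letI := overOf i
  have hA : ∀ j, RingHom.Locally (RingHom.IsStandardSmoothOfRelativeDimension n) (algebraMap k Γ(X, piece i j)) :=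
    fun j => by rw [RingHom.algebraMap_toAlgebra]; exact locally_piece i j
  have hI : ∀ j, (secIdeal i (Set.range G)).ideal ⟨piece i j, isAffineOpen_piece i j⟩ =
      Ideal.span (Set.range fun t => pform i j (G t)) := fun j => by
    rw [secIdeal_piece i (Set.range G) j, ← Set.range_comp]
    rfl
  by_cases hmn : m ≤ n
  · rw [Transversal, or_iff_left (fun h => by omega), and_iff_right hmn]
    rw [show secToSpec i (Set.range G) = (secIdeal i (Set.range G)).subschemeι ≫
      X ↘ Spec (CommRingCat.of k) from rfl,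
      iff_forall_piece _ (fun j => ⟨piece i j, isAffineOpen_piece i j⟩) (iSup_piece i)]
    refine forall_congr' fun j => ?_
    rw [hI j]
    refine Iff.trans ?_ ((locally_quotient_fam_iff hmn (hA j) fun t => pform i j (G t)).trans ⟨fun h χ hχ => ?_, fun h M hM hMt => ?_⟩)
    · rfl
    · exact h _ (RingHom.ker_isMaximal_of_surjective _ (algHom_surjective i χ)) fun t => hχ t
    · obtain ⟨χ, rfl⟩ := exists_algHom_of_isMaximal i j M
      exact h χ fun t => hMt t
  · rw [Transversal, or_iff_right (fun h => hmn h.1), and_iff_right (by omega)]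
    constructor
    · intro hE j χ hχ
      exfalso
      let x : X := (isAffineOpen_piece i j).fromSpec ⟨RingHom.ker χ.toRingHom, RingHom.ker_isPrime _⟩
      have hx : x ∈ piece i j := (isAffineOpen_piece i j).range_fromSpec.le ⟨_, rfl⟩
      have hs : x ∈ (secIdeal i (Set.range G)).support := by
        rw [Scheme.IdealSheafData.mem_support_iff_of_mem (U := ⟨piece i j, isAffineOpen_piece i j⟩) hx, hI j,
          Scheme.zeroLocus_span, Scheme.mem_zeroLocus_iff]
        rintro _ ⟨t, rfl⟩ hb
        rw [← Scheme.Hom.mem_preimage, IsAffineOpen.fromSpec_preimage_basicOpen] at hb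
        exact hb (hχ t)
      have : x ∈ Set.range (secι i (Set.range G)) := by
        rw [Scheme.IdealSheafData.range_subschemeι]; exact hs
      exact hE.elim this.choose
    · intro h
      refine ⟨fun y => ?_⟩
      obtain ⟨j, hj⟩ := ProjCoord.exists_mem_U k r (i (secι i (Set.range G) y))
      have hs : secι i (Set.range G) y ∈ (secIdeal i (Set.range G)).support :=
        (Scheme.IdealSheafData.range_subschemeι _).le ⟨y, rfl⟩
      rw [Scheme.IdealSheafData.mem_support_iff_of_mem (U := ⟨piece i j, isAffineOpen_piece i j⟩)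
        (show secι i (Set.range G) y ∈ piece i j from hj), hI j] at hs
      obtain ⟨M, hM, hle⟩ := Ideal.exists_le_maximal (Ideal.span (Set.range fun t => pform i j (G t))) fun htop => by
        rw [htop, Scheme.mem_zeroLocus_iff] at hs
        refine hs 1 trivial ?_
        rw [Scheme.basicOpen_of_isUnit X isUnit_one]
        exact hj
      obtain ⟨χ, rfl⟩ := exists_algHom_of_isMaximal i j M
      have hv : ∀ t, pform i j (G t) ∈ RingHom.ker χ.toRingHom := fun t => hle (Ideal.subset_span ⟨t, rfl⟩)
      exact not_indepAt_of_lt (by omega) (hA j) χ _ hv (h j χ hv)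

end Groth.Agent.An92.Lef
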