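import Groth.Agent.An92.Lef.Coord
import Mathlib.Algebra.MvPolynomial.Funext
import Mathlib.RingTheory.MvPolynomial.Basic
import Mathlib.FieldTheory.IsAlgClosed.Basic

/-! Bases of forms and polynomial functions on them. -/

universe u

open CategoryTheory CategoryTheory.Limits AlgebraicGeometry Opposite TopologicalSpace

noncomputable section

namespace Groth.Agent.An92.Lef

open LefPen

variable {k : Type u} [Field k] {r : ℕ}

/-- Exponents of degree `d`. -/
abbrev Expo (r d : ℕ) : Type := {β : Fin (r + 1) →₀ ℕ // β.degree = d}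

instance instFintypeExpo (r d : ℕ) : Fintype (Expo r d) :=
  ((Finsupp.finite_of_degree_le (σ := Fin (r + 1)) d).subset
    (fun m (hm : m.degree = d) => by change m.degree ≤ d; exact hm.le)).fintype

/-- A monomial as a form. -/
def monoForm {d : ℕ} (β : Expo r d) : Form r k d :=
  ⟨MvPolynomial.monomial β.1 1,
    (MvPolynomial.mem_homogeneousSubmodule _ _).mpr (MvPolynomial.isHomogeneous_monomial 1 β.2)⟩

/-- The coefficient of a form. -/
def formCoeff {d : ℕ} (β : Expo r d) : Form r k d →ₗ[k] k :=
  (MvPolynomial.lcoeff k β.1) ∘ₗ (CohB1.polyGrading r k d).subtype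

theorem sum_formCoeff {d : ℕ} (H : Form r k d) : ∑ β : Expo r d, formCoeff β H • monoForm (k := k) β = H := by
  classical
  refine Subtype.ext ?_
  rw [AddSubmonoidClass.coe_finset_sum]
  conv_rhs => rw [H.1.as_sum]
  rw [show (∑ β : Expo r d, ((formCoeff β H • monoForm (k := k) β : Form r k d) : MvPolynomial (Fin (r + 1)) k)) =
    ∑ β ∈ (Finset.univ : Finset (Expo r d)).map (Function.Embedding.subtype _),
      MvPolynomial.monomial β (MvPolynomial.coeff β H.1) by
        rw [Finset.sum_map]
        refine Finset.sum_congr rfl fun β _ => ?_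
        simp [formCoeff, monoForm, MvPolynomial.smul_monomial]]
  refine (Finset.sum_subset (fun m hm => ?_) (fun m _ hm => ?_)).symm
  · have hd : m.degree = d := by
      by_contra hne
      exact MvPolynomial.mem_support_iff.1 hm ((H.2 : H.1.IsHomogeneous d).coeff_eq_zero hne)
    exact Finset.mem_map.2 ⟨⟨m, hd⟩, Finset.mem_univ _, rfl⟩
  · rw [MvPolynomial.notMem_support_iff.1 hm, MvPolynomial.monomial_zero]

theorem formCoeff_monoForm {d : ℕ} (β γ : Expo r d) [Decidable (β = γ)] :
    formCoeff γ (monoForm (k := k) β) = if β = γ then 1 else 0 := by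
  classical
  show MvPolynomial.coeff γ.1 (MvPolynomial.monomial β.1 1) = _
  simp [MvPolynomial.coeff_monomial, Subtype.ext_iff]

/-- A form is determined by its coefficients. -/
def formEquiv {d : ℕ} : Form r k d ≃ₗ[k] (Expo r d → k) where
  toFun H := fun β => formCoeff β H
  map_add' _ _ := by ext β; simp
  map_smul' _ _ := by ext β; simp
  invFun c := ∑ β, c β • monoForm β
  left_inv H := sum_formCoeff H
  right_inv c := by
    classical
    funext γ
    simp [formCoeff_monoForm]

theorem isPolyFun_eval {V : Type u} [AddCommGroup V] [Module k V] {σ : Type*} (l : σ → Module.Dual k V)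
    (q : MvPolynomial σ k) : IsPolyFun k (fun v => MvPolynomial.eval (fun s => l s v) q) := by
  set S := Algebra.adjoin k (Set.range (fun l : Module.Dual k V => (l : V → k))) with hS
  let c : σ → S := fun s => ⟨fun v => l s v, Algebra.subset_adjoin ⟨l s, rfl⟩⟩
  have h : (fun v => MvPolynomial.eval (fun s => l s v) q) = (MvPolynomial.aeval c q : S).1 := by
    funext v
    let e : S →ₐ[k] k := (Pi.evalAlgHom k (fun _ => k) v).comp S.val
    show _ = e (MvPolynomial.aeval c q)
    rw [← AlgHom.comp_apply, MvPolynomial.comp_aeval]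
    rfl
  show _ ∈ S
  rw [h]
  exact (MvPolynomial.aeval c q).2

theorem exists_eval_ne_zero [IsAlgClosed k] {d : ℕ} {q : MvPolynomial (Expo r d) k} (hq : q ≠ 0) :
    ∃ H : Form r k d, MvPolynomial.eval (fun β => formCoeff β H) q ≠ 0 := by
  by_contra h
  push Not at h
  refine hq (MvPolynomial.funext fun c => ?_)
  have := h (formEquiv.symm c)
  rwa [show (fun β => formCoeff β (formEquiv.symm c)) = c from formEquiv.apply_symm_apply c,
    ← map_zero (MvPolynomial.eval c)] at this

end Groth.Agent.An92.Lef
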