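import Groth.Agent.An92.Lef.Transversal
import Groth.Agent.An92.Lef.Forms

/-! Generic forms cut transversally. -/

universe u

open CategoryTheory CategoryTheory.Limits AlgebraicGeometry Opposite TopologicalSpace
open scoped TensorProduct

noncomputable section

set_option backward.isDefEq.respectTransparency false

namespace Groth.Agent.An92.Lef

open LefPen Groth.Agent.Var76

variable {k : Type u} [Field k] {r : ℕ} {X : Scheme.{u}} (i : X ⟶ CohB1.ProjSpace r k)

/-- The dehomogenisation is linear. -/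
theorem pform_eq_sum (j : Fin (r + 1)) {d : ℕ} (H : Form r k d) :
    pform i j H = ∑ β : Expo r d, pconst i j (formCoeff β H) * pform i j (monoForm β) := by
  conv_lhs => rw [pform_eq, ← sum_formCoeff H]
  rw [AddSubmonoidClass.coe_finset_sum, MvPolynomial.eval₂_sum]
  refine Finset.sum_congr rfl fun β _ => ?_
  rw [pform_eq i j (monoForm β), Submodule.coe_smul, MvPolynomial.smul_eq_C_mul, MvPolynomial.eval₂_mul,
    MvPolynomial.eval₂_C]

theorem pform_monoForm (j : Fin (r + 1)) {d : ℕ} (β : Expo r d) :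
    pform i j (monoForm (k := k) β) = ∏ l, pcoord i j l ^ β.1 l := by
  rw [pform_eq]
  show MvPolynomial.eval₂ _ _ (MvPolynomial.monomial β.1 1) = _
  rw [MvPolynomial.eval₂_monomial, map_one, one_mul, Finsupp.prod_fintype _ _ (fun _ => pow_zero _)]

/-- `T_j^(d-1) T_l`. -/
def linExpo {d : ℕ} (hd : 1 ≤ d) (j l : Fin (r + 1)) : Expo r d :=
  ⟨Finsupp.single j (d - 1) + Finsupp.single l 1, by
    simp only [map_add, Finsupp.degree_single]; omega⟩

theorem pform_linExpo (j l : Fin (r + 1)) {d : ℕ} (hd : 1 ≤ d) :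
    pform i j (monoForm (k := k) (linExpo hd j l)) = pcoord i j l := by
  classical
  rw [pform_monoForm]
  simp only [linExpo, Finsupp.add_apply, pow_add, Finset.prod_mul_distrib, Finsupp.single_apply,
    pow_ite, pow_zero, Finset.prod_ite_eq, Finset.mem_univ, if_true, pow_one, pcoord_self, one_pow, one_mul]

/-- Forms whose section is singular somewhere on a piece satisfy an equation. -/
theorem exists_poly_piece [IsAlgClosed k] [IsClosedImmersion i] {n : ℕ}
    [SmoothOfRelativeDimension n (i ≫ CohB1.ProjSpace.toSpec r k)] {d : ℕ} (hd : 1 ≤ d) (j : Fin (r + 1)) :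
    ∃ q : MvPolynomial (Expo r d) k, q ≠ 0 ∧ ∀ H : Form r k d,
      MvPolynomial.eval (fun β => formCoeff β H) q ≠ 0 →
        ∀ M : Ideal Γ(X, piece i j), M.IsMaximal → pform i j H ∈ M → pform i j H ∉ M ^ 2 := by
  classical
  let A := Γ(X, piece i j)
  let : Algebra k A := (pconst i j).toAlgebra
  rcases subsingleton_or_nontrivial A with hA | hA
  · exact ⟨1, one_ne_zero, fun H _ M hM => absurd (Subsingleton.elim M ⊤) hM.ne_top⟩
  have hsm : Algebra.Smooth k A :=
    (rankAtStalk_eq_of_locally (n := n) (A := A) (by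
      rw [RingHom.algebraMap_toAlgebra]; exact locally_piece i j) (Nonempty.some inferInstance)).1
  let e := Fintype.equivFin (Expo r d)
  let φ : Fin (Fintype.card (Expo r d)) → A := fun t => pform i j (monoForm (e.symm t))
  have hgen : Algebra.adjoin k (Set.range φ) = ⊤ := by
    refine top_le_iff.1 ((adjoin_pcoord i j).ge.trans (Algebra.adjoin_mono ?_))
    rintro _ ⟨l, rfl⟩
    exact ⟨e (linExpo hd j l), by simp only [φ, Equiv.symm_apply_apply]; exact pform_linExpo i j l hd⟩
  have h1 : φ (e (linExpo hd j j)) = 1 := by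
    simp only [φ, Equiv.symm_apply_apply]
    rw [pform_linExpo, pcoord_self]
  have hloc : ∀ M : MaximalSpectrum A, ∃ a ∉ M.asIdeal, ∃ p : MvPolynomial (Fin (Fintype.card (Expo r d))) k,
      p ≠ 0 ∧ ∀ c : Fin (Fintype.card (Expo r d)) → k, ∀ m : Ideal A, ∀ [m.IsMaximal],
        a ∉ m → (0 : A) + ∑ t, c t • φ t ∈ m →
        (1 : m.ResidueField) ⊗ₜ[A] KaehlerDifferential.D k A ((0 : A) + ∑ t, c t • φ t) = 0 →
          MvPolynomial.eval c p = 0 := fun M => by
    have := M.isMaximal
    exact BertiniAlg.exists_bad_local_of_span 0 φ M.asIdeal fun l =>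
      BertiniAlg.jets_span_of_adjoin φ hgen _ h1 M.asIdeal l
  choose a ha p hp0 hp using hloc
  obtain ⟨T, hT⟩ : ∃ T : Finset (MaximalSpectrum A), (1 : A) ∈ Ideal.span (a '' T) := by
    have hspan : Ideal.span (Set.range a) = ⊤ := by
      by_contra h
      obtain ⟨N, hN, hle⟩ := Ideal.exists_le_maximal _ h
      exact ha ⟨N, hN⟩ (hle (Ideal.subset_span ⟨_, rfl⟩))
    obtain ⟨S, hS, h1⟩ := Submodule.mem_span_finite_of_mem_span
      (show (1 : A) ∈ Ideal.span (Set.range a) from hspan ▸ trivial)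
    choose g hg using fun x (hx : x ∈ S) => hS hx
    refine ⟨S.attach.image fun x => g x.1 x.2, Ideal.span_mono ?_ h1⟩
    exact fun x hx => ⟨g x hx, Finset.mem_coe.2 (Finset.mem_image.2 ⟨⟨x, hx⟩, Finset.mem_attach _ _, rfl⟩), hg x hx⟩
  refine ⟨MvPolynomial.rename e.symm (∏ M ∈ T, p M),
    fun h0 => Finset.prod_ne_zero_iff.2 (fun M _ => hp0 M)
      (MvPolynomial.rename_injective _ e.symm.injective (by rw [h0, map_zero])), fun H hH M hM hφ hφ2 => hH ?_⟩
  rw [MvPolynomial.eval_rename, map_prod]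
  have hc : pform i j H = (0 : A) + ∑ t, formCoeff (e.symm t) H • φ t := by
    rw [zero_add, pform_eq_sum, ← e.symm.sum_comp]
    exact Finset.sum_congr rfl fun t _ => (Algebra.smul_def _ _).symm
  have : ¬ Ideal.span (a '' T) ≤ M := fun hle => hM.ne_top ((Ideal.eq_top_iff_one _).2 (hle hT))
  rw [Ideal.span_le, Set.not_subset] at this
  obtain ⟨_, ⟨N, hN, rfl⟩, hNM⟩ := this
  refine Finset.prod_eq_zero hN (hp N _ M hNM (hc ▸ hφ) ?_)
  simp only [Function.comp_apply]
  rw [← hc]
  have hk := algebraMap_surjective_residueField (k := k) M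
  exact (SmoothCrit.D_eq_zero_iff k hk (by rwa [Ideal.ker_algebraMap_residueField])).2
    (by rwa [Ideal.ker_algebraMap_residueField])

theorem isGeneric_transversal [IsAlgClosed k] [IsClosedImmersion i] {n : ℕ} (hn : 1 ≤ n)
    [SmoothOfRelativeDimension n (i ≫ CohB1.ProjSpace.toSpec r k)] {d : ℕ} (hd : 1 ≤ d) :
    IsGeneric k {H : Form r k d | Transversal k n 1 (secToSpec i ({H} : Set (Form r k d)))} := by
  choose q hq0 hq using fun j => exists_poly_piece (n := n) i hd j
  refine ⟨fun H => MvPolynomial.eval (fun β => formCoeff β H) (∏ j, q j),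
    isPolyFun_eval _ _, exists_eval_ne_zero (Finset.prod_ne_zero_iff.2 fun j _ => hq0 j), fun H hH => ?_⟩
  simp only [map_prod, Finset.prod_ne_zero_iff] at hH
  exact (transversal_iff i hn H).2 fun j => hq j H (hH j (Finset.mem_univ j))

end Groth.Agent.An92.Lef
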