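import Groth.Prelude.Def_LefPen
import Groth.Agent.Var76.ProjCoord
import Mathlib.AlgebraicGeometry.ProjectiveSpectrum.Proper
import Mathlib.AlgebraicGeometry.Morphisms.Affine
import Mathlib.AlgebraicGeometry.Morphisms.Separated

/-! The ideal of a hypersurface of projective space on an affine open. -/

universe u

open CategoryTheory CategoryTheory.Limits AlgebraicGeometry Opposite TopologicalSpace

noncomputable section

set_option backward.isDefEq.respectTransparency false

namespace Groth.Agent.An92.Lef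

open LefPen Groth.Agent.Var76

variable {k : Type u} [Field k] {r : ℕ}

theorem isAffineHom_ι {P : Scheme.{u}} [P.IsSeparated] {U : P.Opens} (hU : IsAffineOpen U) :
    IsAffineHom U.ι := by
  have : IsAffine U.toScheme := hU
  exact MorphismProperty.of_postcomp (W := @IsAffineHom) (W' := @IsSeparated) U.ι (terminal.from P)
    inferInstance inferInstance

/-- Sections over `V` that become multiples of `h` on `W`. -/
def locSpan {P : Scheme.{u}} {U V : P.Opens} (h : Γ(P, U)) (W : P.Opens) (hV : W ≤ V) (hU : W ≤ U) :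
    Ideal Γ(P, V) :=
  Ideal.comap (P.presheaf.map (homOfLE hV).op).hom (Ideal.span {(P.presheaf.map (homOfLE hU).op).hom h})

theorem locSpan_congr {P : Scheme.{u}} {U V : P.Opens} (h : Γ(P, U)) {W W' : P.Opens} (e : W = W')
    (hV : W ≤ V) (hU : W ≤ U) :
    locSpan h W hV hU = locSpan h W' (e ▸ hV) (e ▸ hU) := by
  subst e; rfl

/-- The ideal sheaf of the multiples of `h` on `U`, pushed to `P`. -/
def pushSpan {P : Scheme.{u}} (U : P.Opens) (h : Γ(P, U)) : P.IdealSheafData :=
  (Scheme.IdealSheafData.ofIdealTop (X := U.toScheme) (Ideal.span {U.topIso.inv.hom h})).map U.ι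

theorem ideal_pushSpan {P : Scheme.{u}} [P.IsSeparated] {U : P.Opens} (hU : IsAffineOpen U)
    (h : Γ(P, U)) (V : P.affineOpens) :
    (pushSpan U h).ideal V = locSpan h (V.1 ⊓ U) inf_le_left inf_le_right := by
  have := isAffineHom_ι hU
  have e : U.ι ''ᵁ (U.ι ⁻¹ᵁ V.1) = V.1 ⊓ U := by
    rw [Scheme.Hom.image_preimage_eq_opensRange_inf, Scheme.Opens.opensRange_ι, inf_comm]
  rw [← locSpan_congr h e (e.le.trans inf_le_left) (e.le.trans inf_le_right)]
  rw [pushSpan, Scheme.IdealSheafData.ideal_map_of_isAffineHom, locSpan]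
  simp only [Scheme.IdealSheafData.ofIdealTop_ideal, Ideal.map_span, Set.image_singleton]
  rw [Scheme.Opens.ι_app]
  congr 3
  simp only [← ConcreteCategory.comp_apply, Scheme.Opens.topIso_inv, Scheme.Opens.toScheme_presheaf_map,
    ← Functor.map_comp]
  rfl

instance : (CohB1.ProjSpace r k).IsSeparated :=
  inferInstanceAs (Proj (CohB1.polyGrading r k)).IsSeparated

theorem away_cocycle {A : Type u} [CommRing A] {σ : Type u} [SetLike σ A] [AddSubgroupClass σ A]
    {𝒜 : ℕ → σ} [GradedRing 𝒜] {f g x : A} {m : ℕ} (hf : f ∈ 𝒜 m) (hg : g ∈ 𝒜 m) (hx : x = f * g)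
    (hx' : x = g * f) (n : ℕ) (a : A) (ha ha' : a ∈ 𝒜 (n • m)) (h1 : g ∈ 𝒜 (1 • m)) :
    HomogeneousLocalization.awayMap 𝒜 hg hx (HomogeneousLocalization.Away.mk 𝒜 hf n a ha) =
      HomogeneousLocalization.awayMap 𝒜 hg hx (HomogeneousLocalization.Away.mk 𝒜 hf 1 g h1) ^ n *
        HomogeneousLocalization.awayMap 𝒜 hf hx' (HomogeneousLocalization.Away.mk 𝒜 hg n a ha') := by
  refine HomogeneousLocalization.val_injective _ ?_
  simp only [HomogeneousLocalization.val_mul, HomogeneousLocalization.val_pow,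
    HomogeneousLocalization.awayMap_mk, HomogeneousLocalization.Away.val_mk, Localization.mk_pow,
    Localization.mk_mul, Localization.mk_eq_mk_iff, Localization.r_iff_exists]
  refine ⟨1, ?_⟩
  simp only [OneMemClass.coe_one, one_mul, Submonoid.coe_mul, SubmonoidClass.coe_pow, hx]
  ring

theorem hom_pow_mul {R S : Type u} [CommRing R] [CommRing S] (φ : R →+* S) {a b c : R} {d : ℕ}
    (h : a = b ^ d * c) : φ a = φ b ^ d * φ c := by
  rw [h, map_mul, map_pow]

theorem chart_eq_U (i : Fin (r + 1)) : chart r k i = ProjCoord.U k r i := rfl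

theorem hypFamily_eq {d : ℕ} (G : Form r k d) :
    (hypIdeal G).ideal = hypFamily G := by
  have hJ : (⨅ i, pushSpan (chart r k i) (dehom G i)).ideal = hypFamily G := by
    rw [Scheme.IdealSheafData.ideal_iInf]
    funext V
    rw [iInf_apply]
    exact iInf_congr fun i => ideal_pushSpan (ProjCoord.isAffineOpen_U k r i) _ V
  refine le_antisymm (Scheme.IdealSheafData.ideal_ofIdeals_le _) ?_
  rw [← hJ]
  exact Scheme.IdealSheafData.le_ofIdeals_iff.2 hJ.le

theorem dehom_mul {a b : ℕ} (G : Form r k a) (H : Form r k b) (i : Fin (r + 1)) :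
    dehom (⟨G.1 * H.1, SetLike.mul_mem_graded G.2 H.2⟩ : Form r k (a + b)) i = dehom G i * dehom H i := by
  rw [dehom, dehom, dehom]
  refine Eq.trans ?_ (map_mul _ _ _)
  refine congrArg _ (HomogeneousLocalization.val_injective _ ?_)
  simp only [HomogeneousLocalization.val_mul, HomogeneousLocalization.Away.val_mk, Localization.mk_mul]
  congr 1
  exact Subtype.ext (pow_add _ _ _)

/-- The change of chart of the dehomogenisation. -/
theorem res_dehom {d : ℕ} (G : Form r k d) (i j : Fin (r + 1)) :
    ((CohB1.ProjSpace r k).presheaf.map (homOfLE (inf_le_left : chart r k j ⊓ chart r k i ≤ chart r k j)).op).hom (dehom G j) =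
      ((CohB1.ProjSpace r k).presheaf.map (homOfLE (inf_le_left : chart r k j ⊓ chart r k i ≤ chart r k j)).op).hom
        (dehom (⟨MvPolynomial.X i, X_mem r k i⟩ : Form r k 1) j) ^ d *
      ((CohB1.ProjSpace r k).presheaf.map (homOfLE (inf_le_right : chart r k j ⊓ chart r k i ≤ chart r k i)).op).hom (dehom G i) := by
  let 𝒜 := CohB1.polyGrading r k
  have hx : (MvPolynomial.X j * MvPolynomial.X i : MvPolynomial (Fin (r + 1)) k) = MvPolynomial.X j * MvPolynomial.X i := rfl
  have hx' : (MvPolynomial.X j * MvPolynomial.X i : MvPolynomial (Fin (r + 1)) k) = MvPolynomial.X i * MvPolynomial.X j := mul_comm _ _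
  have eW : Proj.basicOpen 𝒜 (MvPolynomial.X j * MvPolynomial.X i) = chart r k j ⊓ chart r k i :=
    Proj.basicOpen_mul _ _ _
  have hinj : Function.Injective ((CohB1.ProjSpace r k).presheaf.map (homOfLE eW.le).op).hom :=
    (ConcreteCategory.bijective_of_isIso ((CohB1.ProjSpace r k).presheaf.map (eqToHom eW).op)).1
  refine hinj ?_
  rw [map_mul, map_pow]
  simp only [← ConcreteCategory.comp_apply, ← Functor.map_comp, ← op_comp, homOfLE_comp]
  have e₁ := fun a => ConcreteCategory.congr_hom (Proj.awayMap_awayToSection 𝒜 (X_mem r k i) hx) a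
  have e₂ := fun a => ConcreteCategory.congr_hom (Proj.awayMap_awayToSection 𝒜 (X_mem r k j) hx') a
  simp only [ConcreteCategory.comp_apply] at e₁ e₂
  simp only [dehom]
  erw [← e₁, ← e₁, ← e₂]
  exact hom_pow_mul (Proj.awayToSection 𝒜 _).hom (away_cocycle _ _ hx hx' d G.1 _ _ _)

/-- The ideal of a hypersurface on a standard chart. -/
theorem hypIdeal_chart {d : ℕ} (G : Form r k d) (j : Fin (r + 1)) :
    (hypIdeal G).ideal ⟨chart r k j, ProjCoord.isAffineOpen_U k r j⟩ = Ideal.span {dehom G j} := by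
  rw [hypFamily_eq]
  refine le_antisymm ((iInf_le _ j).trans ?_) (le_iInf fun i => ?_)
  · intro x hx
    rw [Ideal.mem_comap, Ideal.mem_span_singleton'] at hx
    obtain ⟨a, ha⟩ := hx
    have hb := ConcreteCategory.bijective_of_isIso ((CohB1.ProjSpace r k).presheaf.map
      (eqToHom (inf_idem (chart r k j))).op)
    obtain ⟨a, rfl⟩ := hb.2 a
    refine Ideal.mem_span_singleton'.2 ⟨a, hb.1 ?_⟩
    rw [map_mul]
    exact ha
  · rw [Ideal.span_le, Set.singleton_subset_iff]
    show _ ∈ Ideal.span _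
    rw [res_dehom G i j]
    exact Ideal.mem_span_singleton'.2 ⟨_, rfl⟩

end Groth.Agent.An92.Lef
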