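import Groth.Agent.Var76.BertiniAlg
import Mathlib.LinearAlgebra.Matrix.Adjugate

/-! Parameters solving a linear system of maximal rank at some point of a variety lie in a hypersurface when
the system has more equations than the variety has dimensions. -/

universe u

open scoped TensorProduct
open KaehlerDifferential Matrix

noncomputable section

namespace Groth.Agent.An92.Lef

variable {k A : Type u} [Field k] [IsAlgClosed k] [CommRing A] [Algebra k A] [Algebra.FiniteType k A] [IsDomain A]

theorem exists_minor_elim {m s n : ℕ} (Ψ : Fin s → Fin m → A) (J : Fin s → Fin m)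
    (hdet : (Matrix.of fun e t => Ψ e (J t)).det ≠ 0) (a0 : A) (ha0 : a0 ≠ 0) (v : Fin n → Ω[A⁄k])
    (hv : ∀ ω : Ω[A⁄k], a0 • ω ∈ Submodule.span A (Set.range v)) (h : A) (hs : n < s ∨ (n ≤ s ∧ h ≠ 0)) :
    ∃ p : MvPolynomial (Fin m) k, p ≠ 0 ∧ ∀ (χ : A →ₐ[k] k) (c : Fin m → k),
      χ (a0 * (Matrix.of fun e t => Ψ e (J t)).det) ≠ 0 → χ h = 0 → (∀ e, ∑ j, c j * χ (Ψ e j) = 0) →
        MvPolynomial.eval c p = 0 := by
  classical
  set M : Matrix (Fin s) (Fin s) A := Matrix.of fun e t => Ψ e (J t) with hM
  have hJ : Function.Injective J := fun a b hab => by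
    by_contra hne
    exact hdet (Matrix.det_zero_of_column_eq hne fun e => by simp [hM, hab])
  set a := a0 * M.det with ha
  let σ := {j : Fin m // j ∉ Set.range J}
  let B := Localization.Away a
  let C := MvPolynomial (ULift.{u} σ) B
  have hane : a ≠ 0 := mul_ne_zero ha0 hdet
  have : IsDomain B := IsLocalization.isDomain_of_le_nonZeroDivisors B (M := Submonoid.powers a)
    (powers_le_nonZeroDivisors_of_noZeroDivisors hane)
  let u : B := IsLocalization.Away.invSelf a * algebraMap A B a0
  let img : Fin m → C := fun j => if hj : j ∈ Set.range J then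
      -(MvPolynomial.C u * ∑ e, MvPolynomial.C (algebraMap A B (M.adjugate hj.choose e)) *
        ∑ j' : σ, MvPolynomial.C (algebraMap A B (Ψ e j'.1)) * MvPolynomial.X ⟨j'⟩)
    else MvPolynomial.X ⟨⟨j, hj⟩⟩
  let g : MvPolynomial (Fin m) k →ₐ[k] C := MvPolynomial.aeval img
  let H : C := MvPolynomial.C (algebraMap A B h)
  have hgenB := Var76.BertiniAlg.span_away (k := k) a v fun ω => by
    have := Submodule.smul_mem (Submodule.span A (Set.range v)) M.det (hv ω)
    rwa [smul_smul, show M.det * a0 = a by rw [ha]; ring] at this
  have hgenC := Var76.BertiniAlg.span_mvPolynomial (σ := ULift.{u} σ) _ hgenB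
  let e := (Fintype.equivFin (Fin n ⊕ ULift.{u} σ)).symm
  rw [← e.surjective.range_comp] at hgenC
  have hcard : s + Fintype.card σ = m := by
    have h1 := Fintype.card_congr (Equiv.ofInjective J hJ)
    rw [Fintype.card_fin] at h1
    have h2 : Fintype.card σ = Fintype.card (Fin m) - Fintype.card ↥(Set.range J) := Fintype.card_subtype_compl _
    have h3 : Fintype.card ↥(Set.range J) ≤ Fintype.card (Fin m) := Fintype.card_subtype_le _
    rw [Fintype.card_fin] at h2 h3
    omega
  -- a relation in the ideal of `h`
  obtain ⟨p, hp0, hp⟩ : ∃ p : MvPolynomial (Fin m) k, p ≠ 0 ∧ g p ∈ Ideal.span {H} := by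
    by_contra hc
    push Not at hc
    rcases hs with hlt | ⟨hle, hh⟩
    · have hg : Function.Injective g := (injective_iff_map_eq_zero g).2 fun q hq => by
        by_contra hq0
        exact hc q hq0 (hq ▸ zero_mem _)
      have hle := Var76.KaehlerGen.le_of_injective k C g hg (r := Fintype.card (Fin n ⊕ ULift.{u} σ)) _ hgenC
      simp only [Fintype.card_sum, Fintype.card_fin, Fintype.card_ulift] at hle
      omega
    · have hH : H ≠ 0 := by
        intro h0
        exact hh (IsLocalization.injective B (powers_le_nonZeroDivisors_of_noZeroDivisors hane)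
          ((MvPolynomial.C_eq_zero.1 h0).trans (map_zero _).symm))
      let G : Polynomial (MvPolynomial (Fin m) k) →ₐ[k] C :=
        { Polynomial.eval₂RingHom g.toRingHom H with
          commutes' := fun c => (Polynomial.eval₂_C g.toRingHom H).trans (g.commutes c) }
      have hG : ∀ Q, G Q = 0 → Q = 0 := fun Q => by
        induction Q using Polynomial.recOnHorner with
        | M0 => intro _; rfl
        | MC q c hq hc0 _ =>
          intro h0
          obtain ⟨q', rfl⟩ := Polynomial.X_dvd_iff.2 hq
          rw [map_add, map_mul] at h0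
          refine absurd ?_ (hc c hc0)
          rw [show g c = G (Polynomial.C c) from (Polynomial.eval₂_C g.toRingHom H).symm,
            eq_neg_of_add_eq_zero_right h0, Ideal.mem_span_singleton', show G Polynomial.X = H from Polynomial.eval₂_X _ _]
          exact ⟨-G q', by ring⟩
        | MX q hq ih =>
          intro h0
          rw [map_mul, show G Polynomial.X = H from Polynomial.eval₂_X _ _, mul_eq_zero] at h0
          rw [ih (h0.resolve_right hH), zero_mul]
      let g' := G.comp (MvPolynomial.finSuccEquiv k m).toAlgHom
      have hg' : Function.Injective g' := (injective_iff_map_eq_zero g').2 fun q hq =>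
        (MvPolynomial.finSuccEquiv k m).injective ((hG _ hq).trans (map_zero _).symm)
      have hle := Var76.KaehlerGen.le_of_injective k C g' hg' (r := Fintype.card (Fin n ⊕ ULift.{u} σ)) _ hgenC
      simp only [Fintype.card_sum, Fintype.card_fin, Fintype.card_ulift] at hle
      omega
  refine ⟨p, hp0, fun χ c hχa hχh hsys => ?_⟩
  let θ : B →+* k := IsLocalization.Away.lift a (g := χ.toRingHom) (Ne.isUnit hχa)
  have hθ : ∀ x, θ (algebraMap A B x) = χ x := fun x => IsLocalization.Away.lift_eq _ _ x
  let θC : C →+* k := MvPolynomial.eval₂Hom θ fun j => c j.down.1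
  have hC : ∀ b : B, θC (MvPolynomial.C b) = θ b := fun b => MvPolynomial.eval₂Hom_C _ _ b
  have hX : ∀ j : ULift.{u} σ, θC (MvPolynomial.X j) = c j.down.1 := fun j => MvPolynomial.eval₂Hom_X' _ _ j
  have hu : θ u * χ M.det = 1 := by
    have := congrArg θ (IsLocalization.Away.mul_invSelf (S := B) a)
    rw [map_mul, map_one, hθ, show χ a = χ a0 * χ M.det from (congrArg χ ha).trans (map_mul χ a0 M.det)] at this
    simp only [u, map_mul, hθ]
    linear_combination this
  have hcomp : ∀ j, θC (img j) = c j := by
    intro j
    simp only [img]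
    split_ifs with hj
    swap
    · exact hX _
    set t := hj.choose
    have ht : J t = j := hj.choose_spec
    have hsplit : ∀ G : Fin m → k, ∑ j, G j = (∑ t, G (J t)) + ∑ j' : σ, G j'.1 := fun G => by
      rw [← Finset.sum_filter_add_sum_filter_not Finset.univ (fun j => j ∈ Set.range J) G]
      congr 1
      · rw [← Finset.sum_image (fun x _ y _ hxy => hJ hxy)]
        exact Finset.sum_congr (by ext; simp [eq_comm]) fun _ _ => rfl
      · exact Finset.sum_subtype _ (by simp) _
    have hrow : ∀ e, ∑ j' : σ, χ (Ψ e j'.1) * c j'.1 = -∑ t', χ (M e t') * c (J t') := fun e => by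
      have := hsys e
      rw [hsplit] at this
      simp only [hM, Matrix.of_apply]
      rw [eq_neg_iff_add_eq_zero, add_comm]
      simpa only [mul_comm] using this
    have hadj : ∑ e, χ (M.adjugate t e) * ∑ t', χ (M e t') * c (J t') = χ M.det * c (J t) := by
      simp only [Finset.mul_sum, ← mul_assoc, ← map_mul]
      rw [Finset.sum_comm]
      simp only [← Finset.sum_mul, ← map_sum]
      have := Matrix.adjugate_mul M
      rw [Finset.sum_eq_single t]
      · rw [show ∑ e, M.adjugate t e * M e t = M.det by
          rw [← Matrix.mul_apply, this]; simp]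
      · intro b _ hb
        rw [show ∑ e, M.adjugate t e * M e b = 0 by
          rw [← Matrix.mul_apply, this]; simp [Matrix.one_apply_ne' hb], map_zero, zero_mul]
      · simp
    simp only [map_neg, map_mul, map_sum, hC, hX, hθ, hrow, mul_neg, Finset.sum_neg_distrib, neg_neg]
    rw [hadj, ← mul_assoc, hu, one_mul, ht]
  have hpc : θC (g p) = MvPolynomial.eval c p := by
    have : θC.comp g.toRingHom = MvPolynomial.eval c := by
      refine MvPolynomial.ringHom_ext (fun s => ?_) (fun j => ?_)
      · simp only [RingHom.comp_apply, AlgHom.toRingHom_eq_coe, RingHom.coe_coe, MvPolynomial.eval_C]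
        rw [show g (MvPolynomial.C s) = algebraMap k C s from g.commutes s,
          IsScalarTower.algebraMap_apply k B C, MvPolynomial.algebraMap_eq,
          IsScalarTower.algebraMap_apply k A B, hC, hθ, χ.commutes]
        rfl
      · simp only [RingHom.comp_apply, AlgHom.toRingHom_eq_coe, RingHom.coe_coe, MvPolynomial.eval_X,
          g, MvPolynomial.aeval_X]
        exact hcomp j
    exact RingHom.congr_fun this p
  obtain ⟨q, hq⟩ := Ideal.mem_span_singleton'.1 hp
  rw [← hq, map_mul, show θC H = 0 by rw [hC, hθ, hχh], mul_zero] at hpc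
  exact hpc.symm

end Groth.Agent.An92.Lef
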