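import Groth.Agent.An92.Lef.Open

/-! Polynomial functions and elimination for families of cones. -/

universe u

open MvPolynomial

noncomputable section

namespace Groth.Agent.An92.Lef

variable {k : Type u} [Field k] {ι κ : Type}

/-- A function given by a polynomial. -/
def PolyFn (f : (ι → k) → k) : Prop := ∃ P : MvPolynomial ι k, ∀ x, eval x P = f x

theorem PolyFn.const (a : k) : PolyFn fun _ : ι → k => a := ⟨C a, fun _ => eval_C a⟩

theorem PolyFn.proj (t : ι) : PolyFn fun x : ι → k => x t := ⟨X t, fun _ => eval_X t⟩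

theorem PolyFn.add {f g : (ι → k) → k} (hf : PolyFn f) (hg : PolyFn g) : PolyFn fun x => f x + g x := by
  obtain ⟨P, hP⟩ := hf; obtain ⟨Q, hQ⟩ := hg
  exact ⟨P + Q, fun x => by rw [map_add, hP, hQ]⟩

theorem PolyFn.mul {f g : (ι → k) → k} (hf : PolyFn f) (hg : PolyFn g) : PolyFn fun x => f x * g x := by
  obtain ⟨P, hP⟩ := hf; obtain ⟨Q, hQ⟩ := hg
  exact ⟨P * Q, fun x => by rw [map_mul, hP, hQ]⟩

theorem PolyFn.sub {f g : (ι → k) → k} (hf : PolyFn f) (hg : PolyFn g) : PolyFn fun x => f x - g x := by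
  obtain ⟨P, hP⟩ := hf; obtain ⟨Q, hQ⟩ := hg
  exact ⟨P - Q, fun x => by rw [map_sub, hP, hQ]⟩

theorem PolyFn.sum {α : Type*} (s : Finset α) {f : α → (ι → k) → k} (h : ∀ a ∈ s, PolyFn (f a)) :
    PolyFn fun x => ∑ a ∈ s, f a x := by
  classical
  induction s using Finset.induction_on with
  | empty => simpa using PolyFn.const (ι := ι) (0 : k)
  | insert a s ha ih =>
    simp only [Finset.sum_insert ha]
    exact (h a (by simp)).add (ih fun b hb => h b (by simp [hb]))

theorem PolyFn.comp {f : (ι → k) → k} (hf : PolyFn f) {g : (κ → k) → (ι → k)}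
    (hg : ∀ t, PolyFn fun x => g x t) : PolyFn fun x => f (g x) := by
  obtain ⟨P, hP⟩ := hf
  choose Q hQ using hg
  refine ⟨bind₁ Q P, fun x => ?_⟩
  show _ = f (g x)
  rw [eval, eval₂Hom_bind₁, ← hP (g x)]
  exact congrArg (fun w => eval₂Hom (RingHom.id k) w P) (funext fun t => hQ t x)

variable {r : ℕ} {σ : Type}

theorem eval_sumAlgEquiv (P : MvPolynomial (Fin (r + 1) ⊕ σ) k) (v : Fin (r + 1) → k) (c : σ → k) :
    eval v (spec c (sumAlgEquiv k (Fin (r + 1)) σ P)) = eval (Sum.elim v c) P := by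
  induction P using MvPolynomial.induction_on with
  | C a => simp [spec]
  | add p q hp hq => simp [map_add, hp, hq]
  | mul_X p t hp =>
    simp only [map_mul, hp, eval_X]
    congr 1
    cases t <;> simp [spec]

/-- The homogeneous components of an equation of a cone vanish on it. -/
theorem eval_component_eq_zero [Infinite k] (G : MvPolynomial (Fin (r + 1)) k) (v : Fin (r + 1) → k)
    (h : ∀ t : k, t ≠ 0 → eval (t • v) G = 0) (e : ℕ) : eval v (homogeneousComponent e G) = 0 := by
  classical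
  let p : Polynomial k := ∑ d ∈ Finset.range (G.totalDegree + 1),
    Polynomial.C (eval v (homogeneousComponent d G)) * Polynomial.X ^ d
  have hscale : ∀ {D : ℕ} (t : k) {F : MvPolynomial (Fin (r + 1)) k}, F.IsHomogeneous D →
      eval (t • v) F = eval v F * t ^ D := by
    intro D t F hF
    rw [eval_eq', eval_eq', Finset.sum_mul]
    refine Finset.sum_congr rfl fun m hm => ?_
    have hm' : m.degree = D := by
      by_contra hne
      exact mem_support_iff.1 hm (hF.coeff_eq_zero hne)
    rw [mul_assoc]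
    congr 1
    simp only [Pi.smul_apply, smul_eq_mul, mul_pow, Finset.prod_mul_distrib]
    rw [mul_comm, Finset.prod_pow_eq_pow_sum, ← hm', Finsupp.degree_apply]
    congr 2
    exact (Finset.sum_subset (Finset.subset_univ _) (by simp)).symm
  have hp : ∀ t, p.eval t = eval (t • v) G := fun t => by
    conv_rhs => rw [← sum_homogeneousComponent G, map_sum]
    simp only [p, Polynomial.eval_finset_sum, Polynomial.eval_mul, Polynomial.eval_C, Polynomial.eval_pow,
      Polynomial.eval_X]
    exact Finset.sum_congr rfl fun d _ => (hscale t (homogeneousComponent_isHomogeneous d G)).symm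
  have hp0 : p = 0 := by
    refine Polynomial.eq_zero_of_infinite_isRoot p (((Set.finite_singleton (0 : k)).infinite_compl).mono ?_)
    intro t ht
    show p.eval t = 0
    rw [hp]
    exact h t ht
  by_cases he : e ∈ Finset.range (G.totalDegree + 1)
  · have := congrArg (fun q : Polynomial k => q.coeff e) hp0
    simpa [p, Polynomial.finset_sum_coeff, Polynomial.coeff_C_mul, Polynomial.coeff_X_pow, he] using this
  · rw [homogeneousComponent_eq_zero _ _ (by simp only [Finset.mem_range, not_lt] at he; omega), map_zero]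

/-- Elimination of a projective variable from a family of cones. -/
theorem exists_elim_cone [IsAlgClosed k] [Finite σ] (Z : (Fin (r + 1) → k) → (σ → k) → Prop)
    (hZ0 : ∀ v c, Z v c → v ≠ 0) (hcone : ∀ v c (t : k), t ≠ 0 → Z v c → Z (t • v) c)
    (hsep : ∀ v₀ c₀, v₀ ≠ 0 → ¬ Z v₀ c₀ → ∃ f : (Fin (r + 1) ⊕ σ → k) → k,
      PolyFn f ∧ (∀ v c, Z v c → f (Sum.elim v c) = 0) ∧ f (Sum.elim v₀ c₀) ≠ 0)
    (c₀ : σ → k) (h₀ : ∀ v, ¬ Z v c₀) :
    ∃ f : (σ → k) → k, PolyFn f ∧ f c₀ ≠ 0 ∧ ∀ c, f c ≠ 0 → ∀ v, ¬ Z v c := by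
  classical
  obtain ⟨q, hq0, hq⟩ := exists_elim Z hZ0 (fun v₀ c₀ hv₀ hnZ => by
    obtain ⟨f, ⟨P, hP⟩, hfZ, hf0⟩ := hsep v₀ c₀ hv₀ hnZ
    let G := sumAlgEquiv k (Fin (r + 1)) σ P
    have hcomp : ∀ e v c, eval v (spec c (homogeneousComponent e G)) = eval v (homogeneousComponent e (spec c G)) := by
      intro e v c
      congr 1
      ext m
      by_cases h : m.degree = e <;> simp [spec, coeff_homogeneousComponent, coeff_map, h]
    by_contra hc
    push Not at hc
    apply hf0
    rw [← hP, ← eval_sumAlgEquiv]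
    show eval v₀ (spec c₀ G) = 0
    rw [← sum_homogeneousComponent (spec c₀ G), map_sum]
    refine Finset.sum_eq_zero fun e _ => ?_
    rw [← hcomp]
    refine hc e _ (homogeneousComponent_isHomogeneous e G) fun v c hv => ?_
    rw [hcomp]
    refine eval_component_eq_zero _ v (fun t ht => ?_) e
    rw [eval_sumAlgEquiv, hP]
    exact hfZ _ _ (hcone v c t ht hv)) c₀ h₀
  exact ⟨fun c => eval c q, ⟨q, fun _ => rfl⟩, hq0, hq⟩

open Classical in
/-- A chart equation as an equation in homogeneous coordinates, killed outside the chart. -/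
theorem exists_chartLift (j : Fin (r + 1)) {f : (Fin (r + 1) ⊕ σ → k) → k} (hf : PolyFn f) :
    ∃ g : (Fin (r + 1) ⊕ σ → k) → k, PolyFn g ∧ ∀ v c,
      g (Sum.elim v c) = 0 ↔ v j = 0 ∨ f (Sum.elim (fun t => v t / v j) c) = 0 := by
  obtain ⟨P, hP⟩ := hf
  let G := sumAlgEquiv k (Fin (r + 1)) σ P
  obtain ⟨e, F, -, hF⟩ := exists_homogenize (k := k) j G
  refine ⟨fun x => eval x ((sumAlgEquiv k (Fin (r + 1)) σ).symm F), ⟨_, fun _ => rfl⟩, fun v c => ?_⟩
  simp only
  rw [← eval_sumAlgEquiv, AlgEquiv.apply_symm_apply, spec, hF, ← hP, ← eval_sumAlgEquiv]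
  by_cases hv : v j = 0
  · simp [hv]
  · simp [hv, spec, G]

end Groth.Agent.An92.Lef
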