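import Groth.Agent.An92.Lef.Points
import Groth.Agent.An92.Lef.LocalRing
import Groth.Agent.H98Proj.SmoothPn
import Groth.Agent.QS97.HyperLocal
import Groth.Agent.QS97.Degree2
import Groth.Prelude.Def_QuadSing
import Mathlib.Algebra.DualNumber

/-! Non-degenerate quadratic forms: the geometric and the algebraic notion agree. -/

universe u

open CategoryTheory CategoryTheory.Limits AlgebraicGeometry Opposite TopologicalSpace
open scoped TensorProduct

noncomputable section

set_option backward.isDefEq.respectTransparency false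

namespace Groth.Agent.An92.Lef

open LefPen Groth.Agent.Var76 Groth.Agent.Var76.BertiniScheme

variable {k : Type u} [Field k] {m : ℕ}

instance isClosedImmersion_id : IsClosedImmersion (𝟙 (CohB1.ProjSpace m k)) := inferInstance

theorem isDomain_chart (j : Fin (m + 1)) : IsDomain Γ(CohB1.ProjSpace m k, ProjCoord.U k m j) := by
  let f : MvPolynomial (Fin (m + 1)) k := MvPolynomial.X j
  have : IsDomain (Localization (Submonoid.powers f)) :=
    IsLocalization.isDomain_localization (powers_le_nonZeroDivisors_of_noZeroDivisors (MvPolynomial.X_ne_zero j))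
  have h := HomogeneousLocalization.val_injective (𝒜 := CohB1.polyGrading m k) (Submonoid.powers f)
  have : IsDomain (HomogeneousLocalization.Away (CohB1.polyGrading m k) f) :=
    Function.Injective.isDomain (algebraMap _ (Localization (Submonoid.powers f))) h
  exact (Proj.basicOpenIsoAway (CohB1.polyGrading m k) f (ProjCoord.X₁ k m j).2
    one_pos).commRingCatIsoToRingEquiv.symm.injective.isDomain

/-- Evaluation of a chart at a point with invertible coordinate. -/
theorem exists_chartHom {B : Type u} [CommRing B] [Algebra k B] (j : Fin (m + 1)) (b : Fin (m + 1) → B)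
    (hb : IsUnit (b j)) :
    ∃ ψ : Γ(CohB1.ProjSpace m k, piece (𝟙 (CohB1.ProjSpace m k)) j) →ₐ[k] B,
      ∀ {d : ℕ} (G : Form m k d), ψ (pform (𝟙 (CohB1.ProjSpace m k)) j G) * b j ^ d = MvPolynomial.aeval b G.1 := by
  let f : MvPolynomial (Fin (m + 1)) k := MvPolynomial.X j
  let iso := Proj.basicOpenIsoAway (CohB1.polyGrading m k) f (ProjCoord.X₁ k m j).2 one_pos
  have hu : IsUnit ((MvPolynomial.aeval b : MvPolynomial (Fin (m + 1)) k →ₐ[k] B).toRingHom f) := by
    simpa [f] using hb
  let lift : Localization (Submonoid.powers f) →+* B := IsLocalization.Away.lift f hu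
  let ψ₀ : Γ(CohB1.ProjSpace m k, piece (𝟙 (CohB1.ProjSpace m k)) j) →+* B :=
    (lift.comp (algebraMap (HomogeneousLocalization.Away (CohB1.polyGrading m k) f) _)).comp
      (show Γ(CohB1.ProjSpace m k, ProjCoord.U k m j) →+* _ from iso.inv.hom)
  have key : ∀ {d : ℕ} (G : Form m k d), ψ₀ (pform (𝟙 (CohB1.ProjSpace m k)) j G) * b j ^ d =
      MvPolynomial.aeval b G.1 := by
    intro d G
    have h1 : iso.inv.hom (dehom G j) = HomogeneousLocalization.Away.mk (CohB1.polyGrading m k) (LefPen.X_mem m k j) d G.1
        (by rw [smul_eq_mul, mul_one]; exact G.2) := by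
      rw [dehom]
      exact ConcreteCategory.congr_hom iso.hom_inv_id _
    show lift (algebraMap _ _ (iso.inv.hom (dehom G j))) * _ = _
    rw [h1]
    show lift (HomogeneousLocalization.Away.mk (CohB1.polyGrading m k) (LefPen.X_mem m k j) d G.1 _).val * _ = _
    rw [HomogeneousLocalization.Away.val_mk]
    have h2 := congrArg lift (IsLocalization.mk'_spec (Localization (Submonoid.powers f)) G.1
      (⟨f ^ d, d, rfl⟩ : Submonoid.powers f))
    rw [map_mul, IsLocalization.Away.lift_eq, IsLocalization.Away.lift_eq, ← Localization.mk_eq_mk'] at h2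
    simpa [f] using h2
  have hcomm : ∀ c : k, ψ₀ (algebraMap k _ c) = algebraMap k B c := fun c => by
    have := key (constForm m c)
    rwa [pform_C, pow_zero, mul_one, constForm, MvPolynomial.aeval_C] at this
  exact ⟨AlgHom.mk ψ₀ hcomm, key⟩

theorem smooth_iff_pieces (G : Form m k 2) :
    Smooth ((hypIdeal G).subschemeι ≫ CohB1.ProjSpace.toSpec m k) ↔
      ∀ j, Algebra.Smooth k (Γ(CohB1.ProjSpace m k, piece (𝟙 (CohB1.ProjSpace m k)) j) ⧸
        Ideal.span {pform (𝟙 (CohB1.ProjSpace m k)) j G}) := by
  set i := 𝟙 (CohB1.ProjSpace m k)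
  letI := overOf i
  set I := secIdeal i ({G} : Set (Form m k 2))
  have hI : hypIdeal G = I := by simp [I, secIdeal, i, Scheme.IdealSheafData.comap_id]
  rw [hI, show I.subschemeι ≫ CohB1.ProjSpace.toSpec m k = I.subschemeι ≫ (CohB1.ProjSpace m k) ↘ Spec (CommRingCat.of k) by
    show _ = I.subschemeι ≫ i ≫ CohB1.ProjSpace.toSpec m k
    simp [i]]
  let W : Fin (m + 1) → (CohB1.ProjSpace m k).affineOpens := fun j => ⟨piece i j, isAffineOpen_piece i j⟩
  have : IsZariskiLocalAtSource @Smooth := HasRingHomProperty.instIsZariskiLocalAtSource (Q := RingHom.Smooth)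
  rw [IsZariskiLocalAtSource.iff_of_iSup_eq_top (P := @Smooth) (fun j => I.subschemeι ⁻¹ᵁ (W j).1) (by
    rw [eq_top_iff]
    intro z _
    obtain ⟨j, hj⟩ := Opens.mem_iSup.1 ((iSup_piece i).ge (trivial : I.subschemeι z ∈ (⊤ : (CohB1.ProjSpace m k).Opens)))
    exact Opens.mem_iSup.2 ⟨j, hj⟩)]
  refine forall_congr' fun j => ?_
  have : IsOpenImmersion (I.subschemeCover.f (W j)) := I.subschemeCover.openCover.map_prop (W j)
  rw [← I.opensRange_subschemeCover_map (W j), ← MorphismProperty.cancel_left_of_respectsIso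
    @Smooth (I.subschemeCover.f (W j)).isoOpensRange.hom, Scheme.Hom.isoOpensRange_hom_ι_assoc,
    reassoc_of% (I.subschemeCover_map_subschemeι (W j))]
  refine Iff.trans ?_ ((HasRingHomProperty.Spec_iff (P := @Smooth)
    (φ := CommRingCat.ofHom ((Ideal.Quotient.mk (I.ideal (W j))).comp (const (k := k) _ (W j).1)))).trans ?_)
  · refine Iff.of_eq (congrArg Smooth ?_)
    rw [CommRingCat.ofHom_comp, Spec.map_comp, SpecMap_const (W j).2]
    exact ((Category.assoc _ _ _).symm.trans (congrArg (· ≫ (CohB1.ProjSpace m k) ↘ Spec (CommRingCat.of k))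
      (I.glueDataObjι_ι (W j)))).trans (Category.assoc _ _ _)
  · have h := secIdeal_piece i ({G} : Set (Form m k 2)) j
    rw [Set.image_singleton] at h
    rw [show I.ideal (W j) = _ from h, ← RingHom.smooth_algebraMap]
    rfl

theorem smooth_chart (j : Fin (m + 1)) :
    Algebra.Smooth k Γ(CohB1.ProjSpace m k, piece (𝟙 (CohB1.ProjSpace m k)) j) := by
  have : Smooth (CohB1.ProjSpace.toSpec m k) := H98Proj.smooth_toSpec m k
  letI := overOf (𝟙 (CohB1.ProjSpace m k))
  have hW := isAffineOpen_piece (𝟙 (CohB1.ProjSpace m k)) j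
  have : IsOpenImmersion hW.fromSpec := IsAffineOpen.isOpenImmersion_fromSpec hW
  have h1 : Smooth (hW.fromSpec ≫ ((CohB1.ProjSpace m k) ↘ Spec (CommRingCat.of k))) := by
    show Smooth (hW.fromSpec ≫ 𝟙 _ ≫ CohB1.ProjSpace.toSpec m k)
    rw [Category.id_comp]; infer_instance
  rw [← SpecMap_const hW, HasRingHomProperty.Spec_iff (P := @Smooth)] at h1
  exact RingHom.smooth_algebraMap.1 h1

/-- The table of a quadratic form. -/
def formTable (G : Form m k 2) : Fin (m + 1) → Fin (m + 1) → k :=
  VanCyc.quadPart ((G.1 : MvPolynomial (Fin (m + 1)) k) : MvPowerSeries (Fin (m + 1)) k)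

theorem quadPoly_formTable (G : Form m k 2) : VanCyc.quadPoly (formTable G) = G.1 := by
  refine MvPolynomial.coe_injective _ _ (MvPowerSeries.ext fun d => ?_)
  rw [QS97.coe_quadPoly]
  by_cases hd : d.degree = 2
  · obtain ⟨i, j, hij, rfl⟩ := QS97.exists_pairExp hd
    rw [QS97.coeff_quadEval_pairExp _ hij, formTable, QS97.quadPart_eq _ hij]
  · rw [QS97.coeff_quadEval_of_ne_two _ hd, MvPolynomial.coeff_coe,
      (G.2 : G.1.IsHomogeneous 2).coeff_eq_zero hd]

theorem aeval_quadPoly {B : Type u} [CommRing B] [Algebra k B] {N : ℕ} (q : Fin N → Fin N → k) (b : Fin N → B) :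
    MvPolynomial.aeval b (VanCyc.quadPoly q) = VanCyc.quadEval (fun i j => algebraMap k B (q i j)) b := by
  unfold VanCyc.quadPoly VanCyc.quadEval
  rw [map_sum]
  refine Finset.sum_congr rfl fun i _ => ?_
  rw [map_sum]
  refine Finset.sum_congr rfl fun j _ => ?_
  split_ifs <;> simp

theorem quadEval_taylor {S : Type u} [CommRing S] {N : ℕ} (q : Fin N → Fin N → S) (a z : Fin N → S) :
    VanCyc.quadEval q (a + z) =
      VanCyc.quadEval q a + ∑ l, (VanCyc.polarMatrix q).mulVec a l * z l + VanCyc.quadEval q z := by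
  unfold VanCyc.quadEval
  have h1 : ∀ i j, (if i ≤ j then q i j * (a + z) i * (a + z) j else 0) =
      (if i ≤ j then q i j * a i * a j else 0) + ((if i ≤ j then q i j * a i * z j else 0) +
        (if i ≤ j then q i j * z i * a j else 0)) + (if i ≤ j then q i j * z i * z j else 0) := fun i j => by
    split_ifs <;> (try simp only [Pi.add_apply]) <;> ring
  simp only [h1, Finset.sum_add_distrib]
  congr 2
  rw [Finset.sum_comm, ← Finset.sum_add_distrib]
  refine Finset.sum_congr rfl fun l _ => ?_
  rw [Matrix.mulVec, dotProduct, Finset.sum_mul, ← Finset.sum_add_distrib]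
  refine Finset.sum_congr rfl fun t _ => ?_
  unfold VanCyc.polarMatrix
  rcases lt_trichotomy l t with h | rfl | h
  · rw [if_neg (not_le.2 h), if_pos h.le, if_neg h.ne, if_pos h]; ring
  · rw [if_pos le_rfl, if_pos le_rfl, if_pos rfl]; ring
  · rw [if_pos h.le, if_neg (not_le.2 h), if_neg h.ne', if_neg (not_lt.2 h.le)]; ring

theorem pform_eq_quadEval {r : ℕ} {X : Scheme.{u}} (i : X ⟶ CohB1.ProjSpace r k) (j : Fin (r + 1)) (G : Form r k 2) :
    pform i j G = VanCyc.quadEval (fun a b => algebraMap k _ (formTable G a b)) (pcoord i j) := by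
  rw [pform_eq_aeval]
  conv_lhs => rw [← quadPoly_formTable G]
  rw [aeval_quadPoly]

theorem map_quadEval_const {A : Type u} [CommRing A] [Algebra k A] (χ : A →ₐ[k] k) {N : ℕ} (q : Fin N → Fin N → k)
    (v : Fin N → A) : χ (VanCyc.quadEval (fun a b => algebraMap k A (q a b)) v) = VanCyc.quadEval q (fun t => χ (v t)) := by
  unfold VanCyc.quadEval
  rw [map_sum]
  refine Finset.sum_congr rfl fun i _ => ?_
  rw [map_sum]
  refine Finset.sum_congr rfl fun j _ => ?_
  split_ifs <;> simp

theorem quadEval_mem_sq {A : Type u} [CommRing A] {N : ℕ} (q : Fin N → Fin N → A) {M : Ideal A} {z : Fin N → A}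
    (hz : ∀ l, z l ∈ M) : VanCyc.quadEval q z ∈ M ^ 2 := by
  unfold VanCyc.quadEval
  refine Ideal.sum_mem _ fun a _ => Ideal.sum_mem _ fun b _ => ?_
  split_ifs
  · rw [mul_assoc, pow_two]
    exact Ideal.mul_mem_left _ _ (Ideal.mul_mem_mul (hz a) (hz b))
  · exact zero_mem _

/-- A quadric is tangent at a point where its gradient vanishes. -/
theorem bad_of_critical {r : ℕ} {X : Scheme.{u}} (i : X ⟶ CohB1.ProjSpace r k) (j : Fin (r + 1))
    (χ : Γ(X, piece i j) →ₐ[k] k) (G : Form r k 2)
    (h1 : VanCyc.quadEval (formTable G) (fun t => χ (pcoord i j t)) = 0)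
    (h2 : (VanCyc.polarMatrix (formTable G)).mulVec (fun t => χ (pcoord i j t)) = 0) :
    Bad i j χ G := by
  set A := Γ(X, piece i j)
  let a : Fin (r + 1) → A := fun t => algebraMap k A (χ (pcoord i j t))
  let z : Fin (r + 1) → A := fun t => pcoord i j t - a t
  have hz : ∀ t, z t ∈ RingHom.ker χ.toRingHom := fun t => by
    show χ (pcoord i j t - algebraMap k A (χ (pcoord i j t))) = 0
    rw [map_sub, χ.commutes]; simp
  set qA := fun x y => algebraMap k A (formTable G x y)
  rw [Bad, pform_eq_quadEval, show pcoord i j = a + z by funext t; simp [z], quadEval_taylor]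
  have e1 : VanCyc.quadEval qA a = 0 := by
    have : VanCyc.quadEval qA a = algebraMap k A (VanCyc.quadEval (formTable G) (fun t => χ (pcoord i j t))) := by
      unfold VanCyc.quadEval
      rw [map_sum]
      refine Finset.sum_congr rfl fun x _ => ?_
      rw [map_sum]
      refine Finset.sum_congr rfl fun y _ => ?_
      split_ifs <;> simp [qA, a]
    rw [this, h1, map_zero]
  have e2 : (VanCyc.polarMatrix qA).mulVec a = 0 := by
    funext l
    have hp : ∀ t, VanCyc.polarMatrix qA l t = algebraMap k A (VanCyc.polarMatrix (formTable G) l t) := fun t => by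
      unfold VanCyc.polarMatrix
      split_ifs <;> simp [qA, map_ofNat]
    have := congrArg (algebraMap k A) (congrFun h2 l)
    simp only [Pi.zero_apply, map_zero, Matrix.mulVec, dotProduct, map_sum, map_mul] at this
    simpa only [Matrix.mulVec, dotProduct, hp, Pi.zero_apply, a] using this
  rw [e1, e2]
  simp only [Pi.zero_apply, zero_mul, Finset.sum_const_zero, add_zero, zero_add]
  exact quadEval_mem_sq _ hz

/-- On projective space the converse holds. -/
theorem critical_of_bad (j : Fin (m + 1)) (χ : Γ(CohB1.ProjSpace m k, piece (𝟙 (CohB1.ProjSpace m k)) j) →ₐ[k] k)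
    (G : Form m k 2) (h : Bad (𝟙 (CohB1.ProjSpace m k)) j χ G) :
    VanCyc.quadEval (formTable G) (fun t => χ (pcoord (𝟙 _) j t)) = 0 ∧
    (VanCyc.polarMatrix (formTable G)).mulVec (fun t => χ (pcoord (𝟙 _) j t)) = 0 := by
  set v : Fin (m + 1) → k := fun t => χ (pcoord (𝟙 (CohB1.ProjSpace m k)) j t)
  have hv : VanCyc.quadEval (formTable G) v = 0 := by
    rw [← map_quadEval_const, ← pform_eq_quadEval]
    exact h.eval_eq_zero
  refine ⟨hv, funext fun l => ?_⟩
  let b : Fin (m + 1) → DualNumber k := fun t =>
    algebraMap k (DualNumber k) (v t) + if t = l then DualNumber.eps else 0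
  have hbj : IsUnit (b j) := by
    rw [TrivSqZeroExt.isUnit_iff_isUnit_fst]
    have : (b j).fst = v j := by
      simp only [b, TrivSqZeroExt.algebraMap_eq_inl, TrivSqZeroExt.fst_add, TrivSqZeroExt.fst_inl]
      split_ifs <;> simp
    rw [this, show v j = 1 from by simp [v, pcoord_self]]
    exact isUnit_one
  obtain ⟨ψ, hψ⟩ := exists_chartHom (k := k) j b hbj
  have hfst : ∀ t, (ψ (pcoord (𝟙 (CohB1.ProjSpace m k)) j t)).fst = v t := fun t => by
    have := congrArg TrivSqZeroExt.fst (hψ (⟨MvPolynomial.X t, LefPen.X_mem m k t⟩ : Form m k 1))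
    rw [pform_X, pow_one, MvPolynomial.aeval_X, TrivSqZeroExt.fst_mul] at this
    have hb : ∀ s, (b s).fst = v s := fun s => by
      simp only [b, TrivSqZeroExt.algebraMap_eq_inl, TrivSqZeroExt.fst_add, TrivSqZeroExt.fst_inl]
      split_ifs <;> simp
    rw [hb, hb, show v j = 1 from by simp [v, pcoord_self], mul_one] at this
    exact this
  have hcomp : (TrivSqZeroExt.fstHom k k k).comp ψ = χ := by
    refine AlgHom.ext_of_adjoin_eq_top (adjoin_pcoord (𝟙 (CohB1.ProjSpace m k)) j) ?_
    rintro _ ⟨t, rfl⟩
    exact hfst t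
  have hz : ψ (pform (𝟙 (CohB1.ProjSpace m k)) j G) = 0 := by
    rw [Bad, pow_two] at h
    refine Submodule.mul_induction_on h (fun x hx y hy => ?_) (fun x y hx hy => by rw [map_add, hx, hy, add_zero])
    have h0 : ∀ z ∈ RingHom.ker χ.toRingHom, (ψ z).fst = 0 := fun z hz => by
      have := AlgHom.congr_fun hcomp z
      exact this.trans hz
    rw [map_mul]
    ext <;> simp [h0 x hx, h0 y hy]
  have := hψ G
  rw [hz, zero_mul, ← quadPoly_formTable, aeval_quadPoly] at this
  have heq : b = (fun t => algebraMap k (DualNumber k) (v t)) + fun t => if t = l then DualNumber.eps else 0 := rfl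
  rw [heq, quadEval_taylor] at this
  have hz2 := congrArg TrivSqZeroExt.snd this.symm
  simp only [TrivSqZeroExt.snd_add, TrivSqZeroExt.snd_sum, TrivSqZeroExt.snd_zero, mul_ite, mul_zero,
    Finset.sum_ite_eq', Finset.mem_univ, if_true] at hz2
  have e0 : (VanCyc.quadEval (fun x y => algebraMap k (DualNumber k) (formTable G x y))
      fun t => algebraMap k (DualNumber k) (v t)).snd = 0 := by
    unfold VanCyc.quadEval
    rw [TrivSqZeroExt.snd_sum]
    refine Finset.sum_eq_zero fun x _ => ?_
    rw [TrivSqZeroExt.snd_sum]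
    refine Finset.sum_eq_zero fun y _ => ?_
    split_ifs <;> simp [TrivSqZeroExt.algebraMap_eq_inl]
  have e1 : (VanCyc.quadEval (fun x y => algebraMap k (DualNumber k) (formTable G x y))
      fun t => if t = l then DualNumber.eps else 0).snd = 0 := by
    unfold VanCyc.quadEval
    rw [TrivSqZeroExt.snd_sum]
    refine Finset.sum_eq_zero fun x _ => ?_
    rw [TrivSqZeroExt.snd_sum]
    refine Finset.sum_eq_zero fun y _ => ?_
    split_ifs <;> simp [TrivSqZeroExt.algebraMap_eq_inl, mul_assoc]
  have e2 : ((VanCyc.polarMatrix fun x y => algebraMap k (DualNumber k) (formTable G x y)).mulVec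
      fun t => algebraMap k (DualNumber k) (v t)) l =
        algebraMap k (DualNumber k) ((VanCyc.polarMatrix (formTable G)).mulVec v l) := by
    simp only [Matrix.mulVec, dotProduct, map_sum, map_mul]
    refine Finset.sum_congr rfl fun t _ => ?_
    unfold VanCyc.polarMatrix
    split_ifs <;> simp [map_ofNat]
  rw [e0, e1, e2] at hz2
  simpa [TrivSqZeroExt.algebraMap_eq_inl] using hz2

theorem formTable_eq_zero_iff (G : Form m k 2) : formTable G = 0 → G.1 = 0 := fun h => by
  rw [← quadPoly_formTable, h]
  simp [VanCyc.quadPoly]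

/-- The geometric notion of non-degenerate form is the algebraic one. -/
theorem nondegQuad_iff [IsAlgClosed k] (G : Form m k 2) : NondegQuad k G ↔ VanCyc.QuadOrd (formTable G) := by
  set i := 𝟙 (CohB1.ProjSpace m k)
  constructor
  · rintro ⟨h0, h⟩ v hv1 hv2
    by_contra hne
    obtain ⟨j, hj⟩ : ∃ j, v j ≠ 0 := by
      by_contra hc; push Not at hc; exact hne (funext hc)
    rcases h with hm | hsm
    · subst hm
      have : Subsingleton (Fin (0 + 1)) := Fin.subsingleton_one
      refine h0 (formTable_eq_zero_iff G (funext fun a => funext fun b => ?_))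
      rw [Subsingleton.elim a j, Subsingleton.elim b j, Pi.zero_apply, Pi.zero_apply]
      have h3 := hv1
      unfold VanCyc.quadEval at h3
      simp only [Fin.sum_univ_one, le_refl, if_true, mul_eq_zero, Fin.fin_one_eq_zero] at h3
      have : j = 0 := Subsingleton.elim _ _
      subst this
      simpa [hj] using h3
    · obtain ⟨χ, hχ⟩ := exists_chartHom (k := k) (m := m) (B := k) j (fun t => v t / v j) (by simp [hj])
      have hc : ∀ t, χ (pcoord i j t) = v t / v j := fun t => by
        have := hχ (⟨MvPolynomial.X t, LefPen.X_mem m k t⟩ : Form m k 1)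
        simpa [pform_X, hj] using this
      have hbad : Bad i j χ G := by
        have hsc : (fun t => χ (pcoord i j t)) = (v j)⁻¹ • v := funext fun t => by
          rw [hc, Pi.smul_apply, smul_eq_mul, div_eq_inv_mul]
        refine bad_of_critical i j χ G ?_ ?_
        · rw [hsc]
          have : VanCyc.quadEval (formTable G) ((v j)⁻¹ • v) = ((v j)⁻¹) ^ 2 * VanCyc.quadEval (formTable G) v := by
            unfold VanCyc.quadEval
            rw [Finset.mul_sum]
            refine Finset.sum_congr rfl fun a _ => ?_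
            rw [Finset.mul_sum]
            refine Finset.sum_congr rfl fun b _ => ?_
            split_ifs <;> simp; ring
          rw [this, hv1, mul_zero]
        · rw [hsc, Matrix.mulVec_smul, hv2, smul_zero]
      have := (smooth_iff_pieces G).1 hsm j
      have := smooth_chart (k := k) (m := m) j
      have : IsDomain Γ(CohB1.ProjSpace m k, piece i j) := isDomain_chart j
      have : IsNoetherianRing Γ(CohB1.ProjSpace m k, piece i j) :=
        Algebra.FiniteType.isNoetherianRing k _
      have : Algebra.FormallySmooth k (Γ(CohB1.ProjSpace m k, piece i j) ⧸ Ideal.span {pform i j G}) :=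
        Algebra.Smooth.formallySmooth
      refine formallySmooth_not_mem_sq χ (pform i j G) (fun hz => h0 ?_) hbad.eval_eq_zero hbad
      -- the chart function of a nonzero form is nonzero
      refine MvPolynomial.funext_iff.2 fun w => ?_
      rw [map_zero]
      obtain ⟨P, hP⟩ : ∃ P : MvPolynomial (Fin (m + 1)) k, P = G.1 * MvPolynomial.X j := ⟨_, rfl⟩
      have hP0 : P = 0 := MvPolynomial.funext_iff.2 fun w => by
        rw [hP, map_mul, MvPolynomial.eval_X, map_zero]
        by_cases hw : w j = 0
        · rw [hw, mul_zero]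
        obtain ⟨θ, hθ⟩ := exists_chartHom (k := k) (m := m) (B := k) j w (Ne.isUnit hw)
        have := hθ G
        rw [show pform (𝟙 (CohB1.ProjSpace m k)) j G = 0 from hz, map_zero, zero_mul,
          MvPolynomial.aeval_eq_eval] at this
        rw [← this, zero_mul]
      have : G.1 = 0 := (mul_eq_zero.1 (hP.symm.trans hP0)).resolve_right (MvPolynomial.X_ne_zero j)
      rw [this, map_zero]
  · intro hq
    have h0 : G.1 ≠ 0 := fun h => by
      have hT : formTable G = 0 := by
        funext a b
        simp [formTable, h, VanCyc.quadPart]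
      have := hq (fun _ => 1) (by simp [hT, VanCyc.quadEval]) (by
        funext l; simp [hT, VanCyc.polarMatrix, Matrix.mulVec, dotProduct])
      exact one_ne_zero (congrFun this 0)
    refine ⟨h0, or_iff_not_imp_left.2 fun _ => (smooth_iff_pieces G).2 fun j => ?_⟩
    have := smooth_chart (k := k) (m := m) j
    refine BertiniAlg.smooth_quotient _ fun M hM hmem hD => ?_
    have hk := algebraMap_surjective_residueField (k := k) M
    have hφk : pform i j G ∈ RingHom.ker (algebraMap Γ(CohB1.ProjSpace m k, piece i j) M.ResidueField) := by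
      rwa [Ideal.ker_algebraMap_residueField]
    have h2 := (SmoothCrit.D_eq_zero_iff k hk hφk).1 hD
    rw [Ideal.ker_algebraMap_residueField] at h2
    let e := AlgEquiv.ofBijective (Algebra.ofId k M.ResidueField) ⟨(algebraMap k M.ResidueField).injective, hk⟩
    let χ := e.symm.toAlgHom.comp (IsScalarTower.toAlgHom k Γ(CohB1.ProjSpace m k, piece i j) M.ResidueField)
    have hker : RingHom.ker χ.toRingHom = M := by
      ext a
      rw [RingHom.mem_ker]
      show e.symm (algebraMap _ _ a) = 0 ↔ _
      rw [map_eq_zero_iff _ e.symm.injective, Ideal.algebraMap_residueField_eq_zero]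
    obtain ⟨c1, c2⟩ := critical_of_bad j χ G (by rw [Bad, hker]; exact h2)
    have := congrFun (hq _ c1 c2) j
    simp [pcoord_self] at this

end Groth.Agent.An92.Lef
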