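import Groth.Agent.An92.Lef.PointCrit
import Groth.Agent.An92.Lef.QuadForm
import Groth.Agent.An92.Lef.Irred
import Mathlib.AlgebraicGeometry.ResidueField
import Mathlib.Topology.JacobsonSpace

/-! Singular points of a hypersurface section, in terms of rational points of the charts. -/

universe u

open CategoryTheory CategoryTheory.Limits AlgebraicGeometry Opposite TopologicalSpace
open scoped TensorProduct

noncomputable section

set_option backward.isDefEq.respectTransparency false

namespace Groth.Agent.An92.Lef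

open LefPen Groth.Agent.Var76

theorem app_const' {k : Type u} [Field k] {X Y : Scheme.{u}} [X.Over (Spec (CommRingCat.of k))]
    [Y.Over (Spec (CommRingCat.of k))] (f : Y ⟶ X)
    (hf : f ≫ X ↘ Spec (CommRingCat.of k) = Y ↘ Spec (CommRingCat.of k)) (V : X.Opens) (c : k) :
    f.app V (BertiniScheme.const X V c) = BertiniScheme.const Y (f ⁻¹ᵁ V) c := by
  show f.app V (Scheme.Hom.appLE _ ⊤ V _ ((Scheme.ΓSpecIso (CommRingCat.of k)).inv c)) =
    Scheme.Hom.appLE _ ⊤ (f ⁻¹ᵁ V) _ ((Scheme.ΓSpecIso (CommRingCat.of k)).inv c)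
  rw [← ConcreteCategory.comp_apply, Scheme.Hom.app_eq_appLE, Scheme.Hom.appLE_comp_appLE]
  simp only [hf]

theorem nonempty_completion_equiv {k O O' : Type u} [CommRing k] [CommRing O] [CommRing O'] [Algebra k O]
    [Algebra k O'] [IsLocalRing O] [IsLocalRing O'] (e : O ≃ₐ[k] O') :
    Nonempty (AdicCompletion (IsLocalRing.maximalIdeal O) O ≃ₐ[k] AdicCompletion (IsLocalRing.maximalIdeal O') O') := by
  have hmap : (IsLocalRing.maximalIdeal O).map e.toRingEquiv = IsLocalRing.maximalIdeal O' :=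
    IsLocalRing.map_ringEquiv_maximalIdeal e.toRingEquiv
  have hpow : ∀ n, (IsLocalRing.maximalIdeal O ^ n).map e.toRingEquiv = IsLocalRing.maximalIdeal O' ^ n :=
    fun n => by rw [Ideal.map_pow, hmap]
  have hle : ∀ n, IsLocalRing.maximalIdeal O ^ n ≤ (IsLocalRing.maximalIdeal O' ^ n).comap e.toAlgHom :=
    fun n x hx => by rw [Ideal.mem_comap, ← hpow n]; exact Ideal.mem_map_of_mem _ hx
  refine CAlg1.completion_equiv_of_bijective_quotients _ _ e.toAlgHom hle fun n => ⟨?_, ?_⟩
  · refine (injective_iff_map_eq_zero _).mpr fun x hx => ?_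
    obtain ⟨x, rfl⟩ := Ideal.Quotient.mk_surjective x
    change Ideal.Quotient.mk _ (e x) = 0 at hx
    rw [Ideal.Quotient.eq_zero_iff_mem, ← hpow n] at hx
    obtain ⟨z, hz, hze⟩ := (Ideal.mem_map_iff_of_surjective _ e.surjective).1 hx
    exact Ideal.Quotient.eq_zero_iff_mem.2 (e.injective hze ▸ hz)
  · intro y
    obtain ⟨y, rfl⟩ := Ideal.Quotient.mk_surjective y
    obtain ⟨x, rfl⟩ := e.surjective y
    exact ⟨Ideal.Quotient.mk _ x, rfl⟩

variable {k : Type u} [Field k] {r : ℕ} {X : Scheme.{u}} (i : X ⟶ CohB1.ProjSpace r k)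

/-- The point of `X` of a rational point of a chart. -/
def ptX [IsAffineHom i] (j : Fin (r + 1)) (χ : Γ(X, piece i j) →ₐ[k] k) : X :=
  (isAffineOpen_piece i j).fromSpec ⟨RingHom.ker χ.toRingHom, RingHom.ker_isPrime _⟩

theorem ptX_mem [IsAffineHom i] (j : Fin (r + 1)) (χ : Γ(X, piece i j) →ₐ[k] k) : ptX i j χ ∈ piece i j :=
  (isAffineOpen_piece i j).range_fromSpec.le ⟨_, rfl⟩

theorem mem_basicOpen_ptX [IsAffineHom i] (j : Fin (r + 1)) (χ : Γ(X, piece i j) →ₐ[k] k) (a : Γ(X, piece i j)) :
    ptX i j χ ∈ X.basicOpen a ↔ χ a ≠ 0 := by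
  rw [ptX, ← Scheme.Hom.mem_preimage, IsAffineOpen.fromSpec_preimage_basicOpen]
  exact Iff.rfl

/-- Evaluation at the point. -/
theorem evaluation_ptX [IsAffineHom i] (j : Fin (r + 1)) (χ : Γ(X, piece i j) →ₐ[k] k) (a : Γ(X, piece i j)) :
    X.evaluation (piece i j) (ptX i j χ) (ptX_mem i j χ) a =
      X.evaluation (piece i j) (ptX i j χ) (ptX_mem i j χ) (algebraMap k _ (χ a)) := by
  rw [← sub_eq_zero, ← map_sub]
  rw [Scheme.evaluation_eq_zero_iff_notMem_basicOpen, mem_basicOpen_ptX, not_not, map_sub, χ.commutes]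
  simp

theorem evaluation_of_eq [IsAffineHom i] (j : Fin (r + 1)) (χ : Γ(X, piece i j) →ₐ[k] k) {x : X}
    (h : ptX i j χ = x) (hx : x ∈ piece i j) (a : Γ(X, piece i j)) :
    X.evaluation (piece i j) x hx a = X.evaluation (piece i j) x hx (algebraMap k _ (χ a)) := by
  subst h
  exact evaluation_ptX i j χ a

theorem exists_ptX [IsAlgClosed k] [IsClosedImmersion i] (j : Fin (r + 1)) {x : X} (hx : x ∈ piece i j)
    (hc : IsClosed ({x} : Set X)) : ∃ χ : Γ(X, piece i j) →ₐ[k] k, ptX i j χ = x := by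
  have hA := isAffineOpen_piece i j
  set M := (hA.primeIdealOf ⟨x, hx⟩).asIdeal
  have hM : M.IsMaximal := by
    rw [← PrimeSpectrum.isClosed_singleton_iff_isMaximal]
    have : hA.fromSpec ⁻¹' {x} = {hA.primeIdealOf ⟨x, hx⟩} := by
      ext p
      refine ⟨fun hp => hA.fromSpec.isOpenEmbedding.injective (hp.trans (hA.fromSpec_primeIdealOf ⟨x, hx⟩).symm),
        fun hp => ?_⟩
      rw [Set.mem_singleton_iff] at hp
      subst hp
      exact hA.fromSpec_primeIdealOf ⟨x, hx⟩
    rw [← this]
    exact hc.preimage hA.fromSpec.continuous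
  have : Algebra.FiniteType k Γ(X, piece i j) :=
    ⟨Subalgebra.fg_def.2 ⟨_, Set.finite_range _, adjoin_pcoord i j⟩⟩
  letI := Ideal.Quotient.field M
  have : Module.Finite k (Γ(X, piece i j) ⧸ M) := finite_of_finite_type_of_isJacobsonRing k _
  let e := AlgEquiv.ofBijective (Algebra.ofId k (Γ(X, piece i j) ⧸ M))
    (IsAlgClosed.algebraMap_bijective_of_isIntegral (k := k))
  refine ⟨e.symm.toAlgHom.comp (Ideal.Quotient.mkₐ k M), ?_⟩
  have hker : RingHom.ker (e.symm.toAlgHom.comp (Ideal.Quotient.mkₐ k M)).toRingHom = M := by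
    ext a
    simp [RingHom.mem_ker, Ideal.Quotient.eq_zero_iff_mem]
  refine Eq.trans ?_ (hA.fromSpec_primeIdealOf ⟨x, hx⟩)
  exact congrArg hA.fromSpec (PrimeSpectrum.ext hker)

theorem isClosed_ptX [IsClosedImmersion i] (j : Fin (r + 1)) (χ : Γ(X, piece i j) →ₐ[k] k)
    [LocallyOfFiniteType (i ≫ CohB1.ProjSpace.toSpec r k)] : IsClosed ({ptX i j χ} : Set X) := by
  have : JacobsonSpace X := LocallyOfFiniteType.jacobsonSpace (i ≫ CohB1.ProjSpace.toSpec r k)
  have hA := isAffineOpen_piece i j
  refine isClosed_singleton_of_isLocallyClosed_singleton ?_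
  let x : Spec Γ(X, piece i j) := ⟨RingHom.ker χ.toRingHom, RingHom.ker_isPrime _⟩
  have hx : IsClosed ({x} : Set (Spec Γ(X, piece i j))) :=
    (PrimeSpectrum.isClosed_singleton_iff_isMaximal _).2
      (RingHom.ker_isMaximal_of_surjective _ (algHom_surjective i χ))
  show IsLocallyClosed ({hA.fromSpec x} : Set X)
  simpa [Set.image_singleton] using hx.isLocallyClosed.image hA.fromSpec.isOpenEmbedding.isInducing
    hA.fromSpec.isOpenEmbedding.isOpen_range.isLocallyClosed

theorem ext_of_ptX [IsAffineHom i] (j : Fin (r + 1)) {χ χ' : Γ(X, piece i j) →ₐ[k] k}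
    (h : ptX i j χ = ptX i j χ') : χ = χ' := by
  have h' := congrArg PrimeSpectrum.asIdeal ((isAffineOpen_piece i j).fromSpec.isOpenEmbedding.injective h)
  ext a
  have ha : a - algebraMap k _ (χ a) ∈ RingHom.ker χ.toRingHom := by
    show χ (a - algebraMap k _ (χ a)) = 0
    rw [map_sub, χ.commutes]; simp
  have := h'.le ha
  change χ' (a - algebraMap k _ (χ a)) = 0 at this
  rw [map_sub, χ'.commutes, sub_eq_zero] at this
  exact this.symm

/-- Coordinates of a point in two charts. -/
theorem coord_of_ptX_eq [IsClosedImmersion i] {j l : Fin (r + 1)} {χ : Γ(X, piece i j) →ₐ[k] k}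
    {χ' : Γ(X, piece i l) →ₐ[k] k} (h : ptX i j χ = ptX i l χ') :
    χ' (pcoord i l j) ≠ 0 ∧ ∀ t, χ' (pcoord i l j) * χ (pcoord i j t) = χ' (pcoord i l t) := by
  have hmem : ptX i l χ' ∈ piece i l ⊓ piece i j := ⟨ptX_mem i l χ', h ▸ ptX_mem i j χ⟩
  refine ⟨(mem_basicOpen_ptX i l χ' _).1 ((basicOpen_pcoord i l j).ge hmem), fun t => ?_⟩
  set x := ptX i l χ' with hx
  let ev := X.evaluation (piece i l ⊓ piece i j) x hmem
  have hl : ∀ a, ev ((X.presheaf.map (homOfLE (inf_le_left : piece i l ⊓ piece i j ≤ piece i l)).op).hom a) =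
      X.evaluation (piece i l) x hmem.1 a := fun a => by
    show X.residue x (X.presheaf.germ _ x hmem _) = X.residue x (X.presheaf.germ _ x _ a)
    rw [TopCat.Presheaf.germ_res_apply]
  have hj : ∀ a, ev ((X.presheaf.map (homOfLE (inf_le_right : piece i l ⊓ piece i j ≤ piece i j)).op).hom a) =
      X.evaluation (piece i j) x hmem.2 a := fun a => by
    show X.residue x (X.presheaf.germ _ x hmem _) = X.residue x (X.presheaf.germ _ x _ a)
    rw [TopCat.Presheaf.germ_res_apply]
  have hC : ∀ c : k, X.evaluation (piece i j) x hmem.2 (algebraMap k _ c) =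
      X.evaluation (piece i l) x hmem.1 (algebraMap k _ c) := fun c => by
    have := congrArg ev (res_pform i (constForm r c) l j)
    rw [map_mul, map_pow, hl, hj, pow_zero, one_mul, pform_C, pform_C] at this
    exact this.symm
  have hevj : ∀ a, X.evaluation (piece i j) x hmem.2 a = X.evaluation (piece i j) x hmem.2 (algebraMap k _ (χ a)) := by
    exact fun a => evaluation_of_eq i j χ h hmem.2 a
  have key := congrArg ev (res_pform i (⟨MvPolynomial.X t, LefPen.X_mem r k t⟩ : Form r k 1) l j)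
  rw [map_mul, map_pow, pow_one, hl, hl, hj, pform_X, pform_X, hevj, hC,
    evaluation_ptX i l χ' (pcoord i l t), evaluation_ptX i l χ' (pcoord i l j), ← map_mul, ← map_mul] at key
  exact (((X.evaluation (piece i l) x hmem.1).hom.comp (algebraMap k _)).injective key).symm

theorem ptX_eq_of_coord [IsAlgClosed k] [IsClosedImmersion i] [LocallyOfFiniteType (i ≫ CohB1.ProjSpace.toSpec r k)]
    {j l : Fin (r + 1)} {χ : Γ(X, piece i j) →ₐ[k] k}
    {χ' : Γ(X, piece i l) →ₐ[k] k} {v : Fin (r + 1) → k} (hj : v j ≠ 0) (hl : v l ≠ 0)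
    (hχ : ∀ t, v j * χ (pcoord i j t) = v t) (hχ' : ∀ t, v l * χ' (pcoord i l t) = v t) :
    ptX i j χ = ptX i l χ' := by
  have hne : χ' (pcoord i l j) ≠ 0 := fun h0 => hj (by rw [← hχ' j, h0, mul_zero])
  have hmem : ptX i l χ' ∈ piece i j :=
    ((basicOpen_pcoord i l j).le ((mem_basicOpen_ptX i l χ' _).2 hne)).2
  obtain ⟨χ'', hχ''⟩ := exists_ptX i j hmem (isClosed_ptX i l χ')
  obtain ⟨-, hc⟩ := coord_of_ptX_eq i hχ''
  have : χ = χ'' := by
    refine AlgHom.ext_of_adjoin_eq_top (adjoin_pcoord i j) ?_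
    rintro _ ⟨t, rfl⟩
    refine mul_left_cancel₀ hj ?_
    rw [hχ t, ← hχ' j, mul_assoc, hc t, hχ' t]
  rw [this, hχ'']

/-- Nonvanishing spreads over the charts of an integral scheme. -/
theorem pform_ne_zero [IsIntegral X] {d : ℕ} {H : Form r k d} {j l : Fin (r + 1)} (hj : Nonempty (piece i j))
    (hl : Nonempty (piece i l)) (h : pform i j H ≠ 0) : pform i l H ≠ 0 := by
  intro h0
  have hne : Nonempty (piece i l ⊓ piece i j : X.Opens) := by
    obtain ⟨x, hx⟩ := nonempty_preirreducible_inter (piece i l).2 (piece i j).2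
      (let ⟨x⟩ := hl; ⟨x.1, x.2⟩) (let ⟨x⟩ := hj; ⟨x.1, x.2⟩)
    exact ⟨⟨x, hx⟩⟩
  obtain ⟨⟨x, hx⟩⟩ := hne
  have hinj : Function.Injective (X.presheaf.map (homOfLE (inf_le_right : piece i l ⊓ piece i j ≤ piece i j)).op).hom := by
    intro a b hab
    apply germ_injective_of_isIntegral X x hx.2
    have := congrArg (X.presheaf.germ (piece i l ⊓ piece i j) x hx).hom hab
    rwa [TopCat.Presheaf.germ_res_apply, TopCat.Presheaf.germ_res_apply] at this
  have := res_pform i H l j
  rw [h0, map_zero] at this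
  have hW : Nonempty (piece i l ⊓ piece i j : X.Opens) := ⟨⟨x, hx⟩⟩
  have hdom : IsDomain Γ(X, piece i l ⊓ piece i j) := inferInstance
  rcases mul_eq_zero.1 this.symm with hu | hz
  · have : Nonempty (piece i l ⊓ piece i j : X.Opens) := ⟨⟨x, hx⟩⟩
    have hb : x ∈ X.basicOpen ((X.presheaf.map (homOfLE (inf_le_left : piece i l ⊓ piece i j ≤ piece i l)).op).hom (pcoord i l j)) := by
      rw [Scheme.basicOpen_res, basicOpen_pcoord]
      exact ⟨hx, hx⟩
    rw [eq_zero_of_pow_eq_zero hu, Scheme.basicOpen_zero] at hb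
    exact hb
  · exact h (hinj (hz.trans (map_zero _).symm))

theorem isMaximal_of_comap {A T : Type u} [CommRing A] [CommRing T] (π : A →+* T) (hπ : Function.Surjective π)
    (N : Ideal T) (h : (N.comap π).IsMaximal) : N.IsMaximal := by
  refine ⟨⟨fun htop => h.ne_top (by rw [htop, Ideal.comap_top]), fun J hJ => ?_⟩⟩
  have := h.1.2 (J.comap π) (lt_of_le_of_ne (Ideal.comap_mono hJ.le) (fun e => hJ.ne (Ideal.comap_injective_of_surjective π hπ e)))
  exact (Ideal.comap_injective_of_surjective π hπ) (this.trans (Ideal.comap_top).symm)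

theorem QuadAt.ne_zero {A : Type u} [CommRing A] [Algebra k A] {m : ℕ}
    (hA : RingHom.Locally (RingHom.IsStandardSmoothOfRelativeDimension (m + 1)) (algebraMap k A))
    {χ : A →ₐ[k] k} {φ : A} (h : QuadAt (m + 1) χ φ) : φ ≠ 0 := by
  rintro rfl
  obtain ⟨ψ, -, p, hp, hφ⟩ := h.exists_model hA
  rw [map_zero, zero_sub] at hφ
  exact Morse.quadPoly_notMem p hp (neg_mem_iff.1 hφ)

section Section

variable {d : ℕ} (H : Form r k d)

/-- The affine piece of the section. -/
abbrev secPiece (j : Fin (r + 1)) : (Sec i ({H} : Set (Form r k d))).Opens :=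
  secι i ({H} : Set (Form r k d)) ⁻¹ᵁ piece i j

/-- The constants on the piece of the section. -/
instance secPieceAlgebra (j : Fin (r + 1)) : Algebra k Γ(Sec i ({H} : Set (Form r k d)), secPiece i H j) :=
  letI : (Sec i ({H} : Set (Form r k d))).Over (Spec (CommRingCat.of k)) := ⟨secToSpec i ({H} : Set (Form r k d))⟩
  (BertiniScheme.const (k := k) (Sec i ({H} : Set (Form r k d))) (secPiece i H j)).toAlgebra

/-- The chart of the section. -/
def sectOf [IsClosedImmersion i] (j : Fin (r + 1)) :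
    Sect k Γ(X, piece i j) Γ(Sec i ({H} : Set (Form r k d)), secPiece i H j) where
  π := AlgHom.mk ((secι i ({H} : Set (Form r k d))).app (piece i j)).hom fun c =>
    letI := overOf i
    letI : (Sec i ({H} : Set (Form r k d))).Over (Spec (CommRingCat.of k)) := ⟨secToSpec i ({H} : Set (Form r k d))⟩
    app_const' (secι i ({H} : Set (Form r k d))) rfl (piece i j) c
  φ := pform i j H
  surj := Scheme.Hom.app_surjective (secι i ({H} : Set (Form r k d))) _ (isAffineOpen_piece i j)
  ker := by
    show RingHom.ker ((secι i ({H} : Set (Form r k d))).app (piece i j)).hom = _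
    have h := secIdeal_piece i ({H} : Set (Form r k d)) j
    rw [Set.image_singleton] at h
    rw [← h]
    exact Scheme.IdealSheafData.ker_subschemeι_app _ ⟨piece i j, isAffineOpen_piece i j⟩

theorem isAffineOpen_secPiece [IsClosedImmersion i] (j : Fin (r + 1)) : IsAffineOpen (secPiece i H j) :=
  (isAffineOpen_piece i j).preimage _

theorem toStalk_eq (j : Fin (r + 1)) {y : Sec i ({H} : Set (Form r k d))} (hy : y ∈ secPiece i H j) (c : k) :
    toStalk k (secToSpec i ({H} : Set (Form r k d))) y c =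
      (Sec i ({H} : Set (Form r k d))).presheaf.germ (secPiece i H j) y hy (algebraMap k _ c) := by
  letI : (Sec i ({H} : Set (Form r k d))).Over (Spec (CommRingCat.of k)) := ⟨secToSpec i ({H} : Set (Form r k d))⟩
  show (Sec i ({H} : Set (Form r k d))).presheaf.germ ⊤ y trivial (Coh.toGlobal (secToSpec i ({H} : Set (Form r k d))) c) =
    (Sec i ({H} : Set (Form r k d))).presheaf.germ (secPiece i H j) y hy
      (((Scheme.ΓSpecIso (CommRingCat.of k)).inv ≫ Scheme.Hom.appLE _ ⊤ (secPiece i H j) le_top) c)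
  rw [← TopCat.Presheaf.germ_res_apply (Sec i ({H} : Set (Form r k d))).presheaf (homOfLE (le_top : secPiece i H j ≤ ⊤)) y hy]
  rfl

theorem exists_ringEquiv_stalk [IsClosedImmersion i] (j : Fin (r + 1)) {y : Sec i ({H} : Set (Form r k d))}
    (hy : y ∈ secPiece i H j) :
    ∃ e : (Sec i ({H} : Set (Form r k d))).presheaf.stalk y ≃+*
      Localization.AtPrime ((isAffineOpen_secPiece i H j).primeIdealOf ⟨y, hy⟩).asIdeal,
      ∀ c, e (toStalk k (secToSpec i ({H} : Set (Form r k d))) y c) = algebraMap k _ c := by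
  let V := secPiece i H j
  have hV := isAffineOpen_secPiece i H j
  let N := (hV.primeIdealOf ⟨y, hy⟩).asIdeal
  letI := TopCat.Presheaf.algebra_section_stalk (Sec i ({H} : Set (Form r k d))).presheaf (⟨y, hy⟩ : V)
  have hloc : IsLocalization.AtPrime ((Sec i ({H} : Set (Form r k d))).presheaf.stalk y) N := hV.isLocalization_stalk ⟨y, hy⟩
  refine ⟨(IsLocalization.algEquiv N.primeCompl ((Sec i ({H} : Set (Form r k d))).presheaf.stalk y)
    (Localization.AtPrime N)).toRingEquiv, fun c => ?_⟩
  rw [toStalk_eq i H j hy, IsScalarTower.algebraMap_apply k Γ(Sec i ({H} : Set (Form r k d)), V) (Localization.AtPrime N)]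
  exact (IsLocalization.algEquiv N.primeCompl _ _).commutes _

theorem smoothAt_iff [IsClosedImmersion i] (j : Fin (r + 1)) {y : Sec i ({H} : Set (Form r k d))}
    (hy : y ∈ secPiece i H j) :
    SmoothAt (secToSpec i ({H} : Set (Form r k d))) y ↔
      Algebra.IsSmoothAt k ((isAffineOpen_secPiece i H j).primeIdealOf ⟨y, hy⟩).asIdeal := by
  letI : (Sec i ({H} : Set (Form r k d))).Over (Spec (CommRingCat.of k)) := ⟨secToSpec i ({H} : Set (Form r k d))⟩
  let g := secToSpec i ({H} : Set (Form r k d))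
  rw [SmoothAt, formallySmooth_stalkMap_iff (f := g) ⊤ (isAffineOpen_top _) (secPiece i H j)
    (isAffineOpen_secPiece i H j) le_top hy]
  let R := Γ(Spec (CommRingCat.of k), ⊤)
  let T := Γ(Sec i ({H} : Set (Form r k d)), secPiece i H j)
  letI : Algebra R T := (g.appLE ⊤ (secPiece i H j) le_top).hom.toAlgebra
  letI : Algebra k R := (Scheme.ΓSpecIso (CommRingCat.of k)).inv.hom.toAlgebra
  have : IsScalarTower k R T := IsScalarTower.of_algebraMap_eq fun c => rfl
  have : Algebra.FormallyEtale k R := Algebra.FormallyEtale.of_equiv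
    (AlgEquiv.ofBijective (Algebra.ofId k R) (ConcreteCategory.bijective_of_isIso (Scheme.ΓSpecIso (CommRingCat.of k)).inv))
  let N := ((isAffineOpen_secPiece i H j).primeIdealOf ⟨y, hy⟩).asIdeal
  have : IsScalarTower k R (Localization.AtPrime N) := IsScalarTower.of_algebraMap_eq fun c => by
    rw [IsScalarTower.algebraMap_apply k T (Localization.AtPrime N),
      IsScalarTower.algebraMap_apply R T (Localization.AtPrime N)]
    rfl
  show Algebra.FormallySmooth R (Localization.AtPrime N) ↔ Algebra.FormallySmooth k (Localization.AtPrime N)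
  exact ⟨fun h => Algebra.FormallySmooth.comp k R _,
    fun h => Algebra.FormallySmooth.of_restrictScalars k R _⟩

theorem ker_eq_comap [IsClosedImmersion i] (j : Fin (r + 1)) {y : Sec i ({H} : Set (Form r k d))}
    (hy : y ∈ secPiece i H j) (χ : Γ(X, piece i j) →ₐ[k] k) (hχ : ptX i j χ = secι i ({H} : Set (Form r k d)) y) :
    RingHom.ker χ.toRingHom =
      ((isAffineOpen_secPiece i H j).primeIdealOf ⟨y, hy⟩).asIdeal.comap (sectOf i H j).π.toRingHom := by
  have hA := isAffineOpen_piece i j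
  have hV := isAffineOpen_secPiece i H j
  set q := hV.primeIdealOf ⟨y, hy⟩
  have h1 := IsAffineOpen.SpecMap_appLE_fromSpec (secι i ({H} : Set (Form r k d))) hA hV (le_refl _)
  have h2 := congrArg (fun f => f q) h1
  simp only [Scheme.Hom.comp_apply] at h2
  rw [hV.fromSpec_primeIdealOf ⟨y, hy⟩, ← hχ, ptX] at h2
  have h3 := congrArg PrimeSpectrum.asIdeal (hA.fromSpec.isOpenEmbedding.injective h2)
  rw [← Scheme.Hom.app_eq_appLE] at h3
  exact h3.symm

variable {n : ℕ}

/-- Smoothness of the section at a rational point. -/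
theorem smoothAt_point_iff [IsClosedImmersion i] [IsIntegral X] [SmoothOfRelativeDimension n (i ≫ CohB1.ProjSpace.toSpec r k)]
    (j : Fin (r + 1)) (χ : Γ(X, piece i j) →ₐ[k] k) {y : Sec i ({H} : Set (Form r k d))}
    (hχ : ptX i j χ = secι i ({H} : Set (Form r k d)) y) (hφ : pform i j H ≠ 0) :
    SmoothAt (secToSpec i ({H} : Set (Form r k d))) y ↔ ¬ Bad i j χ H := by
  have hy : y ∈ secPiece i H j := by show secι i ({H} : Set (Form r k d)) y ∈ piece i j; rw [← hχ]; exact ptX_mem i j χ
  have : Nonempty (piece i j) := ⟨⟨_, ptX_mem i j χ⟩⟩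
  have hsm : Algebra.Smooth k Γ(X, piece i j) :=
    (rankAtStalk_eq_of_locally (n := n) (A := Γ(X, piece i j)) (by
      rw [RingHom.algebraMap_toAlgebra]; exact locally_piece i j) (Nonempty.some inferInstance)).1
  have hN : (((isAffineOpen_secPiece i H j).primeIdealOf ⟨y, hy⟩).asIdeal).IsMaximal := by
    have hk := RingHom.ker_isMaximal_of_surjective _ (algHom_surjective i χ)
    exact isMaximal_of_comap _ (sectOf i H j).surj _ (ker_eq_comap i H j hy χ hχ ▸ hk)
  rw [smoothAt_iff i H j hy]
  exact (sectOf i H j).isSmoothAt_iff χ _ (ker_eq_comap i H j hy χ hχ) hφ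

/-- Ordinary quadratic points of the section. -/
theorem isOrdQuadSing_iff [IsAlgClosed k] [IsClosedImmersion i] {m : ℕ}
    [SmoothOfRelativeDimension (m + 1) (i ≫ CohB1.ProjSpace.toSpec r k)]
    (j : Fin (r + 1)) (χ : Γ(X, piece i j) →ₐ[k] k) {y : Sec i ({H} : Set (Form r k d))}
    (hχ : ptX i j χ = secι i ({H} : Set (Form r k d)) y) :
    IsOrdQuadSing k m (secToSpec i ({H} : Set (Form r k d))) y ↔ QuadAt (m + 1) χ (pform i j H) := by
  classical
  have hy : y ∈ secPiece i H j := by show secι i ({H} : Set (Form r k d)) y ∈ piece i j; rw [← hχ]; exact ptX_mem i j χ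
  have hker : RingHom.ker χ.toRingHom = _ := ker_eq_comap i H j hy χ hχ
  set N := ((isAffineOpen_secPiece i H j).primeIdealOf ⟨y, hy⟩).asIdeal
  have hN : N.IsMaximal := by
    have hk := RingHom.ker_isMaximal_of_surjective _ (algHom_surjective i χ)
    exact isMaximal_of_comap _ (sectOf i H j).surj _ (hker ▸ hk)
  have hA : RingHom.Locally (RingHom.IsStandardSmoothOfRelativeDimension (m + 1)) (algebraMap k Γ(X, piece i j)) := by
    rw [RingHom.algebraMap_toAlgebra]; exact locally_piece i j
  have hft : Algebra.FiniteType k Γ(X, piece i j) := ⟨Subalgebra.fg_def.2 ⟨_, Set.finite_range _, adjoin_pcoord i j⟩⟩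
  have : Algebra.FiniteType k Γ(Sec i ({H} : Set (Form r k d)), secPiece i H j) :=
    hft.of_surjective (sectOf i H j).π (sectOf i H j).surj
  have hyc : IsClosed ({y} : Set (Sec i ({H} : Set (Form r k d)))) := by
    have : Smooth (i ≫ CohB1.ProjSpace.toSpec r k) := SmoothOfRelativeDimension.smooth (m + 1) _
    have hinj : Function.Injective (secι i ({H} : Set (Form r k d))) :=
      (secι i ({H} : Set (Form r k d))).isClosedEmbedding.injective
    rw [← hinj.preimage_image {y}, Set.image_singleton, ← hχ]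
    exact (isClosed_ptX i j χ).preimage (secι i ({H} : Set (Form r k d))).continuous
  obtain ⟨e, he⟩ := exists_ringEquiv_stalk i H j hy
  letI : Algebra k ((Sec i ({H} : Set (Form r k d))).presheaf.stalk y) :=
    (toStalk k (secToSpec i ({H} : Set (Form r k d))) y).toAlgebra
  obtain ⟨E⟩ := nonempty_completion_equiv (AlgEquiv.ofRingEquiv (f := e) he)
  refine Iff.trans ?_ ((sectOf i H j).quadSing_iff χ N hker hA)
  constructor
  · rintro ⟨-, Q, Q₂, w, hw, hlow, hpart, hnd⟩
    let wA := AlgEquiv.ofRingEquiv (f := w) (fun c : k => (hw c).trans rfl)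
    refine ⟨Q, ⟨⟨?_, fun l => hlow _ (by simp)⟩, ?_⟩, ⟨E.symm.trans wA⟩⟩
    · rw [← MvPowerSeries.coeff_zero_eq_constantCoeff_apply]; exact hlow 0 (by simp)
    · refine quadOrd_of_eval_eq LinearMap.id Function.injective_id one_ne_zero (fun v => ?_)
        ((nondegQuad_iff Q₂).1 hnd)
      rw [one_mul]
      unfold VanCyc.quadEval
      refine Finset.sum_congr rfl fun a _ => Finset.sum_congr rfl fun b _ => ?_
      split_ifs with hab
      · have hc := hpart (QS97.pairExp a b) (by simp [QS97.pairExp, map_add])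
        rw [QS97.quadPart_eq Q hab, ← hc, formTable, QS97.quadPart_eq _ hab, MvPolynomial.coeff_coe]
        rfl
      · rfl
  · rintro ⟨f, ⟨hlow, hord⟩, ⟨w⟩⟩
    let G : Form m k 2 := ⟨VanCyc.quadPoly (VanCyc.quadPart f), (MvPolynomial.mem_homogeneousSubmodule _ _).2 (by
      unfold VanCyc.quadPoly
      refine MvPolynomial.IsHomogeneous.sum _ _ _ fun a _ => MvPolynomial.IsHomogeneous.sum _ _ _ fun b _ => ?_
      split_ifs
      · exact ((MvPolynomial.isHomogeneous_C _ _).mul (MvPolynomial.isHomogeneous_X k a)).mul (MvPolynomial.isHomogeneous_X k b)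
      · exact MvPolynomial.isHomogeneous_zero _ _ _)⟩
    have hcG : ∀ a b : Fin (m + 1), a ≤ b → formTable G a b = VanCyc.quadPart f a b := fun a b hab => by
      rw [formTable, QS97.quadPart_eq _ hab, QS97.coe_quadPoly, QS97.coeff_quadEval_pairExp _ hab]
    refine ⟨hyc, f, G, (E.trans w).toRingEquiv, fun c => ?_, fun e he' => ?_, fun e he' => ?_, ?_⟩
    · exact (E.trans w).commutes c
    · obtain hd0 | hd1 : e.degree = 0 ∨ e.degree = 1 := by omega
      · rw [(Finsupp.degree_eq_zero_iff e).1 hd0, MvPowerSeries.coeff_zero_eq_constantCoeff_apply]; exact hlow.1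
      · obtain ⟨l, rfl⟩ := QS97.exists_single hd1; exact hlow.2 l
    · obtain ⟨a, b, hab, rfl⟩ := QS97.exists_pairExp he'
      rw [← MvPolynomial.coeff_coe, QS97.coe_quadPoly, QS97.coeff_quadEval_pairExp _ hab, QS97.quadPart_eq f hab]
    · refine (nondegQuad_iff G).2 (quadOrd_of_eval_eq LinearMap.id Function.injective_id one_ne_zero (fun v => ?_) hord)
      rw [one_mul]
      unfold VanCyc.quadEval
      refine Finset.sum_congr rfl fun a _ => Finset.sum_congr rfl fun b _ => ?_
      split_ifs with hab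
      · rw [hcG a b hab]; rfl
      · rfl

theorem exists_sec_point [IsClosedImmersion i] (j : Fin (r + 1)) (χ : Γ(X, piece i j) →ₐ[k] k)
    (h : χ (pform i j H) = 0) :
    ∃ y : Sec i ({H} : Set (Form r k d)), secι i ({H} : Set (Form r k d)) y = ptX i j χ := by
  have hr : ptX i j χ ∈ (secIdeal i ({H} : Set (Form r k d))).support := by
    rw [Scheme.IdealSheafData.mem_support_iff_of_mem (U := ⟨piece i j, isAffineOpen_piece i j⟩) (ptX_mem i j χ)]
    have hI := secIdeal_piece i ({H} : Set (Form r k d)) j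
    rw [Set.image_singleton] at hI
    rw [hI, Scheme.zeroLocus_span, Scheme.mem_zeroLocus_iff]
    rintro a rfl hb
    exact (mem_basicOpen_ptX i j χ _).1 hb h
  have : ptX i j χ ∈ Set.range (secι i ({H} : Set (Form r k d))) := by
    rw [Scheme.IdealSheafData.range_subschemeι]; exact hr
  exact this

/-- The forms with exactly one singular point, an ordinary quadratic one. -/
theorem oneOrdQuad_iff [IsAlgClosed k] [IsClosedImmersion i] [IsIntegral X] {m : ℕ}
    [SmoothOfRelativeDimension (m + 1) (i ≫ CohB1.ProjSpace.toSpec r k)] :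
    OneOrdQuad k (m + 1) i H ↔
      ∃ (j : Fin (r + 1)) (χ : Γ(X, piece i j) →ₐ[k] k), QuadAt (m + 1) χ (pform i j H) ∧
        ∀ (l : Fin (r + 1)) (χ' : Γ(X, piece i l) →ₐ[k] k), Bad i l χ' H → ptX i l χ' = ptX i j χ := by
  have : Smooth (i ≫ CohB1.ProjSpace.toSpec r k) := SmoothOfRelativeDimension.smooth (m + 1) _
  have : JacobsonSpace X := LocallyOfFiniteType.jacobsonSpace (i ≫ CohB1.ProjSpace.toSpec r k)
  have hinj : Function.Injective (secι i ({H} : Set (Form r k d))) :=
    (secι i ({H} : Set (Form r k d))).isClosedEmbedding.injective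
  have hA : ∀ j, RingHom.Locally (RingHom.IsStandardSmoothOfRelativeDimension (m + 1)) (algebraMap k Γ(X, piece i j)) :=
    fun j => by rw [RingHom.algebraMap_toAlgebra]; exact locally_piece i j
  constructor
  · rintro ⟨y, hset, hy⟩
    obtain ⟨j, hj⟩ := ProjCoord.exists_mem_U k r (i (secι i ({H} : Set (Form r k d)) y))
    have hyc : IsClosed ({secι i ({H} : Set (Form r k d)) y} : Set X) := by
      rw [← Set.image_singleton]; exact (secι i ({H} : Set (Form r k d))).isClosedEmbedding.isClosedMap _ hy.1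
    obtain ⟨χ, hχ⟩ := exists_ptX i j (show secι i ({H} : Set (Form r k d)) y ∈ piece i j from hj) hyc
    have hq : QuadAt (m + 1) χ (pform i j H) := (isOrdQuadSing_iff i H j χ hχ).1 hy
    refine ⟨j, χ, hq, fun l χ' hb => ?_⟩
    obtain ⟨y', hy'⟩ := exists_sec_point i H l χ' hb.eval_eq_zero
    have hne : pform i l H ≠ 0 := pform_ne_zero i ⟨⟨_, ptX_mem i j χ⟩⟩ ⟨⟨_, ptX_mem i l χ'⟩⟩ (QuadAt.ne_zero (hA j) hq)
    have hns : ¬ SmoothAt (secToSpec i ({H} : Set (Form r k d))) y' := fun hs =>
      (smoothAt_point_iff (n := m + 1) i H l χ' hy'.symm hne).1 hs hb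
    have : y' = y := by
      by_contra hne'
      exact hns (hset.ge hne')
    rw [← hy', this, ← hχ]
  · rintro ⟨j, χ, hq, huniq⟩
    obtain ⟨y, hy⟩ := exists_sec_point i H j χ (show Bad i j χ H from hq.mem_sq).eval_eq_zero
    have hord : IsOrdQuadSing k ((m + 1) - 1) (secToSpec i ({H} : Set (Form r k d))) y :=
      (isOrdQuadSing_iff (m := m) i H j χ hy.symm).2 hq
    refine ⟨y, ?_, hord⟩
    have hφ := QuadAt.ne_zero (hA j) hq
    ext z
    simp only [Set.mem_compl_iff, Set.mem_singleton_iff]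
    constructor
    · rintro hz rfl
      exact (smoothAt_point_iff (n := m + 1) i H j χ hy.symm hφ).1 hz hq.mem_sq
    · intro hzy
      by_contra hz
      have hft : LocallyOfFiniteType (secToSpec i ({H} : Set (Form r k d))) := by
        show LocallyOfFiniteType (_ ≫ i ≫ CohB1.ProjSpace.toSpec r k)
        infer_instance
      have : JacobsonSpace (Sec i ({H} : Set (Form r k d))) :=
        LocallyOfFiniteType.jacobsonSpace (secToSpec i ({H} : Set (Form r k d)))
      have : LocallyOfFinitePresentation (secToSpec i ({H} : Set (Form r k d))) :=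
        LocallyOfFinitePresentation.iff_locallyOfFiniteType.2 hft
      have hcl : IsClosed {w | ¬ SmoothAt (secToSpec i ({H} : Set (Form r k d))) w} :=
        (Scheme.Hom.isOpen_smoothLocus (f := secToSpec i ({H} : Set (Form r k d)))).isClosed_compl
      have hsub : closure ({z} : Set (Sec i ({H} : Set (Form r k d)))) ⊆ {y} := by
        rw [← closure_inter_closedPoints isClosed_closure]
        refine closure_minimal ?_ hord.1
        rintro w ⟨hwz, hwc⟩
        have hwns : ¬ SmoothAt (secToSpec i ({H} : Set (Form r k d))) w :=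
          hcl.closure_subset_iff.2 (Set.singleton_subset_iff.2 hz) hwz
        obtain ⟨l, hl⟩ := ProjCoord.exists_mem_U k r (i (secι i ({H} : Set (Form r k d)) w))
        have hwc' : IsClosed ({secι i ({H} : Set (Form r k d)) w} : Set X) := by
          rw [← Set.image_singleton]
          exact (secι i ({H} : Set (Form r k d))).isClosedEmbedding.isClosedMap _ hwc
        obtain ⟨χ', hχ'⟩ := exists_ptX i l (show secι i ({H} : Set (Form r k d)) w ∈ piece i l from hl) hwc'
        have hne : pform i l H ≠ 0 := pform_ne_zero i ⟨⟨_, ptX_mem i j χ⟩⟩ ⟨⟨_, ptX_mem i l χ'⟩⟩ hφ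
        have hb : Bad i l χ' H := by
          by_contra hb
          exact hwns ((smoothAt_point_iff (n := m + 1) i H l χ' hχ' hne).2 hb)
        exact hinj (hχ'.symm.trans ((huniq l χ' hb).trans hy.symm))
      exact hzy (hsub (subset_closure rfl))

end Section

end Groth.Agent.An92.Lef
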