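import Groth.Agent.An92.Lef.Diag
import Groth.Agent.An92.Lef.PolyFn
import Groth.Agent.An92.Lef.Singular

/-! Among the forms cutting non-transversally, those with a single ordinary quadratic point are open. -/

universe u

open CategoryTheory CategoryTheory.Limits AlgebraicGeometry Opposite TopologicalSpace
open scoped TensorProduct

noncomputable section

set_option backward.isDefEq.respectTransparency false

namespace Groth.Agent.An92.Lef

open LefPen Groth.Agent.Var76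

theorem exists_polyFn_evalPair {k A : Type u} [Field k] [CommRing A] [Algebra k A] {ι : Type}
    (y : ι → A) (hy : Algebra.adjoin k (Set.range y) = ⊤) (G : A ⊗[k] A) :
    ∃ F : (ι ⊕ ι → k) → k, PolyFn F ∧
      ∀ χ χ' : A →ₐ[k] k, F (Sum.elim (fun t => χ (y t)) (fun t => χ' (y t))) = evalPair χ χ' G := by
  have hs : Function.Surjective (MvPolynomial.aeval (R := k) y) := by
    rw [← AlgHom.range_eq_top, ← Algebra.adjoin_range_eq_range_aeval, hy]
  induction G using TensorProduct.induction_on with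
  | zero => exact ⟨fun _ => 0, .const 0, fun χ χ' => (map_zero _).symm⟩
  | tmul a b =>
    obtain ⟨P, rfl⟩ := hs a
    obtain ⟨Q, rfl⟩ := hs b
    refine ⟨fun x => MvPolynomial.eval (fun t => x (.inl t)) P * MvPolynomial.eval (fun t => x (.inr t)) Q,
      ((PolyFn.comp ⟨P, fun _ => rfl⟩ fun t => .proj _).mul (PolyFn.comp ⟨Q, fun _ => rfl⟩ fun t => .proj _)),
      fun χ χ' => ?_⟩
    have h : ∀ (ξ : A →ₐ[k] k) R, ξ (MvPolynomial.aeval y R) = MvPolynomial.eval (fun t => ξ (y t)) R := fun ξ R => by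
      rw [← AlgHom.comp_apply, MvPolynomial.comp_aeval, MvPolynomial.aeval_eq_eval]
    simp [evalPair, h]
  | add a b ha hb =>
    obtain ⟨F, hF, hF'⟩ := ha
    obtain ⟨G, hG, hG'⟩ := hb
    exact ⟨fun x => F x + G x, hF.add hG, fun χ χ' => by simp only [map_add, hF', hG']⟩

variable {k : Type u} [Field k] {r : ℕ} {X : Scheme.{u}} (i : X ⟶ CohB1.ProjSpace r k)

theorem pform_eq_smul_sum (j : Fin (r + 1)) {d : ℕ} (H : Form r k d) :
    pform i j H = ∑ β : Expo r d, formCoeff β H • pform i j (monoForm (k := k) β) := by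
  conv_lhs => rw [pform_eq_sum i j H]
  exact Finset.sum_congr rfl fun β _ => (Algebra.smul_def _ _).symm

theorem badAt_smul {d : ℕ} {v : Fin (r + 1) → k} {H : Form r k d} {t : k} (ht : t ≠ 0) (h : BadAt i v H) :
    BadAt i (t • v) H := by
  obtain ⟨j, χ, hj, hχ, hb⟩ := h
  exact ⟨j, χ, by simp [ht, hj], fun l => by simp [mul_assoc, hχ l], hb⟩

theorem exists_badEq [IsClosedImmersion i] [IsAlgClosed k] {n : ℕ}
    [SmoothOfRelativeDimension n (i ≫ CohB1.ProjSpace.toSpec r k)] {d : ℕ} (v₀ : Fin (r + 1) → k)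
    (c₀ : Expo r d → k) (hv₀ : v₀ ≠ 0) (h : ¬ BadAt i v₀ (formEquiv.symm c₀)) :
    ∃ f : (Fin (r + 1) ⊕ Expo r d → k) → k, PolyFn f ∧ f (Sum.elim v₀ c₀) ≠ 0 ∧
      ∀ v c, v = 0 ∨ BadAt i v (formEquiv.symm c) → f (Sum.elim v c) = 0 := by
  obtain ⟨j, hj⟩ : ∃ j, v₀ j ≠ 0 := by
    by_contra hc
    push Not at hc
    exact hv₀ (funext hc)
  obtain ⟨G, hG0, hG⟩ := exists_sep (n := n) i j (fun t => v₀ t / v₀ j) (formEquiv.symm c₀) (by
    rintro ⟨χ, hχ, hb⟩
    exact h ⟨j, χ, hj, fun t => by rw [hχ t, mul_div_cancel₀ _ hj], hb⟩)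
  let P := (MvPolynomial.sumAlgEquiv k (Fin (r + 1)) (Expo r d)).symm G
  obtain ⟨g, hg, hgz⟩ := exists_chartLift j (f := fun x => MvPolynomial.eval x P) ⟨P, fun _ => rfl⟩
  have hP : ∀ v c, MvPolynomial.eval (Sum.elim v c) P = MvPolynomial.eval v (spec c G) := fun v c => by
    rw [← eval_sumAlgEquiv, AlgEquiv.apply_symm_apply]
  refine ⟨g, hg, fun he => ?_, fun v c hvc => (hgz v c).2 ?_⟩
  · rcases (hgz _ _).1 he with h0 | h0
    · exact hj h0
    · rw [hP] at h0
      rw [formEquiv_coeff] at hG0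
      exact hG0 h0
  · by_cases hv : v j = 0
    · exact .inl hv
    rcases hvc with rfl | hb
    · exact absurd rfl hv
    refine .inr ?_
    obtain ⟨χ, hχ, hb⟩ := hb.chart i hv
    have := hG χ _ hb
    rw [formEquiv_coeff] at this
    rw [hP, show (fun t => v t / v j) = fun t => χ (pcoord i j t) from funext fun t => by
      rw [← hχ t, mul_div_cancel_left₀ _ hv]]
    exact this

/-- No two tangency points outside an open set around the diagonal. -/
theorem exists_pair_elim [IsClosedImmersion i] [IsAlgClosed k] {n : ℕ}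
    [SmoothOfRelativeDimension n (i ≫ CohB1.ProjSpace.toSpec r k)] {d : ℕ} (j : Fin (r + 1))
    (h : ((Fin (r + 1) ⊕ Fin (r + 1)) ⊕ Expo r d → k) → k) (hh : PolyFn h) (H₀ : Form r k d)
    (h₀ : ∀ v w, BadAt i v H₀ → BadAt i w H₀ → v j ≠ 0 ∧ w j ≠ 0 ∧
      h (Sum.elim (Sum.elim (fun t => v t / v j) (fun t => w t / w j)) (fun β => formCoeff β H₀)) ≠ 0) :
    ∃ f : Form r k d → k, IsPolyFun k f ∧ f H₀ ≠ 0 ∧ ∀ H, f H ≠ 0 →
      ∀ v w, BadAt i v H → BadAt i w H → v j ≠ 0 ∧ w j ≠ 0 ∧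
        h (Sum.elim (Sum.elim (fun t => v t / v j) (fun t => w t / w j)) (fun β => formCoeff β H)) ≠ 0 := by
  classical
  let E : (Fin (r + 1) → k) → (Fin (r + 1) → k) → (Expo r d → k) → Prop := fun v w c =>
    v j = 0 ∨ w j = 0 ∨ h (Sum.elim (Sum.elim (fun t => v t / v j) (fun t => w t / w j)) c) = 0
  obtain ⟨g1, hg1, hg1z⟩ := exists_chartLift (σ := Fin (r + 1) ⊕ Expo r d) j
    (f := fun x => h (Sum.elim (Sum.elim (fun t => x (.inr (.inl t))) (fun t => x (.inl t))) (fun β => x (.inr (.inr β)))))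
    (hh.comp fun t => by rcases t with (t | t) | t <;> exact .proj _)
  obtain ⟨g2, hg2, hg2z⟩ := exists_chartLift (σ := Fin (r + 1) ⊕ Expo r d) j
    (f := fun x => g1 (Sum.elim (fun t => x (.inr (.inl t))) (Sum.elim (fun t => x (.inl t)) (fun β => x (.inr (.inr β))))))
    (hg1.comp fun t => by rcases t with t | (t | t) <;> exact .proj _)
  have hE : ∀ v w c, g2 (Sum.elim v (Sum.elim w c)) = 0 ↔ E v w c := fun v w c => by
    rw [hg2z]; simp only [Sum.elim_inr, Sum.elim_inl, hg1z]; exact Iff.rfl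
  have hEsmul : ∀ v w c (s t : k), s ≠ 0 → t ≠ 0 → E v w c → E (s • v) (t • w) c := by
    intro v w c s t hs ht hvw
    simpa [E, hs, ht, mul_div_mul_left] using hvw
  let Z' : (Fin (r + 1) → k) → (Fin (r + 1) ⊕ Expo r d → k) → Prop := fun w s =>
    w ≠ 0 ∧ ((fun t => s (.inl t)) = 0 ∨ (BadAt i (fun t => s (.inl t)) (formEquiv.symm fun β => s (.inr β)) ∧
      BadAt i w (formEquiv.symm fun β => s (.inr β)) ∧ E (fun t => s (.inl t)) w (fun β => s (.inr β))))
  let Z'' : (Fin (r + 1) → k) → (Expo r d → k) → Prop := fun v c => v ≠ 0 ∧ ∃ w, Z' w (Sum.elim v c)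
  have step1 : ∀ v₀ c₀, v₀ ≠ 0 → ¬ Z'' v₀ c₀ → ∃ f : (Fin (r + 1) ⊕ Expo r d → k) → k,
      PolyFn f ∧ (∀ v c, Z'' v c → f (Sum.elim v c) = 0) ∧ f (Sum.elim v₀ c₀) ≠ 0 := by
    intro v₀ c₀ hv₀ hnZ
    obtain ⟨f, hf, hf0, hfZ⟩ := exists_elim_cone Z' (fun w s hw => hw.1) (fun w s t ht ⟨hw, hw'⟩ =>
        ⟨smul_ne_zero ht hw, hw'.imp_right fun ⟨ha, hb, hc⟩ =>
          ⟨ha, badAt_smul i ht hb, by
            have := hEsmul (fun t => s (.inl t)) w (fun β => s (.inr β)) 1 t one_ne_zero ht hc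
            rwa [one_smul] at this⟩⟩)
      (fun w₁ s₁ hw₁ hn => by
        have hn' : ¬ ((fun t => s₁ (.inl t)) = 0 ∨ (BadAt i (fun t => s₁ (.inl t)) (formEquiv.symm fun β => s₁ (.inr β)) ∧
          BadAt i w₁ (formEquiv.symm fun β => s₁ (.inr β)) ∧ E (fun t => s₁ (.inl t)) w₁ (fun β => s₁ (.inr β)))) :=
          fun hh => hn ⟨hw₁, hh⟩
        push Not at hn'
        obtain ⟨hv1, hn'⟩ := hn'
        by_cases ha : BadAt i (fun t => s₁ (.inl t)) (formEquiv.symm fun β => s₁ (.inr β))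
        swap
        · obtain ⟨f, hf, hf0, hfz⟩ := exists_badEq (n := n) i _ _ hv1 ha
          refine ⟨fun x => f fun t => x (.inr t), hf.comp fun t => .proj _, fun w s hZ => ?_, ?_⟩
          · have := hfz (fun t => s (.inl t)) (fun β => s (.inr β)) (hZ.2.imp_right fun hx => hx.1)
            simp only [Sum.elim_inr]
            rwa [show s = Sum.elim (fun t => s (.inl t)) (fun β => s (.inr β)) from funext fun x => by cases x <;> rfl]
          · simp only [Sum.elim_inr]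
            rwa [show s₁ = Sum.elim (fun t => s₁ (.inl t)) (fun β => s₁ (.inr β)) from funext fun x => by cases x <;> rfl]
        obtain ⟨t₀, ht₀⟩ : ∃ t, s₁ (.inl t) ≠ 0 := by
          by_contra hc
          push Not at hc
          exact hv1 (funext hc)
        by_cases hb : BadAt i w₁ (formEquiv.symm fun β => s₁ (.inr β))
        swap
        · obtain ⟨f, hf, hf0, hfz⟩ := exists_badEq (n := n) i _ _ hw₁ hb
          refine ⟨fun x => x (.inr (.inl t₀)) * f (Sum.elim (fun t => x (.inl t)) (fun β => x (.inr (.inr β)))),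
            (PolyFn.proj _).mul (hf.comp fun t => by rcases t with t | t <;> exact .proj _), fun w s hZ => ?_, ?_⟩
          · rcases hZ.2 with h0 | ⟨-, hbw, -⟩
            · simp [show s (.inl t₀) = 0 from congrFun h0 t₀]
            · simp [hfz w _ (.inr hbw)]
          · simpa using mul_ne_zero ht₀ hf0
        refine ⟨fun x => g2 (Sum.elim (fun t => x (.inr (.inl t))) (Sum.elim (fun t => x (.inl t)) (fun β => x (.inr (.inr β))))),
          hg2.comp fun t => by rcases t with t | (t | t) <;> exact .proj _, fun w s hZ => ?_, ?_⟩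
        · simp only [Sum.elim_inl, Sum.elim_inr]
          refine (hE _ _ _).2 ?_
          rcases hZ.2 with h0 | ⟨-, -, he⟩
          · exact .inl (congrFun h0 j)
          · exact he
        · simp only [Sum.elim_inl, Sum.elim_inr]
          exact fun he => hn' ha hb ((hE _ _ _).1 he))
      (Sum.elim v₀ c₀) (fun w hw => hnZ ⟨hv₀, w, hw⟩)
    refine ⟨f, hf, fun v c ⟨_, w, hw⟩ => ?_, hf0⟩
    by_contra hne
    exact hfZ _ hne w hw
  obtain ⟨f, hf, hf0, hfZ⟩ := exists_elim_cone Z'' (fun v c hv => hv.1) (fun v c t ht ⟨hv, w, hw, hw'⟩ => by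
      refine ⟨smul_ne_zero ht hv, w, hw, ?_⟩
      simp only [Sum.elim_inl, Sum.elim_inr] at hw' ⊢
      rcases hw' with h0 | ⟨ha, hb, hc⟩
      · exact absurd h0 hv
      · refine .inr ⟨badAt_smul i ht ha, hb, ?_⟩
        have := hEsmul v w c t 1 ht one_ne_zero hc
        rwa [one_smul] at this)
    step1 (fun β => formCoeff β H₀) (fun v hv => by
      obtain ⟨hv0, w, -, hw⟩ := hv
      simp only [Sum.elim_inl, Sum.elim_inr] at hw
      rcases hw with hz | ⟨ha, hb, hc⟩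
      · exact hv0 hz
      · rw [show formEquiv.symm (fun β => formCoeff β H₀) = H₀ from formEquiv.symm_apply_apply H₀] at ha hb
        obtain ⟨h1, h2, h3⟩ := h₀ v w ha hb
        exact hc.elim h1 (·.elim h2 h3))
  obtain ⟨P, hP⟩ := hf
  refine ⟨fun H => MvPolynomial.eval (fun β => formCoeff β H) P, isPolyFun_eval _ _, by simp only [hP]; exact hf0, fun H hH v w ha hb => ?_⟩
  simp only [hP] at hH
  have hne : ∀ {u : Fin (r + 1) → k}, BadAt i u H → u ≠ 0 := fun ⟨l, _, hl, _⟩ hu => hl (by rw [hu]; rfl)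
  have := hfZ _ hH v
  by_contra hc
  refine this ⟨hne ha, w, hne hb, ?_⟩
  simp only [Sum.elim_inl, Sum.elim_inr,
    show formEquiv.symm (fun β => formCoeff β H) = H from formEquiv.symm_apply_apply H]
  refine .inr ⟨ha, hb, ?_⟩
  by_contra hE'
  simp only [E, not_or] at hE'
  exact hc hE'

/-- Around a form with one ordinary quadratic point, the non-transversal forms all have one. -/
theorem exists_oneOrdQuad_nbhd [IsClosedImmersion i] [IsAlgClosed k] [IsIntegral X] {m : ℕ}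
    [SmoothOfRelativeDimension (m + 1) (i ≫ CohB1.ProjSpace.toSpec r k)] {d : ℕ} (H₀ : Form r k d)
    (hH₀ : OneOrdQuad k (m + 1) i H₀) :
    ∃ f : Form r k d → k, IsPolyFun k f ∧ f H₀ ≠ 0 ∧ ∀ H : Form r k d,
      ¬ Transversal k (m + 1) 1 (secToSpec i ({H} : Set (Form r k d))) → f H ≠ 0 → OneOrdQuad k (m + 1) i H := by
  classical
  have : Smooth (i ≫ CohB1.ProjSpace.toSpec r k) := SmoothOfRelativeDimension.smooth (m + 1) _
  obtain ⟨j, χ₀, hq₀, huniq₀⟩ := (oneOrdQuad_iff i H₀).1 hH₀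
  have hA : RingHom.Locally (RingHom.IsStandardSmoothOfRelativeDimension (m + 1)) (algebraMap k Γ(X, piece i j)) := by
    rw [RingHom.algebraMap_toAlgebra]; exact locally_piece i j
  have hsm : Algebra.Smooth k Γ(X, piece i j) :=
    (rankAtStalk_eq_of_locally hA ⟨RingHom.ker χ₀.toRingHom, RingHom.ker_isPrime _⟩).1
  let y := pcoord i j
  have hy : Algebra.adjoin k (Set.range y) = ⊤ := adjoin_pcoord i j
  obtain ⟨S⟩ := exists_diagData (k := k) y hy fun β : Expo r d => pform i j (monoForm (k := k) β)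
  choose FY hFY hFY' using fun a b c => exists_polyFn_evalPair y hy (S.GY a b c)
  choose F1 hF1 hF1' using fun a b c => exists_polyFn_evalPair y hy (S.G1 a b c)
  choose F2 hF2 hF2' using fun a b c => exists_polyFn_evalPair y hy (S.G2 a b c)
  have hsurj : Function.Surjective (MvPolynomial.aeval (R := k) y) := by
    rw [← AlgHom.range_eq_top, ← Algebra.adjoin_range_eq_range_aeval, hy]
  choose P hP using fun l a => hsurj (S.Δ l (y a))
  let tM : Fin (r + 1) → Fin (r + 1) → ((Fin (r + 1) ⊕ Fin (r + 1)) ⊕ Expo r d → k) → k := fun a l s =>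
    MvPolynomial.eval (fun t => s (.inl (.inl t))) (P l a) +
      ∑ b, FY a l b (fun t => s (.inl t)) * (s (.inl (.inr b)) - s (.inl (.inl b)))
  let mM : Fin (r + 1) → Fin (r + 1) → ((Fin (r + 1) ⊕ Fin (r + 1)) ⊕ Expo r d → k) → k := fun a l s =>
    ∑ e, s (.inr e) * F1 a e l (fun t => s (.inl t))
  let nM : Fin (r + 1) → Fin (r + 1) → ((Fin (r + 1) ⊕ Fin (r + 1)) ⊕ Expo r d → k) → k := fun a b s =>
    ∑ e, s (.inr e) * F2 e a b (fun t => s (.inl t))
  have htM : ∀ a l, PolyFn (tM a l) := fun a l =>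
    (PolyFn.comp ⟨P l a, fun _ => rfl⟩ fun t => .proj _).add
      (.sum _ fun b _ => ((hFY a l b).comp fun t => .proj _).mul ((PolyFn.proj _).sub (.proj _)))
  have hmM : ∀ a l, PolyFn (mM a l) := fun a l =>
    .sum _ fun e _ => (PolyFn.proj _).mul ((hF1 a e l).comp fun t => .proj _)
  have hnM : ∀ a l, PolyFn (nM a l) := fun a l =>
    .sum _ fun e _ => (PolyFn.proj _).mul ((hF2 e a l).comp fun t => .proj _)
  let Sys : (Fin (r + 1) → k) → ((Fin (r + 1) ⊕ Fin (r + 1)) ⊕ Expo r d → k) → Prop := fun δ s =>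
    δ ≠ 0 ∧ (∀ a, δ a = ∑ l, tM a l s * δ l) ∧ (∀ a, ∑ l, mM a l s * δ l = 0) ∧
      (∑ a, ∑ b, nM a b s * (δ a * δ b) = 0)
  have hSys : ∀ δ (χ χ' : Γ(X, piece i j) →ₐ[k] k) (c : Expo r d → k),
      Sys δ (Sum.elim (Sum.elim (fun t => χ (y t)) (fun t => χ' (y t))) c) ↔ δ ≠ 0 ∧ S.Sol c χ χ' δ := by
    intro δ χ χ' c
    have h1 : ∀ R, MvPolynomial.eval (fun t => χ (y t)) R = χ (MvPolynomial.aeval y R) := fun R => by
      rw [← AlgHom.comp_apply, MvPolynomial.comp_aeval, MvPolynomial.aeval_eq_eval]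
    simp only [Sys, DiagData.Sol, DiagData.tMat, tM, mM, nM, Sum.elim_inl, Sum.elim_inr, hFY', hF1', hF2', h1, hP]
  obtain ⟨h, hh, hh0, hhS⟩ := exists_elim_cone Sys (fun δ s hδ => hδ.1)
    (fun δ s t ht ⟨h0, h1, h2, h3⟩ => by
      refine ⟨smul_ne_zero ht h0, fun a => ?_, fun a => ?_, ?_⟩
      · simp only [Pi.smul_apply, smul_eq_mul]
        rw [h1 a, Finset.mul_sum]
        exact Finset.sum_congr rfl fun l _ => by ring
      · simp only [Pi.smul_apply, smul_eq_mul, mul_left_comm _ t, ← Finset.mul_sum, h2 a, mul_zero]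
      · simp only [Pi.smul_apply, smul_eq_mul]
        calc _ = t * t * ∑ a, ∑ b, nM a b s * (δ a * δ b) := by
              simp only [Finset.mul_sum]
              exact Finset.sum_congr rfl fun a _ => Finset.sum_congr rfl fun b _ => by ring
          _ = 0 := by rw [h3, mul_zero])
    (fun δ₁ s₁ hδ₁ hn => by
      have hcomp : ∀ {φ : ((Fin (r + 1) ⊕ Fin (r + 1)) ⊕ Expo r d → k) → k}, PolyFn φ →
          PolyFn fun x : Fin (r + 1) ⊕ ((Fin (r + 1) ⊕ Fin (r + 1)) ⊕ Expo r d) → k => φ fun t => x (.inr t) :=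
        fun hφ => hφ.comp fun t => .proj _
      by_cases h1 : ∀ a, δ₁ a = ∑ l, tM a l s₁ * δ₁ l
      swap
      · push Not at h1
        obtain ⟨a, ha⟩ := h1
        refine ⟨fun x => x (.inl a) - ∑ l, tM a l (fun t => x (.inr t)) * x (.inl l),
          (PolyFn.proj _).sub (.sum _ fun l _ => (hcomp (htM a l)).mul (.proj _)), fun δ s hZ => ?_, ?_⟩
        · simp only [Sum.elim_inl, Sum.elim_inr]
          exact sub_eq_zero.2 (hZ.2.1 a)
        · simp only [Sum.elim_inl, Sum.elim_inr]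
          exact sub_ne_zero.2 ha
      by_cases h2 : ∀ a, ∑ l, mM a l s₁ * δ₁ l = 0
      swap
      · push Not at h2
        obtain ⟨a, ha⟩ := h2
        refine ⟨fun x => ∑ l, mM a l (fun t => x (.inr t)) * x (.inl l),
          .sum _ fun l _ => (hcomp (hmM a l)).mul (.proj _), fun δ s hZ => ?_, ?_⟩
        · simp only [Sum.elim_inl, Sum.elim_inr]
          exact hZ.2.2.1 a
        · simp only [Sum.elim_inl, Sum.elim_inr]
          exact ha
      refine ⟨fun x => ∑ a, ∑ b, nM a b (fun t => x (.inr t)) * (x (.inl a) * x (.inl b)),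
        .sum _ fun a _ => .sum _ fun b _ => (hcomp (hnM a b)).mul ((PolyFn.proj _).mul (.proj _)),
        fun δ s hZ => ?_, ?_⟩
      · simp only [Sum.elim_inl, Sum.elim_inr]
        exact hZ.2.2.2
      · simp only [Sum.elim_inl, Sum.elim_inr]
        exact fun h3 => hn ⟨hδ₁, h1, h2, h3⟩)
    (Sum.elim (Sum.elim (fun t => χ₀ (y t)) (fun t => χ₀ (y t))) fun β => formCoeff β H₀)
    (fun δ hδ => by
      obtain ⟨hne, hsol⟩ := (hSys _ _ _ _).1 hδ
      refine hne ((S.quadAt_iff hy hA _ χ₀ ?_).1 ?_ δ hsol)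
      · rw [← pform_eq_smul_sum]; exact hq₀.mem_sq
      · rw [← pform_eq_smul_sum]; exact hq₀)
  have hcoord : ∀ v, BadAt i v H₀ → v j ≠ 0 ∧ (fun t => v t / v j) = fun t => χ₀ (y t) := by
    rintro v ⟨l, χ, hl, hχ, hb⟩
    have hp := huniq₀ l χ hb
    obtain ⟨hne, hc⟩ : χ (pcoord i l j) ≠ 0 ∧ ∀ t, χ (pcoord i l j) * χ₀ (pcoord i j t) = χ (pcoord i l t) :=
      coord_of_ptX_eq i hp.symm
    have hvj : v j ≠ 0 := by rw [← hχ j]; exact mul_ne_zero hl hne
    refine ⟨hvj, funext fun t => ?_⟩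
    rw [← hχ t, ← hχ j, ← hc t, mul_div_mul_left _ _ hl, mul_div_cancel_left₀ _ hne]
  obtain ⟨f, hf, hf0, hfP⟩ := exists_pair_elim (n := m + 1) i j h hh H₀ fun v w ha hb => by
    obtain ⟨hv, hv'⟩ := hcoord v ha
    obtain ⟨hw, hw'⟩ := hcoord w hb
    exact ⟨hv, hw, by rw [hv', hw']; exact hh0⟩
  refine ⟨f, hf, hf0, fun H hnt hH => ?_⟩
  obtain ⟨v, hv⟩ := (not_transversal_iff_badAt i (Nat.le_add_left 1 m) H).1 hnt
  obtain ⟨hvj, -, hhv⟩ := hfP H hH v v hv hv
  obtain ⟨χ, hχ, hb⟩ := hv.chart i hvj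
  have hvc : (fun t => v t / v j) = fun t => χ (y t) := funext fun t => by
    rw [← hχ t, mul_div_cancel_left₀ _ hvj]
  rw [hvc] at hhv
  have hmem : ∀ {ξ : Γ(X, piece i j) →ₐ[k] k}, Bad i j ξ H →
      ∑ β, formCoeff β H • pform i j (monoForm (k := k) β) ∈ RingHom.ker ξ.toRingHom ^ 2 := fun {ξ} hξ => by
    rw [← pform_eq_smul_sum]; exact hξ
  have hq : QuadAt (m + 1) χ (pform i j H) := by
    rw [pform_eq_smul_sum]
    refine (S.quadAt_iff hy hA _ χ (hmem hb)).2 fun δ hδ => ?_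
    by_contra hne
    exact hhS _ hhv δ ((hSys _ _ _ _).2 ⟨hne, hδ⟩)
  refine (oneOrdQuad_iff i H).2 ⟨j, χ, hq, fun l χ' hb' => ?_⟩
  let w : Fin (r + 1) → k := fun t => χ' (pcoord i l t)
  have hwl : w l = 1 := algHom_pcoord_self i χ'
  have hw : BadAt i w H := ⟨l, χ', by rw [hwl]; exact one_ne_zero, fun t => by rw [hwl, one_mul], hb'⟩
  obtain ⟨-, hwj, hh'⟩ := hfP H hH v w hv hw
  obtain ⟨χ'', hχ'', hb''⟩ := hw.chart i hwj
  rw [hvc, show (fun t => w t / w j) = fun t => χ'' (y t) from funext fun t => by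
    rw [← hχ'' t, mul_div_cancel_left₀ _ hwj]] at hh'
  have heq : ∀ t, χ'' (y t) = χ (y t) := by
    by_contra hne
    push Not at hne
    obtain ⟨t, ht⟩ := hne
    refine hhS _ hh' _ ((hSys _ _ _ _).2 ⟨fun h0 => ?_, S.sol_sub _ χ χ'' (hmem hb) (hmem hb'')⟩)
    exact ht (sub_eq_zero.1 (congrFun h0 t))
  refine (ptX_eq_of_coord i (v := w) (j := j) (l := l) hwj (by rw [hwl]; exact one_ne_zero) (fun t => ?_)
    (fun t => by rw [hwl, one_mul])).symm
  rw [← heq t]
  exact hχ'' t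

end Groth.Agent.An92.Lef
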