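import Groth.Agent.An92.Lef.Near
import Groth.Agent.An92.Lef.Family
import Groth.Agent.An92.Lef.Irred
import Mathlib.LinearAlgebra.LinearIndependent.Lemmas

/-! The pairs of forms spanning Lefschetz pencils form an open set. -/

universe u

open CategoryTheory CategoryTheory.Limits AlgebraicGeometry Opposite TopologicalSpace

noncomputable section

set_option backward.isDefEq.respectTransparency false

namespace Groth.Agent.An92.Lef

open LefPen Groth.Agent.Var76

variable {k : Type u} [Field k] {r : ℕ} {X : Scheme.{u}} (i : X ⟶ CohB1.ProjSpace r k) {d : ℕ}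

theorem pform_smul (j : Fin (r + 1)) (t : k) (H : Form r k d) : pform i j (t • H) = t • pform i j H := by
  simp only [pform_eq_aeval, Submodule.coe_smul, map_smul]

theorem pform_add (j : Fin (r + 1)) (F G : Form r k d) : pform i j (F + G) = pform i j F + pform i j G := by
  simp only [pform_eq_aeval, Submodule.coe_add, map_add]

variable {i} in
theorem Bad.smul {j : Fin (r + 1)} {χ : Γ(X, piece i j) →ₐ[k] k} {H : Form r k d} (t : k) (h : Bad i j χ H) :
    Bad i j χ (t • H) := by
  unfold Bad at h ⊢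
  rw [pform_smul, Algebra.smul_def]
  exact Ideal.mul_mem_left _ _ h

theorem BadAt.smulForm {v : Fin (r + 1) → k} {H : Form r k d} (t : k) (h : BadAt i v H) : BadAt i v (t • H) := by
  obtain ⟨j, χ, hj, hχ, hb⟩ := h
  exact ⟨j, χ, hj, hχ, hb.smul t⟩

theorem QuadAt.smul {A : Type u} [CommRing A] [Algebra k A] {n : ℕ} {χ : A →ₐ[k] k} {φ : A} {t : k} (ht : t ≠ 0)
    (h : QuadAt n χ φ) : QuadAt n χ (t • φ) := by
  obtain ⟨u, q, hu, hq, hφ⟩ := h
  refine ⟨u, fun a b => t * q a b, hu, quadOrd_of_eval_eq LinearMap.id Function.injective_id ht (fun v => ?_) hq, ?_⟩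
  · simp only [VanCyc.quadEval, Finset.mul_sum, LinearMap.id_apply, mul_ite, mul_zero, mul_assoc]
  · rw [show t • φ - VanCyc.quadEval (fun a b => algebraMap k A (t * q a b)) u =
      algebraMap k A t * (φ - VanCyc.quadEval (fun a b => algebraMap k A (q a b)) u) by
      simp only [Algebra.smul_def, mul_sub, VanCyc.quadEval, Finset.mul_sum, mul_ite, mul_zero, map_mul, mul_assoc]]
    exact Ideal.mul_mem_left _ _ hφ

theorem oneOrdQuad_smul [IsAlgClosed k] [IsClosedImmersion i] [IsIntegral X] {m : ℕ}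
    [SmoothOfRelativeDimension (m + 1) (i ≫ CohB1.ProjSpace.toSpec r k)] {H : Form r k d} {t : k} (ht : t ≠ 0)
    (h : OneOrdQuad k (m + 1) i H) : OneOrdQuad k (m + 1) i (t • H) := by
  obtain ⟨j, χ, hq, hu⟩ := (oneOrdQuad_iff i H).1 h
  refine (oneOrdQuad_iff i _).2 ⟨j, χ, by rw [pform_smul]; exact hq.smul ht, fun l χ' hb => hu l χ' ?_⟩
  have := hb.smul t⁻¹
  rwa [inv_smul_smul₀ ht] at this

/-- The form with given coefficients. -/
abbrev ofCoeff (c : Expo r d → k) : Form r k d := formEquiv.symm c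

theorem ofCoeff_comb (F G : Form r k d) (a b : k) :
    ofCoeff (fun β => a * formCoeff β F + b * formCoeff β G) = a • F + b • G := by
  refine formEquiv.injective ?_
  rw [LinearEquiv.apply_symm_apply, map_add, map_smul, map_smul]
  rfl

/-- A polynomial condition at a point on the base locus. -/
theorem exists_nbhd_base [IsAlgClosed k] [IsClosedImmersion i] {n : ℕ}
    [SmoothOfRelativeDimension n (i ≫ CohB1.ProjSpace.toSpec r k)] (F₀ G₀ : Form r k d)
    (h₀ : Transversal k n 2 (secToSpec i {F₀, G₀})) :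
    ∃ f : (Expo r d ⊕ Expo r d → k) → k, PolyFn f ∧
      f (Sum.elim (fun β => formCoeff β F₀) fun β => formCoeff β G₀) ≠ 0 ∧
      ∀ F G : Form r k d, f (Sum.elim (fun β => formCoeff β F) fun β => formCoeff β G) ≠ 0 →
        Transversal k n 2 (secToSpec i {F, G}) := by
  classical
  have hset : ∀ F G : Form r k d, ({F, G} : Set (Form r k d)) = Set.range ![F, G] := fun F G => by
    simp only [Matrix.range_cons, Matrix.range_empty, Set.union_empty, Set.singleton_union]
  let comb : (Fin 2 → k) → (Expo r d ⊕ Expo r d → k) → Form r k d := fun l c =>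
    ofCoeff fun β => l 0 * c (.inl β) + l 1 * c (.inr β)
  let Z : (Fin (r + 1) → k) → (Expo r d ⊕ Expo r d → k) → Prop := fun v c =>
    v ≠ 0 ∧ MvPolynomial.eval v (ofCoeff fun β => c (.inl β)).1 = 0 ∧
      MvPolynomial.eval v (ofCoeff fun β => c (.inr β)).1 = 0 ∧ ∃ l : Fin 2 → k, l ≠ 0 ∧ BadAt i v (comb l c)
  have hhom : ∀ (H : Form r k d) (t : k) (v : Fin (r + 1) → k),
      MvPolynomial.eval (t • v) H.1 = t ^ d * MvPolynomial.eval v H.1 := by
    intro H t v
    rw [MvPolynomial.eval_eq', MvPolynomial.eval_eq', Finset.mul_sum]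
    refine Finset.sum_congr rfl fun e he => ?_
    have he' : e.degree = d := by
      by_contra hne
      exact MvPolynomial.mem_support_iff.1 he (((MvPolynomial.mem_homogeneousSubmodule _ _).1 H.2).coeff_eq_zero hne)
    rw [mul_left_comm]
    congr 1
    simp only [Pi.smul_apply, smul_eq_mul, mul_pow, Finset.prod_mul_distrib]
    rw [Finset.prod_pow_eq_pow_sum, ← he', Finsupp.degree_apply]
    congr 2
    exact (Finset.sum_subset (Finset.subset_univ _) (by simp)).symm
  have hcomb : ∀ F G l, comb l (Sum.elim (fun β => formCoeff β F) fun β => formCoeff β G) = l 0 • F + l 1 • G :=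
    fun F G l => ofCoeff_comb F G _ _
  -- a point of the base locus where the section is not transversal
  have hZ : ∀ F G : Form r k d, ¬ Transversal k n 2 (secToSpec i {F, G}) ↔
      ∃ v, Z v (Sum.elim (fun β => formCoeff β F) fun β => formCoeff β G) := by
    intro F G
    rw [hset, transversal_fam_iff i ![F, G]]
    simp only [Z, Sum.elim_inl, Sum.elim_inr, ofCoeff, show ∀ H : Form r k d, formEquiv.symm (fun β => formCoeff β H) = H from
      fun H => formEquiv.symm_apply_apply H, hcomb]
    constructor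
    · intro h
      simp only [not_forall, IndepAt] at h
      obtain ⟨j, χ, hχ, l, hl, hl0⟩ := h
      refine ⟨fun t => χ (pcoord i j t), fun h0 => one_ne_zero ((algHom_pcoord_self i χ).symm.trans (congrFun h0 j)),
        (algHom_pform i χ F).symm.trans (hχ 0), (algHom_pform i χ G).symm.trans (hχ 1), l, hl0, j, χ, ?_, fun t => ?_, ?_⟩
      · show χ (pcoord i j j) ≠ 0
        rw [algHom_pcoord_self]; exact one_ne_zero
      · show χ (pcoord i j j) * _ = _
        rw [algHom_pcoord_self, one_mul]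
      · unfold Bad
        rw [pform_add, pform_smul, pform_smul]
        simpa [Fin.sum_univ_two] using hl
    · rintro ⟨v, -, hF, hG, l, hl0, j, χ, hj, hχ, hb⟩ h
      have hev : ∀ H : Form r k d, MvPolynomial.eval v H.1 = 0 → χ (pform i j H) = 0 := fun H hH => by
        rw [show v = v j • fun t => χ (pcoord i j t) from funext fun t => (hχ t).symm, hhom,
          mul_eq_zero] at hH
        rw [algHom_pform]
        exact hH.resolve_left (pow_ne_zero _ hj)
      refine hl0 (h j χ (fun t => ?_) l ?_)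
      · fin_cases t
        · exact hev F hF
        · exact hev G hG
      · unfold Bad at hb
        rw [pform_add, pform_smul, pform_smul] at hb
        simpa [Fin.sum_univ_two] using hb
  obtain ⟨f, hf, hf0, hfZ⟩ := exists_elim_cone Z (fun v c h => h.1)
    (fun v c t ht ⟨hv, h1, h2, l, hl, hb⟩ =>
      ⟨smul_ne_zero ht hv, by rw [hhom, h1, mul_zero], by rw [hhom, h2, mul_zero], l, hl, badAt_smul i ht hb⟩)
    (fun v₁ c₁ hv₁ hn => by
      have hgen : ∀ s : Expo r d → Expo r d ⊕ Expo r d,
          PolyFn fun x : Fin (r + 1) ⊕ (Expo r d ⊕ Expo r d) → k =>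
            MvPolynomial.eval (fun t => x (.inl t)) (ofCoeff fun β => x (.inr (s β))).1 := fun s => by
        let P := (MvPolynomial.sumAlgEquiv k (Fin (r + 1)) (Expo r d)).symm (genForm r d k)
        have hP : ∀ x : Fin (r + 1) ⊕ (Expo r d ⊕ Expo r d) → k,
            MvPolynomial.eval (fun t => x (.inl t)) (ofCoeff fun β => x (.inr (s β))).1 =
              MvPolynomial.eval (Sum.elim (fun t => x (.inl t)) fun β => x (.inr (s β))) P := fun x => by
          rw [← eval_sumAlgEquiv, AlgEquiv.apply_symm_apply]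
          conv_rhs => rw [← formEquiv_coeff (fun β => x (.inr (s β)))]
          rw [eval_genForm]
        simp only [hP]
        exact PolyFn.comp ⟨P, fun _ => rfl⟩ fun t => by rcases t with t | t <;> exact .proj _
      by_cases h1 : MvPolynomial.eval v₁ (ofCoeff fun β => c₁ (.inl β)).1 = 0
      swap
      · exact ⟨_, hgen Sum.inl, fun v c hZ => hZ.2.1, h1⟩
      by_cases h2 : MvPolynomial.eval v₁ (ofCoeff fun β => c₁ (.inr β)).1 = 0
      swap
      · exact ⟨_, hgen Sum.inr, fun v c hZ => hZ.2.2.1, h2⟩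
      let Z' : (Fin 2 → k) → (Fin (r + 1) ⊕ (Expo r d ⊕ Expo r d) → k) → Prop := fun l s =>
        l ≠ 0 ∧ ((fun t => s (.inl t)) = 0 ∨ BadAt i (fun t => s (.inl t)) (comb l fun β => s (.inr β)))
      obtain ⟨f, hf, hf0, hfZ⟩ := exists_elim_cone Z' (fun l s h => h.1)
        (fun l s t ht ⟨hl, hb⟩ => ⟨smul_ne_zero ht hl, hb.imp_right fun hb => by
          have := hb.smulForm i t
          convert this using 2
          refine formEquiv.injective ?_
          simp only [comb, ofCoeff, map_smul, LinearEquiv.apply_symm_apply]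
          funext β
          simp only [Pi.smul_apply, smul_eq_mul]
          ring⟩)
        (fun l₁ s₁ hl₁ hn' => by
          have hv : (fun t => s₁ (.inl t)) ≠ 0 := fun h => hn' ⟨hl₁, .inl h⟩
          obtain ⟨g, hg, hg0, hgz⟩ := exists_badEq (n := n) i (fun t => s₁ (.inl t))
            (fun β => l₁ 0 * s₁ (.inr (.inl β)) + l₁ 1 * s₁ (.inr (.inr β))) hv fun h => hn' ⟨hl₁, .inr h⟩
          refine ⟨fun x => g (Sum.elim (fun t => x (.inr (.inl t)))
              fun β => x (.inl 0) * x (.inr (.inr (.inl β))) + x (.inl 1) * x (.inr (.inr (.inr β)))),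
            hg.comp fun t => ?_, fun l s hZ => ?_, ?_⟩
          · rcases t with t | t
            · exact .proj _
            · exact ((PolyFn.proj _).mul (.proj _)).add ((PolyFn.proj _).mul (.proj _))
          · simp only [Sum.elim_inl, Sum.elim_inr]
            exact hgz _ _ hZ.2
          · simp only [Sum.elim_inl, Sum.elim_inr]
            exact hg0)
        (Sum.elim v₁ c₁) (fun l hl => by
          obtain ⟨hl0, hl'⟩ := hl
          simp only [Sum.elim_inl, Sum.elim_inr] at hl'
          exact hl'.elim hv₁ fun hb => hn ⟨hv₁, h1, h2, l, hl0, hb⟩)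
      refine ⟨f, hf, fun v c hZ => ?_, hf0⟩
      obtain ⟨-, -, -, l, hl, hb⟩ := hZ
      by_contra hne
      exact hfZ _ hne l ⟨hl, .inr hb⟩)
    (Sum.elim (fun β => formCoeff β F₀) fun β => formCoeff β G₀) (fun v hv => (hZ F₀ G₀).2 ⟨v, hv⟩ h₀)
  refine ⟨f, hf, hf0, fun F G hne => ?_⟩
  by_contra hT
  obtain ⟨v, hv⟩ := (hZ F G).1 hT
  exact hfZ _ hne v hv

theorem polyFn_of_isPolyFun {f : Form r k d → k} (hf : IsPolyFun k f) : PolyFn fun c => f (ofCoeff c) := by
  obtain ⟨q, hq⟩ := exists_poly_of_isPolyFun hf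
  refine ⟨q, fun c => ?_⟩
  simp only [hq, ofCoeff, formEquiv_coeff]

/-- A polynomial condition making every singular member a member with one ordinary quadratic point. -/
theorem exists_nbhd_members [IsAlgClosed k] [IsClosedImmersion i] [IsIntegral X] {m : ℕ}
    [SmoothOfRelativeDimension (m + 1) (i ≫ CohB1.ProjSpace.toSpec r k)] (F₀ G₀ : Form r k d)
    (h₀ : ∀ H ∈ members k F₀ G₀, ¬ Transversal k (m + 1) 1 (secToSpec i {H}) → OneOrdQuad k (m + 1) i H) :
    ∃ f : (Expo r d ⊕ Expo r d → k) → k, PolyFn f ∧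
      f (Sum.elim (fun β => formCoeff β F₀) fun β => formCoeff β G₀) ≠ 0 ∧
      ∀ F G : Form r k d, f (Sum.elim (fun β => formCoeff β F) fun β => formCoeff β G) ≠ 0 →
        ∀ H ∈ members k F G, ¬ Transversal k (m + 1) 1 (secToSpec i {H}) → OneOrdQuad k (m + 1) i H := by
  classical
  let comb : (Fin 2 → k) → (Expo r d ⊕ Expo r d → k) → Form r k d := fun l c =>
    ofCoeff fun β => l 0 * c (.inl β) + l 1 * c (.inr β)
  let P : Form r k d → Prop := fun H => ¬ Transversal k (m + 1) 1 (secToSpec i {H}) ∧ ¬ OneOrdQuad k (m + 1) i H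
  have hP : ∀ (H : Form r k d) {t : k}, t ≠ 0 → P H → P (t • H) := fun H t ht ⟨h1, h2⟩ => by
    refine ⟨?_, fun h => h2 ?_⟩
    · obtain ⟨v, hv⟩ := (not_transversal_iff_badAt i (Nat.le_add_left 1 m) H).1 h1
      exact (not_transversal_iff_badAt i (Nat.le_add_left 1 m) _).2 ⟨v, hv.smulForm i t⟩
    · have := oneOrdQuad_smul i (inv_ne_zero ht) h
      rwa [inv_smul_smul₀ ht] at this
  have hcomb : ∀ F G l, comb l (Sum.elim (fun β => formCoeff β F) fun β => formCoeff β G) = l 0 • F + l 1 • G :=
    fun F G l => ofCoeff_comb F G _ _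
  obtain ⟨f, hf, hf0, hfZ⟩ := exists_elim_cone (fun l c => l ≠ 0 ∧ P (comb l c)) (fun l c h => h.1)
    (fun l c t ht ⟨hl, hb⟩ => ⟨smul_ne_zero ht hl, by
      convert hP _ ht hb using 1
      refine formEquiv.injective ?_
      simp only [comb, ofCoeff, map_smul, LinearEquiv.apply_symm_apply]
      funext β
      simp only [Pi.smul_apply, smul_eq_mul]
      ring⟩)
    (fun l₁ c₁ hl₁ hn => by
      obtain ⟨g, hg, hg0, hgz⟩ : ∃ g : Form r k d → k, IsPolyFun k g ∧ g (comb l₁ c₁) ≠ 0 ∧
          ∀ H, P H → g H = 0 := by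
        by_cases hT : Transversal k (m + 1) 1 (secToSpec i ({comb l₁ c₁} : Set (Form r k d)))
        · obtain ⟨g, hg, hg0, hgz⟩ := isZOpen_transversal (n := m + 1) i (Nat.le_add_left 1 m) _ hT
          exact ⟨g, hg, hg0, fun H hH => by_contra fun h => hH.1 (hgz H h)⟩
        · have hO : OneOrdQuad k (m + 1) i (comb l₁ c₁) := by_contra fun h => hn ⟨hl₁, hT, h⟩
          obtain ⟨g, hg, hg0, hgz⟩ := exists_oneOrdQuad_nbhd i _ hO
          exact ⟨g, hg, hg0, fun H hH => by_contra fun h => hH.2 (hgz H hH.1 h)⟩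
      refine ⟨fun x => g (ofCoeff fun β => x (.inl 0) * x (.inr (.inl β)) + x (.inl 1) * x (.inr (.inr β))),
        (polyFn_of_isPolyFun hg).comp fun t => ((PolyFn.proj _).mul (.proj _)).add ((PolyFn.proj _).mul (.proj _)),
        fun l c hZ => ?_, ?_⟩
      · simp only [Sum.elim_inl, Sum.elim_inr]
        exact hgz _ hZ.2
      · simp only [Sum.elim_inl, Sum.elim_inr]
        exact hg0)
    (Sum.elim (fun β => formCoeff β F₀) fun β => formCoeff β G₀) (fun l hl => by
      obtain ⟨hl0, hP'⟩ := hl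
      rw [hcomb] at hP'
      by_cases h0 : l 0 = 0
      · have h1 : l 1 ≠ 0 := fun h1 => hl0 (funext fun t => by fin_cases t <;> [exact h0; exact h1])
        have := hP _ (inv_ne_zero h1) hP'
        rw [h0, zero_smul, zero_add, inv_smul_smul₀ h1] at this
        exact this.2 (h₀ G₀ (Set.mem_union_left _ rfl) this.1)
      · have := hP _ (inv_ne_zero h0) hP'
        rw [smul_add, inv_smul_smul₀ h0, smul_smul] at this
        exact this.2 (h₀ _ (Set.mem_union_right _ ⟨_, rfl⟩) this.1))
  refine ⟨f, hf, hf0, fun F G hne H hH hT => ?_⟩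
  by_contra hO
  rcases hH with rfl | ⟨t, rfl⟩
  · refine hfZ _ hne ![0, 1] ⟨fun h => by simpa using congrFun h 1, ?_⟩
    rw [hcomb]
    simpa [P] using And.intro hT hO
  · refine hfZ _ hne ![1, t] ⟨fun h => by simpa using congrFun h 0, ?_⟩
    rw [hcomb]
    simpa [P] using And.intro hT hO

theorem exists_polynomial_along {σ : Type} {g : (σ → k) → k} (hg : PolyFn g) (a b : σ → k) :
    ∃ p : Polynomial k, ∀ c : k, p.eval c = g fun t => a t + c * b t := by
  obtain ⟨P, hP⟩ := hg
  refine ⟨MvPolynomial.eval₂ Polynomial.C (fun t => Polynomial.C (a t) + Polynomial.X * Polynomial.C (b t)) P, fun c => ?_⟩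
  rw [← hP, ← Polynomial.coe_evalRingHom, MvPolynomial.eval₂_comp_left (Polynomial.evalRingHom c)]
  show MvPolynomial.eval₂ _ _ P = MvPolynomial.eval₂ (RingHom.id k) _ P
  congr 1
  · ext x; simp
  · funext t
    simp only [Function.comp_apply, Polynomial.coe_evalRingHom, Polynomial.eval_add, Polynomial.eval_mul, Polynomial.eval_C, Polynomial.eval_X]

theorem exists_nbhd_indep (F₀ G₀ : Form r k d) (h : LinearIndependent k ![F₀, G₀]) :
    ∃ f : (Expo r d ⊕ Expo r d → k) → k, PolyFn f ∧
      f (Sum.elim (fun β => formCoeff β F₀) fun β => formCoeff β G₀) ≠ 0 ∧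
      ∀ F G : Form r k d, f (Sum.elim (fun β => formCoeff β F) fun β => formCoeff β G) ≠ 0 →
        LinearIndependent k ![F, G] := by
  classical
  have key : ∀ (F G : Form r k d) (a b : Expo r d),
      formCoeff a F * formCoeff b G - formCoeff b F * formCoeff a G ≠ 0 → LinearIndependent k ![F, G] := by
    intro F G a b hne
    rw [LinearIndependent.pair_iff]
    intro s t hst
    have ha := congrArg (formCoeff a) hst
    have hb := congrArg (formCoeff b) hst
    simp only [map_add, map_smul, smul_eq_mul, map_zero] at ha hb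
    refine ⟨(mul_eq_zero.1 ?_).resolve_right hne, (mul_eq_zero.1 ?_).resolve_right hne⟩
    · linear_combination (formCoeff b G) * ha - (formCoeff a G) * hb
    · linear_combination (formCoeff a F) * hb - (formCoeff b F) * ha
  obtain ⟨a, b, hab⟩ : ∃ a b : Expo r d,
      formCoeff a F₀ * formCoeff b G₀ - formCoeff b F₀ * formCoeff a G₀ ≠ 0 := by
    by_contra hc
    push Not at hc
    have hF : F₀ ≠ 0 := h.ne_zero 0
    obtain ⟨a, ha⟩ : ∃ a, formCoeff a F₀ ≠ 0 := by
      by_contra hc'
      push Not at hc'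
      exact hF (by rw [← sum_formCoeff F₀]; simp [hc'])
    rw [LinearIndependent.pair_iff] at h
    have := h (formCoeff a G₀) (-formCoeff a F₀) (formEquiv.injective (funext fun b => by
      simp only [map_add, map_smul, map_zero, Pi.add_apply, Pi.smul_apply, smul_eq_mul, Pi.zero_apply]
      show formCoeff a G₀ * formCoeff b F₀ + -formCoeff a F₀ * formCoeff b G₀ = 0
      linear_combination -(hc a b)))
    exact ha (neg_eq_zero.1 this.2)
  refine ⟨fun x => x (.inl a) * x (.inr b) - x (.inl b) * x (.inr a),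
    ((PolyFn.proj _).mul (.proj _)).sub ((PolyFn.proj _).mul (.proj _)), hab, fun F G hne => key F G a b hne⟩

/-- The pairs spanning Lefschetz pencils are open. -/
theorem isZOpen_isLefschetzPencil [IsAlgClosed k] [IsClosedImmersion i] [IsIntegral X] {m : ℕ}
    [SmoothOfRelativeDimension (m + 1) (i ≫ CohB1.ProjSpace.toSpec r k)] :
    IsZOpen k {FG : Form r k d × Form r k d | IsLefschetzPencil k (m + 1) i d FG.1 FG.2} := by
  classical
  rintro ⟨F₀, G₀⟩ ⟨hind, hbase, hfin, hmem⟩
  obtain ⟨f1, hf1, h10, h1⟩ := exists_nbhd_indep F₀ G₀ hind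
  obtain ⟨f2, hf2, h20, h2⟩ := exists_nbhd_base (n := m + 1) i F₀ G₀ hbase
  obtain ⟨f4, hf4, h40, h4⟩ := exists_nbhd_members i F₀ G₀ hmem
  obtain ⟨c₀, hc₀⟩ : ∃ c : k, Transversal k (m + 1) 1 (secToSpec i ({F₀ + c • G₀} : Set (Form r k d))) := by
    obtain ⟨c, hc⟩ := (hfin.infinite_compl).nonempty
    exact ⟨c, by simpa using hc⟩
  obtain ⟨g, hg, hg0, hgz⟩ := isZOpen_transversal (n := m + 1) i (Nat.le_add_left 1 m) _ hc₀
  let f3 : (Expo r d ⊕ Expo r d → k) → k := fun x => g (ofCoeff fun β => x (.inl β) + c₀ * x (.inr β))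
  have hf3 : PolyFn f3 := (polyFn_of_isPolyFun hg).comp fun t => (PolyFn.proj _).add ((PolyFn.const _).mul (.proj _))
  have hlin : ∀ (F G : Form r k d) (c : k),
      ofCoeff (fun β => formCoeff β F + c * formCoeff β G) = F + c • G := fun F G c => by
    simpa [one_mul] using ofCoeff_comb F G 1 c
  obtain ⟨P, hP⟩ := ((hf1.mul hf2).mul hf3).mul hf4
  let l : Expo r d ⊕ Expo r d → Module.Dual k (Form r k d × Form r k d) :=
    Sum.elim (fun β => (formCoeff β).comp (LinearMap.fst k _ _)) fun β => (formCoeff β).comp (LinearMap.snd k _ _)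
  have hl : ∀ FG : Form r k d × Form r k d, (fun s => l s FG) =
      Sum.elim (fun β => formCoeff β FG.1) fun β => formCoeff β FG.2 := fun FG =>
    funext fun s => by cases s <;> rfl
  refine ⟨fun FG => MvPolynomial.eval (fun s => l s FG) P, isPolyFun_eval _ _, ?_, fun ⟨F, G⟩ hne => ?_⟩
  · simp only [hl, hP]
    refine mul_ne_zero (mul_ne_zero (mul_ne_zero h10 h20) ?_) h40
    simp only [f3, Sum.elim_inl, Sum.elim_inr, hlin]
    exact hg0
  · simp only [hl, hP, mul_ne_zero_iff] at hne
    obtain ⟨⟨⟨e1, e2⟩, e3⟩, e4⟩ := hne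
    refine ⟨h1 F G e1, h2 F G e2, ?_, h4 F G e4⟩
    obtain ⟨p, hp⟩ := exists_polynomial_along (polyFn_of_isPolyFun hg) (fun β => formCoeff β F) fun β => formCoeff β G
    simp only [hlin] at hp
    have hp0 : p ≠ 0 := fun h => e3 (by
      simp only [f3, Sum.elim_inl, Sum.elim_inr, hlin]
      rw [← hp, h, Polynomial.eval_zero])
    refine (Polynomial.finite_setOf_isRoot hp0).subset fun c hc => ?_
    by_contra hne'
    exact hc (hgz _ (by rw [← hp]; exact hne'))

end Groth.Agent.An92.Lef
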