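import Groth.Agent.An92.Lef.Minor
import Groth.Agent.An92.Lef.Exist
import Groth.Agent.An92.Lef.Pencil
import Groth.Agent.An92.Lef.QuadForm

/-! A form with exactly one singular point on its section, an ordinary quadratic one. -/

universe u

open CategoryTheory CategoryTheory.Limits AlgebraicGeometry Opposite TopologicalSpace
open scoped TensorProduct

noncomputable section

set_option backward.isDefEq.respectTransparency false

namespace Groth.Agent.An92.Lef

open LefPen Groth.Agent.Var76

section Alg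

variable {k A : Type u} [Field k] [CommRing A] [Algebra k A] {ι : Type} [Fintype ι] {y : ι → A}

theorem mem_sq_of_jets (hy : Algebra.adjoin k (Set.range y) = ⊤) {Δ : ι → Derivation k A A}
    (hΔ : ∀ f, KaehlerDifferential.D k A f = ∑ l, Δ l f • KaehlerDifferential.D k A (y l))
    {χ : A →ₐ[k] k} {φ : A} (h0 : χ φ = 0) (h1 : ∀ l, χ (Δ l φ) = 0) : φ ∈ RingHom.ker χ.toRingHom ^ 2 := by
  set M := RingHom.ker χ.toRingHom
  obtain ⟨G, hG⟩ := exists_second y hy Δ hΔ φ
  have hη : ∀ l, sliceMap χ (dz (k := k) (y l)) ∈ M := fun l => by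
    show χ (sliceMap χ (dz (y l))) = 0
    rw [sliceMap_dz, map_sub, χ.commutes]; simp
  have hs : φ = ∑ a, ∑ b, sliceMap χ (G a b) * (sliceMap χ (dz (y a)) * sliceMap χ (dz (y b))) := by
    have := congrArg (sliceMap χ) hG
    simp only [map_sub, map_sum, map_mul] at this
    rw [← this, sliceMap_dz, h0, map_zero, sub_zero, eq_comm, sub_eq_self]
    refine Finset.sum_eq_zero fun l _ => ?_
    simp [sliceMap, h1 l]
  rw [hs, pow_two]
  exact Ideal.sum_mem _ fun a _ => Ideal.sum_mem _ fun b _ =>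
    Ideal.mul_mem_left _ _ (Ideal.mul_mem_mul (hη a) (hη b))

/-- A minor of a linear map with large image. -/
theorem exists_minor {R : Type} [Fintype R] {m s : ℕ} (Φ : R → Fin m → k) (x : Fin s → Fin m → k)
    (hx : ∀ e : Fin s → k, (∀ q, ∑ t, e t * ∑ a, Φ q a * x t a = 0) → e = 0) :
    ∃ (ρ : Fin s → R) (J : Fin s → Fin m), (Matrix.of fun e t => Φ (ρ e) (J t)).det ≠ 0 := by
  classical
  let col : Fin m → R → k := fun a q => Φ q a
  obtain ⟨κ, a, ha, hsp, hli⟩ := exists_linearIndependent' k col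
  have : Finite κ := Finite.of_injective a ha
  have : Fintype κ := Fintype.ofFinite κ
  let X : Fin s → R → k := fun t q => ∑ a, Φ q a * x t a
  have hX : LinearIndependent k X := Fintype.linearIndependent_iff.2 fun e he t => congrFun (hx e fun q => by
    simpa [X] using congrFun he q) t
  have hXm : ∀ t, X t ∈ Submodule.span k (Set.range col) := fun t => by
    rw [show X t = ∑ a, x t a • col a from funext fun q => by simp [X, col, Finset.sum_apply, mul_comm]]
    exact Submodule.sum_mem _ fun a _ => Submodule.smul_mem _ _ (Submodule.subset_span ⟨a, rfl⟩)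
  have hle : s ≤ Fintype.card κ := by
    rw [← Fintype.card_fin s, ← finrank_span_eq_card hX, ← finrank_span_eq_card hli, hsp]
    exact Submodule.finrank_mono (Submodule.span_le.2 (by rintro _ ⟨t, rfl⟩; exact hXm t))
  obtain ⟨emb⟩ : Nonempty (Fin s ↪ κ) := Function.Embedding.nonempty_of_card_le (by simpa using hle)
  let J : Fin s → Fin m := a ∘ emb
  have hJ : LinearIndependent k fun t => col (J t) := hli.comp emb emb.injective
  let row : R → Fin s → k := fun q t => Φ q (J t)
  have hrow : Submodule.span k (Set.range row) = ⊤ := by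
    by_contra hne
    obtain ⟨f, hf0, hf⟩ := Submodule.exists_le_ker_of_lt_top _ (lt_top_iff_ne_top.2 hne)
    have hc : ∀ w, f w = ∑ t, w t * f (Pi.single t 1) := fun w => by
      conv_lhs => rw [pi_eq_sum_univ' w, map_sum]
      exact Finset.sum_congr rfl fun t _ => by rw [map_smul, smul_eq_mul]
    refine hf0 (LinearMap.ext fun w => ?_)
    rw [hc]
    refine Finset.sum_eq_zero fun t _ => ?_
    have := Fintype.linearIndependent_iff.1 hJ (fun t => f (Pi.single t 1)) (funext fun q => ?_) t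
    · rw [this, mul_zero]
    · have hq := LinearMap.mem_ker.1 (hf (Submodule.subset_span ⟨q, rfl⟩))
      rw [hc] at hq
      simpa [Finset.sum_apply, row, col, mul_comm] using hq
  obtain ⟨κ', a', ha', hsp', hli'⟩ := exists_linearIndependent' k row
  have : Finite κ' := Finite.of_injective a' ha'
  have : Fintype κ' := Fintype.ofFinite κ'
  have hcard : Fintype.card κ' = Fintype.card (Fin s) := by
    rw [← finrank_span_eq_card hli', hsp', hrow, finrank_top, Module.finrank_fintype_fun_eq_card]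
  obtain ⟨eq⟩ := Fintype.card_eq.1 hcard
  refine ⟨a' ∘ eq.symm, J, ?_⟩
  have h1 : LinearIndependent k fun e => (Matrix.of fun e t => Φ ((a' ∘ eq.symm) e) (J t)) e :=
    hli'.comp eq.symm eq.symm.injective
  exact IsUnit.ne_zero ((Matrix.isUnit_iff_isUnit_det _).1 (Matrix.linearIndependent_rows_iff_isUnit.1 h1))

end Alg

variable {k : Type u} [Field k] {r : ℕ} {X : Scheme.{u}} (i : X ⟶ CohB1.ProjSpace r k) {d : ℕ}

/-- Product of forms. -/
def mulForm {e f : ℕ} (h : e + f = d) (U : Form r k e) (T : Form r k f) : Form r k d :=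
  ⟨U.1 * T.1, (MvPolynomial.mem_homogeneousSubmodule _ _).2 (h ▸
    ((MvPolynomial.mem_homogeneousSubmodule _ _).1 U.2).mul ((MvPolynomial.mem_homogeneousSubmodule _ _).1 T.2))⟩

theorem pform_mulForm {e f : ℕ} (h : e + f = d) (j : Fin (r + 1)) (U : Form r k e) (T : Form r k f) :
    pform i j (mulForm h U T) = pform i j U * pform i j T := by
  simp only [pform_eq_aeval, mulForm, map_mul]

theorem pform_sum (j : Fin (r + 1)) {κ : Type*} (s : Finset κ) (c : κ → k) (G : κ → Form r k d) :
    pform i j (∑ t ∈ s, c t • G t) = ∑ t ∈ s, c t • pform i j (G t) := by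
  simp only [pform_eq_aeval, AddSubmonoidClass.coe_finset_sum, Submodule.coe_smul, map_sum, map_smul]

/-- The forms bad at a point. -/
def badSub (j : Fin (r + 1)) (χ : Γ(X, piece i j) →ₐ[k] k) (d : ℕ) : Submodule k (Form r k d) where
  carrier := {H | Bad i j χ H}
  add_mem' {F G} hF hG := by
    show pform i j (F + G) ∈ RingHom.ker χ.toRingHom ^ 2
    rw [pform_add]; exact add_mem hF hG
  zero_mem' := by
    show pform i j (0 : Form r k d) ∈ RingHom.ker χ.toRingHom ^ 2
    rw [pform_eq_aeval, Submodule.coe_zero, map_zero]; exact zero_mem _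
  smul_mem' t _ hF := hF.smul t

theorem mem_badSub {j : Fin (r + 1)} {χ : Γ(X, piece i j) →ₐ[k] k} {H : Form r k d} :
    H ∈ badSub i j χ d ↔ Bad i j χ H := Iff.rfl

/-- Forms whose one-jets at a point are independent. -/
theorem exists_jet_forms [IsClosedImmersion i] {n : ℕ}
    [SmoothOfRelativeDimension n (i ≫ CohB1.ProjSpace.toSpec r k)] {j : Fin (r + 1)}
    (χ : Γ(X, piece i j) →ₐ[k] k) {f : ℕ} (hf : 1 ≤ f) :
    ∃ T : Fin (n + 1) → Form r k f, ∀ e : Fin (n + 1) → k, Bad i j χ (∑ t, e t • T t) → e = 0 := by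
  classical
  have hA : RingHom.Locally (RingHom.IsStandardSmoothOfRelativeDimension n) (algebraMap k Γ(X, piece i j)) := by
    rw [RingHom.algebraMap_toAlgebra]; exact locally_piece i j
  obtain ⟨u, hu⟩ := exists_params hA χ
  choose L hL using fun a => exists_linear_jet i χ (u a)
  let Xj : Form r k 1 := ⟨MvPolynomial.X j, X_mem r k j⟩
  let P : Form r k (f - 1) := ⟨MvPolynomial.X j ^ (f - 1), (MvPolynomial.mem_homogeneousSubmodule _ _).2 (by
    simpa using (MvPolynomial.isHomogeneous_X k j).pow (f - 1))⟩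
  let T : Fin (n + 1) → Form r k f :=
    Fin.cons (mulForm (Nat.sub_add_cancel hf) P Xj) fun a => mulForm (Nat.sub_add_cancel hf) P (L a)
  have hP : pform i j P = 1 := by simp [P, pform_eq_aeval, pcoord_self]
  have hXj : pform i j Xj = 1 := by rw [pform_X, pcoord_self]
  refine ⟨T, fun e he => ?_⟩
  unfold Bad at he
  rw [pform_sum, Fin.sum_univ_succ] at he
  simp only [T, Fin.cons_zero, Fin.cons_succ, pform_mulForm, hP, hXj, one_mul] at he
  have h2 : e 0 • (1 : Γ(X, piece i j)) + ∑ a, e a.succ • u a ∈ RingHom.ker χ.toRingHom ^ 2 := by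
    have := add_mem he (Ideal.sum_mem _ (t := Finset.univ) fun a (_ : a ∈ Finset.univ) =>
      show e a.succ • u a - e a.succ • pform i j (L a) ∈ RingHom.ker χ.toRingHom ^ 2 by
        rw [← smul_sub, Algebra.smul_def]; exact Ideal.mul_mem_left _ _ (hL a))
    rwa [Finset.sum_sub_distrib, add_add_sub_cancel] at this
  have h0 : e 0 = 0 := by
    have := Ideal.pow_le_self two_ne_zero h2
    change χ (_ + _) = 0 at this
    simpa [map_add, map_sum, show ∀ a, χ (u a) = 0 from hu.mem] using this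
  rw [h0, zero_smul, zero_add] at h2
  have := hu.indep _ h2
  funext t
  exact Fin.cases h0 (congrFun this) t

/-- Forms in a hyperplane with independent jets. -/
theorem exists_jet_forms_vanish [IsClosedImmersion i] {n : ℕ}
    [SmoothOfRelativeDimension n (i ≫ CohB1.ProjSpace.toSpec r k)] {j : Fin (r + 1)}
    (χ : Γ(X, piece i j) →ₐ[k] k) {f : ℕ} (hf : 1 ≤ f) (ev : Form r k f →ₗ[k] k) :
    ∃ T : Fin n → Form r k f, (∀ t, ev (T t) = 0) ∧ ∀ e : Fin n → k, Bad i j χ (∑ t, e t • T t) → e = 0 := by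
  classical
  obtain ⟨T, hT⟩ := exists_jet_forms (n := n) i χ hf
  let F : (Fin (n + 1) → k) →ₗ[k] k := ev.comp (Fintype.linearCombination k T)
  have hdim : n ≤ Module.finrank k (LinearMap.ker F) := by
    have h1 := F.finrank_range_add_finrank_ker
    have h2 := (LinearMap.range F).finrank_le
    simp only [Module.finrank_self, Module.finrank_fintype_fun_eq_card, Fintype.card_fin] at h1 h2
    omega
  obtain ⟨emb⟩ : Nonempty (Fin n ↪ Fin (Module.finrank k (LinearMap.ker F))) :=
    Function.Embedding.nonempty_of_card_le (by simpa using hdim)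
  let b := Module.finBasis k (LinearMap.ker F)
  have hb := (b.linearIndependent.map' (LinearMap.ker F).subtype (Submodule.ker_subtype _)).comp emb emb.injective
  refine ⟨fun t => ∑ a, (b (emb t)).1 a • T a, fun t => ?_, fun e he => ?_⟩
  · have := LinearMap.mem_ker.1 (b (emb t)).2
    rw [LinearMap.comp_apply, Fintype.linearCombination_apply] at this
    exact this
  · have h0 := hT (fun a => ∑ t, e t * (b (emb t)).1 a) (by
      convert he using 1
      simp only [Finset.smul_sum, smul_smul, Finset.sum_smul]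
      exact Finset.sum_comm)
    funext t
    refine Fintype.linearIndependent_iff.1 hb e (funext fun a => ?_) t
    simpa [Finset.sum_apply] using congrFun h0 a

set_option maxHeartbeats 800000 in
/-- Local step: bad members lie in a hypersurface near a point where enough jets are free. -/
theorem exists_local_elim [IsAlgClosed k] [IsClosedImmersion i] [IsIntegral X] {n : ℕ}
    [SmoothOfRelativeDimension n (i ≫ CohB1.ProjSpace.toSpec r k)] {l : Fin (r + 1)}
    (χ₁ : Γ(X, piece i l) →ₐ[k] k) {m s : ℕ} (G : Fin m → Form r k d) (x : Fin s → Fin m → k)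
    (hx : ∀ e : Fin s → k, Bad i l χ₁ (∑ t, e t • ∑ a, x t a • G a) → e = 0)
    (h : Γ(X, piece i l)) (hs : n < s ∨ (n ≤ s ∧ h ≠ 0)) :
    ∃ (a : Γ(X, piece i l)) (p : MvPolynomial (Fin m) k), χ₁ a ≠ 0 ∧ p ≠ 0 ∧
      ∀ (χ : Γ(X, piece i l) →ₐ[k] k) (c : Fin m → k), χ a ≠ 0 → χ h = 0 → Bad i l χ (∑ t, c t • G t) →
        MvPolynomial.eval c p = 0 := by
  classical
  have : Nonempty (piece i l) := by
    refine ⟨⟨ptX i l χ₁, ptX_mem i l χ₁⟩⟩
  have hA : RingHom.Locally (RingHom.IsStandardSmoothOfRelativeDimension n) (algebraMap k Γ(X, piece i l)) := by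
    rw [RingHom.algebraMap_toAlgebra]; exact locally_piece i l
  let M := RingHom.ker χ₁.toRingHom
  have : M.IsMaximal := RingHom.ker_isMaximal_of_surjective _ (algHom_surjective i χ₁)
  obtain ⟨hsm, hrk⟩ := rankAtStalk_eq_of_locally hA ⟨M, inferInstance⟩
  have : Algebra.FiniteType k Γ(X, piece i l) := inferInstance
  obtain ⟨Δ, hΔ⟩ := exists_dualDer (k := k) (pcoord i l) (adjoin_pcoord i l)
  let row : Option (Fin (r + 1)) → Fin m → Γ(X, piece i l) := fun q a =>
    q.elim (pform i l (G a)) fun q => Δ q (pform i l (G a))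
  have hrow : ∀ (χ : Γ(X, piece i l) →ₐ[k] k) (c : Fin m → k), Bad i l χ (∑ t, c t • G t) →
      ∀ q, ∑ a, c a * χ (row q a) = 0 := by
    intro χ c hb q
    unfold Bad at hb
    rw [pform_sum] at hb
    cases q with
    | none =>
      have := Ideal.pow_le_self two_ne_zero hb
      change χ _ = 0 at this
      simpa [row, map_sum] using this
    | some q =>
      have := algHom_der_of_mem_sq hb (Δ q)
      simpa [row, map_sum, Derivation.map_smul] using this
  obtain ⟨ρ, J, hdet⟩ := exists_minor (fun q a => χ₁ (row q a)) x (fun e he => hx e (by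
    unfold Bad
    rw [pform_sum]
    simp only [pform_sum]
    refine mem_sq_of_jets (adjoin_pcoord i l) hΔ ?_ fun q => ?_
    · have := he none
      simpa [row, map_sum, Finset.mul_sum, mul_comm] using this
    · have := he (some q)
      simpa [row, map_sum, Derivation.map_smul, Finset.mul_sum, mul_comm] using this))
  obtain ⟨a0, ha0, v, hv⟩ := Var76.BertiniAlg.exists_generators_near (A := Γ(X, piece i l))
    (N := Ω[Γ(X, piece i l)⁄k]) M
  have hn : Module.finrank M.ResidueField (M.ResidueField ⊗[Γ(X, piece i l)] Ω[Γ(X, piece i l)⁄k]) = n := by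
    rw [Ideal.finrank_fiber_eq_rankAtStalk M]; exact hrk
  have hdet' : χ₁ (Matrix.of fun e t => row (ρ e) (J t)).det ≠ 0 := by
    rw [AlgHom.map_det]
    exact hdet
  obtain ⟨p, hp0, hp⟩ := exists_minor_elim (fun e a => row (ρ e) a) J
    (fun h0 => hdet' (by rw [h0, map_zero])) a0 (fun h0 => ha0 (h0 ▸ zero_mem _)) v hv h (by rwa [hn])
  refine ⟨a0 * (Matrix.of fun e t => row (ρ e) (J t)).det, p, ?_, hp0, fun χ c hχa hχh hb => ?_⟩
  · rw [map_mul]
    exact mul_ne_zero ha0 hdet'
  · exact hp χ c hχa hχh fun e => hrow χ c hb (ρ e)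

/-- Near a point, ordinary quadratic members are open among the members singular there. -/
theorem exists_quadAt_nbhd [IsAlgClosed k] [IsClosedImmersion i] {n : ℕ}
    [SmoothOfRelativeDimension n (i ≫ CohB1.ProjSpace.toSpec r k)] {j : Fin (r + 1)}
    (χ : Γ(X, piece i j) →ₐ[k] k) (H₀ : Form r k d) (h₀ : QuadAt n χ (pform i j H₀)) :
    ∃ f : (Expo r d → k) → k, PolyFn f ∧ f (fun β => formCoeff β H₀) ≠ 0 ∧
      ∀ H : Form r k d, Bad i j χ H → f (fun β => formCoeff β H) ≠ 0 → QuadAt n χ (pform i j H) := by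
  classical
  have hA : RingHom.Locally (RingHom.IsStandardSmoothOfRelativeDimension n) (algebraMap k Γ(X, piece i j)) := by
    rw [RingHom.algebraMap_toAlgebra]; exact locally_piece i j
  have hsm : Algebra.Smooth k Γ(X, piece i j) :=
    (rankAtStalk_eq_of_locally hA ⟨RingHom.ker χ.toRingHom, RingHom.ker_isPrime _⟩).1
  obtain ⟨S⟩ := exists_diagData (k := k) (pcoord i j) (adjoin_pcoord i j)
    fun β : Expo r d => pform i j (monoForm (k := k) β)
  obtain ⟨f, hf, hf0, hfS⟩ := exists_elim_cone (fun δ c => δ ≠ 0 ∧ S.Sol c χ χ δ) (fun δ c h => h.1)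
    (fun δ c t ht ⟨h0, h1, h2, h3⟩ => by
      refine ⟨smul_ne_zero ht h0, fun a => ?_, fun a => ?_, ?_⟩
      · simp only [Pi.smul_apply, smul_eq_mul]
        rw [h1 a, Finset.mul_sum]
        exact Finset.sum_congr rfl fun l _ => by ring
      · simp only [Pi.smul_apply, smul_eq_mul, mul_left_comm _ t, ← Finset.mul_sum, h2 a, mul_zero]
      · simp only [Pi.smul_apply, smul_eq_mul]
        calc _ = t * t * ∑ a, ∑ b, (∑ e, c e * evalPair χ χ (S.G2 e a b)) * (δ a * δ b) := by
              simp only [Finset.mul_sum, Finset.sum_mul]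
              exact Finset.sum_congr rfl fun a _ => Finset.sum_congr rfl fun b _ =>
                Finset.sum_congr rfl fun e _ => by ring
          _ = 0 := by rw [h3, mul_zero])
    (fun δ₁ c₁ hδ₁ hn => by
      by_cases h1 : ∀ a, δ₁ a = ∑ l, S.tMat χ χ a l * δ₁ l
      swap
      · push Not at h1
        obtain ⟨a, ha⟩ := h1
        refine ⟨fun x => x (.inl a) - ∑ l, S.tMat χ χ a l * x (.inl l),
          (PolyFn.proj _).sub (.sum _ fun l _ => (PolyFn.const _).mul (.proj _)), fun δ s hZ => ?_, ?_⟩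
        · simp only [Sum.elim_inl]
          exact sub_eq_zero.2 (hZ.2.1 a)
        · simp only [Sum.elim_inl]
          exact sub_ne_zero.2 ha
      by_cases h2 : ∀ a, ∑ l, (∑ e, c₁ e * evalPair χ χ (S.G1 a e l)) * δ₁ l = 0
      swap
      · push Not at h2
        obtain ⟨a, ha⟩ := h2
        refine ⟨fun x => ∑ l, (∑ e, x (.inr e) * evalPair χ χ (S.G1 a e l)) * x (.inl l),
          .sum _ fun l _ => (PolyFn.sum _ fun e _ => (PolyFn.proj _).mul (.const _)).mul (.proj _), fun δ s hZ => ?_, ?_⟩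
        · simp only [Sum.elim_inl, Sum.elim_inr]
          exact hZ.2.2.1 a
        · simp only [Sum.elim_inl, Sum.elim_inr]
          exact ha
      refine ⟨fun x => ∑ a, ∑ b, (∑ e, x (.inr e) * evalPair χ χ (S.G2 e a b)) * (x (.inl a) * x (.inl b)),
        .sum _ fun a _ => .sum _ fun b _ =>
          (PolyFn.sum _ fun e _ => (PolyFn.proj _).mul (.const _)).mul ((PolyFn.proj _).mul (.proj _)),
        fun δ s hZ => ?_, ?_⟩
      · simp only [Sum.elim_inl, Sum.elim_inr]
        exact hZ.2.2.2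
      · simp only [Sum.elim_inl, Sum.elim_inr]
        exact fun h3 => hn ⟨hδ₁, h1, h2, h3⟩)
    (fun β => formCoeff β H₀) (fun δ hδ => by
      refine hδ.1 ((S.quadAt_iff (adjoin_pcoord i j) hA _ χ ?_).1 ?_ δ hδ.2)
      · rw [← pform_eq_smul_sum]; exact h₀.mem_sq
      · rw [← pform_eq_smul_sum]; exact h₀)
  refine ⟨f, hf, hf0, fun H hb hH => ?_⟩
  rw [pform_eq_smul_sum]
  refine (S.quadAt_iff (adjoin_pcoord i j) hA _ χ ?_).2 fun δ hδ => by_contra fun hne => hfS _ hH δ ⟨hne, hδ⟩
  rw [← pform_eq_smul_sum]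
  exact hb

/-- Two points with the same coordinates up to a factor. -/
theorem exists_separating_linear [IsAlgClosed k] [IsClosedImmersion i]
    [LocallyOfFiniteType (i ≫ CohB1.ProjSpace.toSpec r k)] {j l : Fin (r + 1)}
    (χ₀ : Γ(X, piece i j) →ₐ[k] k) (χ : Γ(X, piece i l) →ₐ[k] k) (hne : ptX i l χ ≠ ptX i j χ₀) :
    ∃ U : Form r k 1, χ₀ (pform i j U) = 0 ∧ χ (pform i l U) ≠ 0 := by
  by_contra hc
  push Not at hc
  have h : ∀ t, χ (pcoord i l t) = χ₀ (pcoord i j t) * χ (pcoord i l j) := fun t => by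
    have := hc (⟨MvPolynomial.X t, X_mem r k t⟩ - χ₀ (pcoord i j t) • ⟨MvPolynomial.X j, X_mem r k j⟩) (by
      simp [pform_eq_aeval, pcoord_self])
    simpa [pform_eq_aeval, sub_eq_zero] using this
  have hwj : χ (pcoord i l j) ≠ 0 := fun h0 => by
    have := h l
    rw [algHom_pcoord_self, h0, mul_zero] at this
    exact one_ne_zero this
  refine hne (ptX_eq_of_coord i (v := fun t => χ (pcoord i l t)) (j := j) (l := l) hwj
    (by simp [pcoord_self]) (fun t => by rw [h t, mul_comm]) (fun t => by simp [pcoord_self])).symm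

set_option maxHeartbeats 800000 in
/-- The general form singular at a point is singular nowhere else, unless `d = 2` and `X` is linear. -/
theorem exists_oneOrdQuad_of_nondeg [IsAlgClosed k] [IsClosedImmersion i] [IsIntegral X] {m : ℕ}
    [SmoothOfRelativeDimension (m + 1) (i ≫ CohB1.ProjSpace.toSpec r k)] (hd : 2 ≤ d) {j : Fin (r + 1)}
    (χ₀ : Γ(X, piece i j) →ₐ[k] k)
    (hcase : 3 ≤ d ∨ ∃ N : Form r k 1, Bad i j χ₀ N ∧ pform i j N ≠ 0) :
    ∃ H : Form r k d, OneOrdQuad k (m + 1) i H := by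
  classical
  have : Smooth (i ≫ CohB1.ProjSpace.toSpec r k) := SmoothOfRelativeDimension.smooth (m + 1) _
  obtain ⟨H₀, hH₀⟩ := exists_quadAt (n := m + 1) i χ₀ hd
  obtain ⟨fq, hfq, hfq0, hfqQ⟩ := exists_quadAt_nbhd i χ₀ H₀ hH₀
  let L := badSub i j χ₀ d
  have : Module.Finite k (Form r k d) := Module.Finite.equiv formEquiv.symm
  haveI : Module.Free k L := Module.Free.of_divisionRing k L
  let b := Module.finBasis k L
  let G : Fin (Module.finrank k L) → Form r k d := fun t => (b t).1
  have hrepr : ∀ H : L, (H : Form r k d) = ∑ t, b.repr H t • G t := fun H =>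
    (congrArg Subtype.val (b.sum_repr H)).symm.trans (by
      simp only [AddSubmonoidClass.coe_finset_sum, Submodule.coe_smul, G])
  have hGb : ∀ c : Fin (Module.finrank k L) → k, Bad i j χ₀ (∑ t, c t • G t) := fun c =>
    (mem_badSub i).1 (Submodule.sum_mem _ fun t _ => Submodule.smul_mem _ _ (b t).2)
  let Class : ∀ (l : Fin (r + 1)), (Γ(X, piece i l) →ₐ[k] k) → Prop := fun l χ =>
    3 ≤ d ∨ ∃ N : Form r k 1, Bad i j χ₀ N ∧ χ (pform i l N) ≠ 0
  -- the local equations
  have hloc : ∀ (l : Fin (r + 1)) (χ₁ : Γ(X, piece i l) →ₐ[k] k), ptX i l χ₁ ≠ ptX i j χ₀ →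
      ∃ (a : Γ(X, piece i l)) (p : MvPolynomial (Fin (Module.finrank k L)) k), χ₁ a ≠ 0 ∧ p ≠ 0 ∧
        ∀ (χ : Γ(X, piece i l) →ₐ[k] k) (c : Fin (Module.finrank k L) → k), χ a ≠ 0 → (Class l χ ↔ Class l χ₁) →
          Bad i l χ (∑ t, c t • G t) → MvPolynomial.eval c p = 0 := by
    intro l χ₁ hne
    obtain ⟨U, hU0, hU1⟩ := exists_separating_linear i χ₀ χ₁ hne
    have hsq : ∀ {x : Γ(X, piece i l)} {y : Γ(X, piece i l)}, χ₁ x ≠ 0 → x * y ∈ RingHom.ker χ₁.toRingHom ^ 2 →
        y ∈ RingHom.ker χ₁.toRingHom ^ 2 := by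
      intro x z hx hxz
      have hz : z ∈ RingHom.ker χ₁.toRingHom := by
        have := Ideal.pow_le_self two_ne_zero hxz
        change χ₁ (x * z) = 0 at this
        rw [map_mul] at this
        exact (mul_eq_zero.1 this).resolve_left hx
      have h1 : algebraMap k _ (χ₁ x) * z ∈ RingHom.ker χ₁.toRingHom ^ 2 := by
        have h2 : (x - algebraMap k _ (χ₁ x)) * z ∈ RingHom.ker χ₁.toRingHom ^ 2 := by
          rw [pow_two]
          refine Ideal.mul_mem_mul ?_ hz
          show χ₁ (x - algebraMap k _ (χ₁ x)) = 0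
          rw [map_sub, χ₁.commutes]; simp
        have := sub_mem hxz h2
        rwa [← sub_mul, sub_sub_cancel] at this
      have := Ideal.mul_mem_left _ (algebraMap k _ (χ₁ x)⁻¹) h1
      rwa [← mul_assoc, ← map_mul, inv_mul_cancel₀ hx, map_one, one_mul] at this
    -- coordinates of forms in `L`
    have hcoord : ∀ {s : ℕ} (T : Fin s → Form r k d), (∀ t, Bad i j χ₀ (T t)) →
        ∃ x : Fin s → Fin (Module.finrank k L) → k, ∀ t, ∑ a, x t a • G a = T t := fun T hT =>
      ⟨fun t a => b.repr ⟨T t, hT t⟩ a, fun t => (hrepr ⟨T t, hT t⟩).symm⟩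
    have hprod : ∀ {e f s : ℕ} (h : e + f = d) (V : Form r k e) (T : Fin s → Form r k f), χ₁ (pform i l V) ≠ 0 →
        (∀ t, Bad i j χ₀ (mulForm h V (T t))) → (∀ c : Fin s → k, Bad i l χ₁ (∑ t, c t • T t) → c = 0) →
        ∃ x : Fin s → Fin (Module.finrank k L) → k,
          ∀ c : Fin s → k, Bad i l χ₁ (∑ t, c t • ∑ a, x t a • G a) → c = 0 := by
      intro e f s h V T hV hT hindep
      obtain ⟨x, hx⟩ := hcoord (fun t => mulForm h V (T t)) hT
      refine ⟨x, fun c hc => hindep c (hsq hV ?_)⟩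
      simp only [hx] at hc
      unfold Bad at hc
      rw [pform_sum] at hc ⊢
      simpa only [pform_mulForm, Finset.mul_sum, mul_smul_comm] using hc
    by_cases hgood : Class l χ₁
    · obtain ⟨e, f, hef, hf, V, hVb, hV⟩ : ∃ (e f : ℕ) (_ : e + f = d) (_ : 1 ≤ f) (V : Form r k e),
          Bad i j χ₀ V ∧ χ₁ (pform i l V) ≠ 0 := by
        by_cases h3 : 3 ≤ d
        · refine ⟨2, d - 2, by omega, by omega, mulForm (show 1 + 1 = 2 from rfl) U U, ?_, ?_⟩
          · unfold Bad
            rw [pform_mulForm, pow_two]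
            exact Ideal.mul_mem_mul hU0 hU0
          · rw [pform_mulForm, map_mul]
            exact mul_ne_zero hU1 hU1
        · obtain ⟨N, hN, hN1⟩ := hgood.resolve_left h3
          exact ⟨1, d - 1, by omega, by omega, N, hN, hN1⟩
      obtain ⟨T, hT⟩ := exists_jet_forms (n := m + 1) i χ₁ hf
      obtain ⟨x, hx⟩ := hprod hef V T hV (fun t => by
        unfold Bad at hVb ⊢
        rw [pform_mulForm]
        exact Ideal.mul_mem_right _ _ hVb) hT
      obtain ⟨a, p, ha, hp, hp'⟩ := exists_local_elim (n := m + 1) i χ₁ G x hx 0 (.inl (Nat.lt_succ_self _))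
      exact ⟨a, p, ha, hp, fun χ c hχ _ hb => hp' χ c hχ (map_zero χ) hb⟩
    · have hd2 : d = 2 := by
        by_contra h
        exact hgood (.inl (by omega))
      obtain ⟨N, hN, hNne⟩ := hcase.resolve_left (by omega)
      have hNl : pform i l N ≠ 0 := pform_ne_zero i ⟨⟨_, ptX_mem i j χ₀⟩⟩ ⟨⟨_, ptX_mem i l χ₁⟩⟩ hNne
      let ev : Form r k 1 →ₗ[k] k :=
        { toFun := fun T => χ₀ (pform i j T)
          map_add' := fun a b => by rw [pform_add, map_add]
          map_smul' := fun t a => by rw [pform_smul, map_smul]; rfl }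
      obtain ⟨T, hT0, hT⟩ := exists_jet_forms_vanish (n := m + 1) i χ₁ le_rfl ev
      obtain ⟨x, hx⟩ := hprod (show 1 + 1 = d by omega) U T hU1 (fun t => by
        unfold Bad
        rw [pform_mulForm, pow_two]
        exact Ideal.mul_mem_mul hU0 (hT0 t)) hT
      obtain ⟨a, p, ha, hp, hp'⟩ :=
        exists_local_elim (n := m + 1) i χ₁ G x hx (pform i l N) (.inr ⟨le_rfl, hNl⟩)
      refine ⟨a, p, ha, hp, fun χ c hχ hcl hb => hp' χ c hχ ?_ hb⟩
      by_contra hne'
      exact hgood (hcl.1 (.inr ⟨N, hN, hne'⟩))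
  -- finitely many equations
  have hglob : ∀ (l : Fin (r + 1)) (C : Prop), ∃ p : MvPolynomial (Fin (Module.finrank k L)) k, p ≠ 0 ∧
      ∀ (χ : Γ(X, piece i l) →ₐ[k] k) (c : Fin (Module.finrank k L) → k), ptX i l χ ≠ ptX i j χ₀ → (Class l χ ↔ C) →
        Bad i l χ (∑ t, c t • G t) → MvPolynomial.eval c p = 0 := by
    intro l C
    have : Algebra.FiniteType k Γ(X, piece i l) := ⟨Subalgebra.fg_def.2 ⟨_, Set.finite_range _, adjoin_pcoord i l⟩⟩
    have : IsNoetherianRing Γ(X, piece i l) := Algebra.FiniteType.isNoetherianRing k _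
    let P := {χ : Γ(X, piece i l) →ₐ[k] k // ptX i l χ ≠ ptX i j χ₀ ∧ (Class l χ ↔ C)}
    choose a p ha hp hp' using fun χ : P => hloc l χ.1 χ.2.1
    obtain ⟨T, hT⟩ : ∃ T : Finset P, ∀ χ : P, a χ ∈ Ideal.span (a '' T) := by
      obtain ⟨S, hS⟩ := IsNoetherian.noetherian (Ideal.span (Set.range a))
      have hsub : ∀ x ∈ S, x ∈ Submodule.span Γ(X, piece i l) (Set.range a) := fun x hx =>
        hS.le (Submodule.subset_span hx)
      choose T hT hT' using fun x (hx : x ∈ S) => Submodule.mem_span_finite_of_mem_span (hsub x hx)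
      choose g hg using fun x hx y (hy : y ∈ T x hx) => hT x hx hy
      refine ⟨S.attach.biUnion fun x => (T x.1 x.2).attach.image fun y => g x.1 x.2 y.1 y.2, fun χ => ?_⟩
      refine (hS.ge.trans (Submodule.span_le.2 fun x hx => ?_)) (Ideal.subset_span ⟨χ, rfl⟩)
      refine Submodule.span_mono ?_ (hT' x hx)
      intro y hy
      exact ⟨g x hx y hy, Finset.mem_coe.2 (Finset.mem_biUnion.2 ⟨⟨x, hx⟩, Finset.mem_attach _ _,
        Finset.mem_image.2 ⟨⟨y, hy⟩, Finset.mem_attach _ _, rfl⟩⟩), hg x hx y hy⟩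
    refine ⟨∏ χ ∈ T, p χ, Finset.prod_ne_zero_iff.2 fun χ _ => hp χ, fun χ c hne hC hb => ?_⟩
    obtain ⟨χ', hχ', hne'⟩ : ∃ χ' ∈ T, χ (a χ') ≠ 0 := by
      by_contra hc
      push Not at hc
      have hle : Ideal.span (a '' T) ≤ RingHom.ker χ.toRingHom := Ideal.span_le.2 (by
        rintro _ ⟨χ', hχ', rfl⟩; exact hc χ' hχ')
      exact ha ⟨χ, hne, hC⟩ (hle (hT _))
    rw [map_prod]
    exact Finset.prod_eq_zero hχ' (hp' χ' χ c hne' (hC.trans χ'.2.2.symm) hb)
  choose p₁ hp₁ hp₁' using fun l => hglob l True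
  choose p₂ hp₂ hp₂' using fun l => hglob l False
  obtain ⟨Pq, hPq⟩ := hfq.comp (g := fun (c : Fin (Module.finrank k L) → k) β => formCoeff β (∑ t, c t • G t))
    (fun β => by
      simp only [map_sum, map_smul, smul_eq_mul]
      exact .sum _ fun t _ => (PolyFn.proj t).mul (.const _))
  have hPq0 : Pq ≠ 0 := by
    intro h0
    have hm : H₀ ∈ L := hH₀.mem_sq
    have := hPq (b.repr ⟨H₀, hm⟩)
    rw [h0, map_zero] at this
    simp only at this
    rw [← hrepr ⟨H₀, hm⟩] at this
    exact hfq0 this.symm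
  have hprod0 : Pq * ∏ l, (p₁ l * p₂ l) ≠ 0 :=
    mul_ne_zero hPq0 (Finset.prod_ne_zero_iff.2 fun l _ => mul_ne_zero (hp₁ l) (hp₂ l))
  obtain ⟨c, hc⟩ : ∃ c, MvPolynomial.eval c (Pq * ∏ l, (p₁ l * p₂ l)) ≠ 0 := by
    by_contra hc
    push Not at hc
    exact hprod0 (MvPolynomial.funext fun c => by rw [hc, map_zero])
  rw [map_mul, mul_ne_zero_iff, map_prod, Finset.prod_ne_zero_iff] at hc
  obtain ⟨hc1, hc2⟩ := hc
  rw [hPq] at hc1
  refine ⟨∑ t, c t • G t, (oneOrdQuad_iff i _).2 ⟨j, χ₀, hfqQ _ (hGb c) hc1, fun l χ hb => ?_⟩⟩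
  by_contra hne
  have h12 := hc2 l (Finset.mem_univ l)
  rw [map_mul, mul_ne_zero_iff] at h12
  by_cases hC : Class l χ
  · exact h12.1 (hp₁' l χ c hne ⟨fun _ => trivial, fun _ => hC⟩ hb)
  · exact h12.2 (hp₂' l χ c hne ⟨hC, False.elim⟩ hb)

/-- The quadrics on a linear variety. -/
theorem exists_oneOrdQuad_linear [IsAlgClosed k] [IsClosedImmersion i] [IsIntegral X] {m : ℕ}
    [SmoothOfRelativeDimension (m + 1) (i ≫ CohB1.ProjSpace.toSpec r k)] {j : Fin (r + 1)}
    (χ₀ : Γ(X, piece i j) →ₐ[k] k) (hlin : ∀ N : Form r k 1, Bad i j χ₀ N → pform i j N = 0) :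
    ∃ H : Form r k 2, OneOrdQuad k (m + 1) i H := by
  classical
  have : Smooth (i ≫ CohB1.ProjSpace.toSpec r k) := SmoothOfRelativeDimension.smooth (m + 1) _
  have hA : ∀ j, RingHom.Locally (RingHom.IsStandardSmoothOfRelativeDimension (m + 1)) (algebraMap k Γ(X, piece i j)) :=
    fun j => by rw [RingHom.algebraMap_toAlgebra]; exact locally_piece i j
  obtain ⟨u, hu⟩ := exists_params (hA j) χ₀
  choose L hL using fun a => exists_linear_jet i χ₀ (u a)
  let Xj : Form r k 1 := ⟨MvPolynomial.X j, X_mem r k j⟩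
  have hL0 : ∀ a, χ₀ (pform i j (L a)) = 0 := fun a => by
    have := sub_mem (hu.mem a) (Ideal.pow_le_self two_ne_zero (hL a))
    rwa [sub_sub_cancel] at this
  -- every linear form is a combination of the chosen ones on `X`
  have hspan : ∀ U : Form r k 1, ∃ e : Fin (m + 1) → k, ∀ l (_ : Nonempty (piece i l)),
      pform i l U = χ₀ (pform i j U) • pform i l Xj + ∑ a, e a • pform i l (L a) := by
    intro U
    have hXj : pform i j Xj = 1 := by rw [pform_X, pcoord_self]
    obtain ⟨e, he⟩ := hu.span (hA j) (pform i j U - algebraMap k _ (χ₀ (pform i j U))) (by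
      show χ₀ _ = 0
      rw [map_sub, χ₀.commutes]; simp)
    let N : Form r k 1 := U - χ₀ (pform i j U) • Xj - ∑ a, e a • L a
    have hN : ∀ l, pform i l N = pform i l U - χ₀ (pform i j U) • pform i l Xj - ∑ a, e a • pform i l (L a) := fun l => by
      simp only [N, pform_eq_aeval, AddSubgroupClass.coe_sub, Submodule.coe_smul, AddSubmonoidClass.coe_finset_sum,
        map_sub, map_smul, map_sum]
    have hb : Bad i j χ₀ N := by
      unfold Bad
      rw [hN, hXj, ← Algebra.algebraMap_eq_smul_one]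
      have := add_mem he (Ideal.sum_mem _ (t := Finset.univ) fun a (_ : a ∈ Finset.univ) =>
        show e a • u a - e a • pform i j (L a) ∈ RingHom.ker χ₀.toRingHom ^ 2 by
          rw [← smul_sub, Algebra.smul_def]; exact Ideal.mul_mem_left _ _ (hL a))
      rwa [Finset.sum_sub_distrib, sub_add_sub_cancel] at this
    refine ⟨e, fun l hl => ?_⟩
    have h0 : pform i l N = 0 := by
      by_contra hne
      exact pform_ne_zero i hl ⟨⟨_, ptX_mem i j χ₀⟩⟩ hne (hlin N hb)
    rw [hN, sub_sub, sub_eq_zero] at h0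
    exact h0
  let q := splitTable k (m + 1)
  let P : MvPolynomial (Fin (r + 1)) k := ∑ a, ∑ b, if a ≤ b then MvPolynomial.C (q a b) * (L a).1 * (L b).1 else 0
  have hP : P.IsHomogeneous 2 := by
    refine MvPolynomial.IsHomogeneous.sum _ _ _ fun a _ => MvPolynomial.IsHomogeneous.sum _ _ _ fun b _ => ?_
    split_ifs
    · exact ((MvPolynomial.isHomogeneous_C _ _).mul (L a).2).mul (L b).2
    · exact MvPolynomial.isHomogeneous_zero _ _ _
  let H : Form r k 2 := ⟨P, (MvPolynomial.mem_homogeneousSubmodule _ _).2 hP⟩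
  have hH : ∀ l, pform i l H = VanCyc.quadEval (fun a b => algebraMap k _ (q a b)) fun a => pform i l (L a) := fun l => by
    simp only [pform_eq_aeval, H, P, map_sum]
    unfold VanCyc.quadEval
    refine Finset.sum_congr rfl fun a _ => Finset.sum_congr rfl fun b _ => ?_
    split_ifs
    · rw [map_mul, map_mul, MvPolynomial.aeval_C]
    · exact map_zero _
  have hord := quadOrd_splitTable k (m + 1)
  have hquad : QuadAt (m + 1) χ₀ (pform i j H) := by
    refine ⟨u, q, hu, hord, ?_⟩
    rw [hH, ← neg_sub]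
    exact neg_mem (quadEval_mem_congr _ hu.mem (fun a => hL0 a) hL)
  refine ⟨H, (oneOrdQuad_iff i H).2 ⟨j, χ₀, hquad, fun l χ hb => ?_⟩⟩
  have hl : Nonempty (piece i l) := ⟨⟨_, ptX_mem i l χ⟩⟩
  set M := RingHom.ker χ.toRingHom
  let z : Fin (m + 1) → Γ(X, piece i l) := fun a => pform i l (L a)
  let Y : Fin (m + 2) → Γ(X, piece i l) := Fin.cons (pform i l Xj) z
  obtain ⟨T, hT⟩ := exists_jet_forms (n := m + 1) i χ (le_refl 1)
  choose e he using fun t => hspan (T t)
  have hY : ∀ c : Fin (m + 2) → k, ∑ t, c t • Y t ∈ M ^ 2 → c = 0 := by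
    let mat : Matrix (Fin (m + 2)) (Fin (m + 2)) k := fun t => Fin.cons (χ₀ (pform i j (T t))) (e t)
    have hmat : ∀ t, pform i l (T t) = ∑ w, mat t w • Y w := fun t => by
      conv_rhs => rw [Fin.sum_univ_succ]
      rw [he t l hl]
      simp [mat, Y, z]
    have hinj : Function.Injective (Matrix.vecMul · mat) := by
      refine (injective_iff_map_eq_zero (Matrix.vecMulLinear mat)).2 fun c hc => hT c ?_
      unfold Bad
      rw [pform_sum]
      have : ∑ t, c t • pform i l (T t) = ∑ w, (Matrix.vecMul c mat) w • Y w := by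
        simp only [hmat, Finset.smul_sum, smul_smul, Matrix.vecMul, dotProduct, Finset.sum_smul]
        exact Finset.sum_comm
      rw [this, show Matrix.vecMul c mat = 0 from hc]
      simp
    intro c hc
    obtain ⟨c', rfl⟩ := (LinearMap.injective_iff_surjective (f := Matrix.vecMulLinear mat)).1 hinj c
    have hc' : c' = 0 := hT c' (by
      unfold Bad
      rw [pform_sum]
      have : ∑ t, c' t • pform i l (T t) = ∑ w, (Matrix.vecMul c' mat) w • Y w := by
        simp only [hmat, Finset.smul_sum, smul_smul, Matrix.vecMul, dotProduct, Finset.sum_smul]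
        exact Finset.sum_comm
      rw [this]
      exact hc)
    rw [hc', map_zero]
  let b : Fin (m + 1) → k := fun a => χ (z a)
  have hval : VanCyc.quadEval q b = 0 := by
    have := hb.eval_eq_zero
    rwa [hH, map_quadEval_const] at this
  have hlin' : ∑ a, (VanCyc.polarMatrix q).mulVec b a • z a ∈ M ^ 2 := by
    have hz : ∀ a, z a - algebraMap k _ (b a) ∈ M := fun a => by
      show χ (z a - algebraMap k _ (b a)) = 0
      rw [map_sub, χ.commutes]; simp [b]
    have hb' : pform i l H ∈ M ^ 2 := hb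
    rw [hH, show (fun a => pform i l (L a)) = (fun a => algebraMap k _ (b a)) + fun a => z a - algebraMap k _ (b a) from
      funext fun a => by simp [z], quadEval_taylor] at hb'
    have h2 := quadEval_mem_sq (fun a c => algebraMap k Γ(X, piece i l) (q a c)) hz
    have h1 := sub_mem hb' h2
    rw [add_sub_cancel_right] at h1
    have e0 : VanCyc.quadEval (fun a c => algebraMap k Γ(X, piece i l) (q a c)) (fun a => algebraMap k _ (b a)) =
        algebraMap k _ (VanCyc.quadEval q b) := by
      simp only [VanCyc.quadEval, map_sum, apply_ite (algebraMap k Γ(X, piece i l)), map_mul, map_zero]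
    have e1 : ∀ a, (VanCyc.polarMatrix fun a c => algebraMap k Γ(X, piece i l) (q a c)).mulVec (fun a => algebraMap k _ (b a)) a =
        algebraMap k _ ((VanCyc.polarMatrix q).mulVec b a) := fun a => by
      simp only [Matrix.mulVec, dotProduct, map_sum, map_mul]
      refine Finset.sum_congr rfl fun c _ => congrArg (· * _) ?_
      simp only [VanCyc.polarMatrix]
      split_ifs <;> simp [map_mul, map_ofNat]
    rw [e0, hval, map_zero, zero_add] at h1
    simp only [e1, mul_sub, Finset.sum_sub_distrib, ← map_mul] at h1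
    rw [← map_sum, show ∑ a, (VanCyc.polarMatrix q).mulVec b a * b a = 0 by
      have h2 := quadEval_taylor q b b
      have h4 : VanCyc.quadEval q (b + b) = 4 * VanCyc.quadEval q b := by
        simp only [VanCyc.quadEval, Finset.mul_sum, Pi.add_apply, mul_ite, mul_zero]
        exact Finset.sum_congr rfl fun a _ => Finset.sum_congr rfl fun c _ => by split_ifs <;> ring
      rw [h4, hval, mul_zero, zero_add, add_zero] at h2
      exact h2.symm, map_zero, sub_zero] at h1
    simpa [Algebra.smul_def] using h1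
  have hc := hY (Fin.cons 0 ((VanCyc.polarMatrix q).mulVec b)) (by
    rw [Fin.sum_univ_succ]; simpa [Y] using hlin')
  have hb0 : b = 0 := hord b hval (funext fun a => by simpa using congrFun hc a.succ)
  -- the coordinates are proportional
  have hcoord : ∀ t, χ (pcoord i l t) = χ₀ (pcoord i j t) * χ (pcoord i l j) := fun t => by
    obtain ⟨e', he'⟩ := hspan ⟨MvPolynomial.X t, X_mem r k t⟩
    have := congrArg χ (he' l hl)
    simp only [pform_X, Xj, map_add, map_sum, map_smul, show ∀ a, χ (pform i l (L a)) = 0 from congrFun hb0,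
      smul_zero, mul_zero, Finset.sum_const_zero, add_zero, smul_eq_mul] at this
    exact this
  have hwj : χ (pcoord i l j) ≠ 0 := fun h0 => by
    have := hcoord l
    rw [algHom_pcoord_self, h0, mul_zero] at this
    exact one_ne_zero this
  exact (ptX_eq_of_coord i (v := fun t => χ (pcoord i l t)) (j := j) (l := l) hwj
    (by simp [pcoord_self]) (fun t => by rw [hcoord t, mul_comm]) (fun t => by simp [pcoord_self])).symm

theorem exists_oneOrdQuad [IsAlgClosed k] [IsClosedImmersion i] [IsIntegral X] {m : ℕ}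
    [SmoothOfRelativeDimension (m + 1) (i ≫ CohB1.ProjSpace.toSpec r k)] (hd : 2 ≤ d) :
    ∃ H : Form r k d, OneOrdQuad k (m + 1) i H := by
  classical
  have : Smooth (i ≫ CohB1.ProjSpace.toSpec r k) := SmoothOfRelativeDimension.smooth (m + 1) _
  obtain ⟨x⟩ : Nonempty X := inferInstance
  obtain ⟨j, hj⟩ := ProjCoord.exists_mem_U k r (i x)
  have : Nonempty (piece i j) := ⟨⟨x, hj⟩⟩
  have : Algebra.FiniteType k Γ(X, piece i j) := ⟨Subalgebra.fg_def.2 ⟨_, Set.finite_range _, adjoin_pcoord i j⟩⟩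
  obtain ⟨M, hM⟩ := Ideal.exists_maximal Γ(X, piece i j)
  obtain ⟨χ₀, -⟩ := exists_algHom_of_isMaximal i j M
  by_cases hcase : 3 ≤ d ∨ ∃ N : Form r k 1, Bad i j χ₀ N ∧ pform i j N ≠ 0
  · exact exists_oneOrdQuad_of_nondeg i hd χ₀ hcase
  · simp only [not_or, not_exists, not_and, not_not, not_le] at hcase
    obtain rfl : d = 2 := by omega
    exact exists_oneOrdQuad_linear i χ₀ hcase.2

end Groth.Agent.An92.Lef
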