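import Groth.Agent.An92.Lef.Points
import Groth.Agent.An92.Lef.Elim

/-! The forms cutting transversally form a Zariski open set. -/

universe u

open CategoryTheory CategoryTheory.Limits AlgebraicGeometry Opposite TopologicalSpace
open scoped TensorProduct

noncomputable section

set_option backward.isDefEq.respectTransparency false

namespace Groth.Agent.An92.Lef

open LefPen Groth.Agent.Var76 KaehlerDifferential

theorem exists_derivation {k A : Type u} [Field k] [CommRing A] [Algebra k A] [Algebra.Smooth k A]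
    (χ : A →ₐ[k] k) {φ : A} (hφ : χ φ = 0) (h2 : φ ∉ RingHom.ker χ.toRingHom ^ 2) :
    ∃ Δ : Derivation k A A, χ (Δ φ) ≠ 0 := by
  letI := χ.toRingHom.toAlgebra
  have : IsScalarTower k A k := IsScalarTower.of_algebraMap_eq fun c => (χ.commutes c).symm
  by_contra h
  push Not at h
  refine h2 ((SmoothCrit.D_eq_zero_iff k (κ := k) (fun c => ⟨c, rfl⟩) (RingHom.mem_ker.2 hφ)).1 ?_)
  obtain ⟨s, hs⟩ := Module.projective_def'.1 (inferInstance : Module.Projective A Ω[A⁄k])
  have hdec : D k A φ = Finsupp.linearCombination A (_root_.id : Ω[A⁄k] → Ω[A⁄k]) (s (D k A φ)) :=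
    (LinearMap.congr_fun hs _).symm
  rw [hdec, Finsupp.linearCombination_apply, Finsupp.sum, TensorProduct.tmul_sum]
  refine Finset.sum_eq_zero fun t _ => ?_
  rw [TensorProduct.tmul_smul, TensorProduct.smul_tmul', Algebra.smul_def, mul_one]
  have := h (((Finsupp.lapply t).comp s).compDer (D k A))
  rw [show algebraMap A k (s (D k A φ) t) = 0 from this, TensorProduct.zero_tmul]

theorem exists_algHom_eval {k A : Type u} [Field k] [CommRing A] [Algebra k A] {ι : Type} (y : ι → A)
    (hy : Algebra.adjoin k (Set.range y) = ⊤) (a : ι → k)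
    (h : ∀ g : MvPolynomial ι k, MvPolynomial.aeval y g = 0 → MvPolynomial.eval a g = 0) :
    ∃ χ : A →ₐ[k] k, ∀ t, χ (y t) = a t := by
  have hs : Function.Surjective (MvPolynomial.aeval (R := k) y) := by
    rw [← AlgHom.range_eq_top, ← Algebra.adjoin_range_eq_range_aeval, hy]
  refine ⟨(Ideal.Quotient.liftₐ _ (MvPolynomial.aeval (R := k) a) h).comp
    (Ideal.quotientKerAlgEquivOfSurjective hs).symm.toAlgHom, fun t => ?_⟩
  have : (Ideal.quotientKerAlgEquivOfSurjective hs).symm (y t) = Ideal.Quotient.mk _ (MvPolynomial.X t) :=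
    (AlgEquiv.symm_apply_eq _).2 (MvPolynomial.aeval_X y t).symm
  simp [this]

variable {k : Type u} [Field k] {r : ℕ} {X : Scheme.{u}} (i : X ⟶ CohB1.ProjSpace r k)

theorem algHom_pcoord_self {j : Fin (r + 1)} (χ : Γ(X, piece i j) →ₐ[k] k) : χ (pcoord i j j) = 1 := by
  rw [pcoord_self, map_one]

/-- The form is tangent to `X` at the point with coordinates `v`. -/
def BadAt {d : ℕ} (v : Fin (r + 1) → k) (H : Form r k d) : Prop :=
  ∃ (j : Fin (r + 1)) (χ : Γ(X, piece i j) →ₐ[k] k),
    v j ≠ 0 ∧ (∀ t, v j * χ (pcoord i j t) = v t) ∧ Bad i j χ H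

theorem BadAt.chart [IsClosedImmersion i] {d : ℕ} {v : Fin (r + 1) → k} {H : Form r k d} (h : BadAt i v H)
    {j : Fin (r + 1)} (hj : v j ≠ 0) :
    ∃ χ : Γ(X, piece i j) →ₐ[k] k, (∀ t, v j * χ (pcoord i j t) = v t) ∧ Bad i j χ H := by
  obtain ⟨l, χ, hl, hχ, hb⟩ := h
  have hne : χ (pcoord i l j) ≠ 0 := fun h0 => hj (by rw [← hχ j, h0, mul_zero])
  obtain ⟨χ', hc, hbad⟩ := exists_transition i l j χ hne
  refine ⟨χ', fun t => ?_, (hbad H).1 hb⟩
  rw [← hχ t, ← hχ j, mul_assoc, hc]

theorem not_transversal_iff_badAt [IsAlgClosed k] [IsClosedImmersion i] {n : ℕ} (hn : 1 ≤ n)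
    [SmoothOfRelativeDimension n (i ≫ CohB1.ProjSpace.toSpec r k)] {d : ℕ} (H : Form r k d) :
    ¬ Transversal k n 1 (secToSpec i ({H} : Set (Form r k d))) ↔ ∃ v, BadAt i v H := by
  rw [not_transversal_iff i hn H]
  constructor
  · rintro ⟨j, χ, hb⟩
    refine ⟨fun t => χ (pcoord i j t), j, χ, ?_, fun t => ?_, hb⟩
    · show χ (pcoord i j j) ≠ 0
      rw [algHom_pcoord_self]; exact one_ne_zero
    · show χ (pcoord i j j) * χ (pcoord i j t) = χ (pcoord i j t)
      rw [algHom_pcoord_self, one_mul]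
  · rintro ⟨v, j, χ, -, -, hb⟩
    exact ⟨j, χ, hb⟩

/-- The generic form, as a polynomial in the coordinates. -/
def genForm (r d : ℕ) (k : Type u) [Field k] : MvPolynomial (Fin (r + 1)) (MvPolynomial (Expo r d) k) :=
  ∑ β : Expo r d, MvPolynomial.monomial β.1 (MvPolynomial.X β)

theorem eval_genForm {d : ℕ} (H : Form r k d) :
    spec (fun β => formCoeff β H) (genForm r d k) = H.1 := by
  conv_rhs => rw [← sum_formCoeff H]
  rw [AddSubmonoidClass.coe_finset_sum, genForm, map_sum]
  refine Finset.sum_congr rfl fun β _ => ?_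
  simp [monoForm, MvPolynomial.smul_monomial]

theorem formEquiv_coeff {d : ℕ} (c : Expo r d → k) : (fun β => formCoeff β (formEquiv.symm c)) = c :=
  formEquiv.apply_symm_apply c

/-- Separation on a chart. -/
theorem exists_sep [IsClosedImmersion i] [IsAlgClosed k] {n : ℕ}
    [SmoothOfRelativeDimension n (i ≫ CohB1.ProjSpace.toSpec r k)] {d : ℕ} (j : Fin (r + 1))
    (a₀ : Fin (r + 1) → k) (H₀ : Form r k d)
    (h : ¬ ∃ χ : Γ(X, piece i j) →ₐ[k] k, (∀ t, χ (pcoord i j t) = a₀ t) ∧ Bad i j χ H₀) :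
    ∃ G : MvPolynomial (Fin (r + 1)) (MvPolynomial (Expo r d) k),
      MvPolynomial.eval a₀ (spec (fun β => formCoeff β H₀) G) ≠ 0 ∧
      ∀ (χ : Γ(X, piece i j) →ₐ[k] k) (H : Form r k d), Bad i j χ H →
        MvPolynomial.eval (fun t => χ (pcoord i j t)) (spec (fun β => formCoeff β H) G) = 0 := by
  classical
  by_cases hpt : ∀ g : MvPolynomial (Fin (r + 1)) k, MvPolynomial.aeval (pcoord i j) g = 0 →
      MvPolynomial.eval a₀ g = 0
  swap
  · push Not at hpt
    obtain ⟨g, hg, hg0⟩ := hpt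
    have hmap : ∀ c : Expo r d → k, spec c (MvPolynomial.map MvPolynomial.C g) = g := fun c => by
      rw [spec, MvPolynomial.map_map]
      convert MvPolynomial.map_id g
      ext x
      simp
    refine ⟨MvPolynomial.map MvPolynomial.C g, by rwa [hmap], fun χ H _ => ?_⟩
    rw [hmap, ← MvPolynomial.aeval_eq_eval]
    refine (DFunLike.congr_fun (MvPolynomial.comp_aeval (pcoord i j) χ) g).symm.trans ?_
    rw [AlgHom.comp_apply, hg, map_zero]
  obtain ⟨χ₀, hχ₀⟩ := exists_algHom_eval (pcoord i j) (adjoin_pcoord i j) a₀ hpt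
  have hbad : ¬ Bad i j χ₀ H₀ := fun hb => h ⟨χ₀, hχ₀, hb⟩
  have ha : (fun t => χ₀ (pcoord i j t)) = a₀ := funext hχ₀
  by_cases hval : χ₀ (pform i j H₀) = 0
  swap
  · refine ⟨genForm r d k, ?_, fun χ H hb => ?_⟩
    · rwa [eval_genForm, ← ha, ← algHom_pform]
    · rw [eval_genForm, ← algHom_pform]
      exact hb.eval_eq_zero
  have : Nontrivial Γ(X, piece i j) := ⟨0, 1, fun e => zero_ne_one (α := k) (by
    rw [← map_zero χ₀, e, map_one])⟩
  have hsm : Algebra.Smooth k Γ(X, piece i j) :=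
    (rankAtStalk_eq_of_locally (n := n) (A := Γ(X, piece i j)) (by
      rw [RingHom.algebraMap_toAlgebra]; exact locally_piece i j) (Nonempty.some inferInstance)).1
  obtain ⟨Δ, hΔ⟩ := exists_derivation χ₀ hval hbad
  have hsurj : Function.Surjective (MvPolynomial.aeval (R := k) (pcoord i j)) := by
    rw [← AlgHom.range_eq_top, ← Algebra.adjoin_range_eq_range_aeval, adjoin_pcoord i j]
  choose P hP using fun β : Expo r d => hsurj (Δ (pform i j (monoForm β)))
  let G : MvPolynomial (Fin (r + 1)) (MvPolynomial (Expo r d) k) :=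
    ∑ β : Expo r d, MvPolynomial.C (MvPolynomial.X β) * MvPolynomial.map MvPolynomial.C (P β)
  have hG : ∀ (χ : Γ(X, piece i j) →ₐ[k] k) (H : Form r k d),
      MvPolynomial.eval (fun t => χ (pcoord i j t)) (spec (fun β => formCoeff β H) G) = χ (Δ (pform i j H)) := by
    intro χ H
    conv_rhs => rw [pform_eq_sum i j H, map_sum, map_sum]
    simp only [G, map_sum, spec, map_mul, MvPolynomial.map_C, MvPolynomial.eval_X, MvPolynomial.eval_C,
      MvPolynomial.map_map]
    refine Finset.sum_congr rfl fun β _ => ?_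
    rw [show pconst i j (formCoeff β H) * pform i j (monoForm (k := k) β) =
      formCoeff β H • pform i j (monoForm (k := k) β) from (Algebra.smul_def _ _).symm,
      Derivation.map_smul, map_smul, smul_eq_mul, ← hP β, ← AlgHom.comp_apply, MvPolynomial.comp_aeval]
    congr 1
    rw [MvPolynomial.eval_map, MvPolynomial.aeval_def]
    congr 1
    ext x
    simp
  refine ⟨G, ?_, fun χ H hb => ?_⟩
  · rwa [← ha, hG]
  · rw [hG]
    have hmem := hb
    rw [Bad, pow_two] at hmem
    refine Submodule.mul_induction_on hmem (fun a ha' b hb' => ?_) (fun a b ha' hb' => ?_)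
    · rw [Derivation.leibniz, map_add, smul_eq_mul, smul_eq_mul, map_mul, map_mul,
        show χ a = 0 from ha', show χ b = 0 from hb', zero_mul, zero_mul, add_zero]
    · rw [map_add, map_add, ha', hb', add_zero]

open Classical in
/-- Homogenisation of a chart equation, killed outside the chart. -/
theorem exists_homogenize {R : Type u} [CommRing R] (j : Fin (r + 1)) (G : MvPolynomial (Fin (r + 1)) R) :
    ∃ (e : ℕ) (F : MvPolynomial (Fin (r + 1)) R), F.IsHomogeneous e ∧
      ∀ (φ : R →+* k) (v : Fin (r + 1) → k), MvPolynomial.eval v (MvPolynomial.map φ F) =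
        v j * (if v j = 0 then 0 else v j ^ G.totalDegree * MvPolynomial.eval (fun t => v t / v j) (MvPolynomial.map φ G)) := by
  classical
  let sh : (Fin (r + 1) →₀ ℕ) → (Fin (r + 1) →₀ ℕ) := fun α =>
    α + Finsupp.single j (G.totalDegree - α.degree + 1)
  refine ⟨G.totalDegree + 1, ∑ α ∈ G.support, MvPolynomial.monomial (sh α) (G.coeff α),
    MvPolynomial.IsHomogeneous.sum _ _ _ fun α hα => MvPolynomial.isHomogeneous_monomial _ ?_, fun φ v => ?_⟩
  · have : α.degree ≤ G.totalDegree := by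
      rw [Finsupp.degree_apply]
      exact MvPolynomial.le_totalDegree hα
    simp only [sh, map_add, Finsupp.degree_single]
    omega
  rw [map_sum, map_sum]
  split_ifs with hv
  · rw [mul_zero]
    refine Finset.sum_eq_zero fun α _ => ?_
    rw [MvPolynomial.map_monomial, MvPolynomial.eval_monomial, Finsupp.prod_fintype _ _ (fun _ => pow_zero _),
      Finset.prod_eq_zero (Finset.mem_univ j) (by simp [sh, hv]), mul_zero]
  · conv_rhs => enter [2, 2, 2, 2]; rw [G.as_sum]
    rw [map_sum, map_sum, Finset.mul_sum, Finset.mul_sum]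
    refine Finset.sum_congr rfl fun α hα => ?_
    have hdeg : α.degree ≤ G.totalDegree := by
      rw [Finsupp.degree_apply]
      exact MvPolynomial.le_totalDegree hα
    simp only [MvPolynomial.map_monomial, MvPolynomial.eval_monomial, Finsupp.prod_fintype _ _ (fun _ => pow_zero _)]
    simp only [sh, Finsupp.add_apply, pow_add, Finset.prod_mul_distrib, Finsupp.single_apply, pow_ite, pow_zero,
      Finset.prod_ite_eq, Finset.mem_univ, if_true, div_pow, Finset.prod_div_distrib, Finset.prod_pow_eq_pow_sum]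
    rw [show (∑ t, α t) = α.degree from (Finset.sum_subset (Finset.subset_univ _) (by simp)).symm.trans
      (Finsupp.degree_apply α).symm, pow_one]
    obtain ⟨e, he⟩ := Nat.exists_eq_add_of_le hdeg
    rw [he, Nat.add_sub_cancel_left, pow_add]
    field_simp

theorem isZOpen_transversal [IsAlgClosed k] [IsClosedImmersion i] {n : ℕ} (hn : 1 ≤ n)
    [SmoothOfRelativeDimension n (i ≫ CohB1.ProjSpace.toSpec r k)] {d : ℕ} :
    IsZOpen k {H : Form r k d | Transversal k n 1 (secToSpec i ({H} : Set (Form r k d)))} := by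
  intro H₀ hH₀
  let Z : (Fin (r + 1) → k) → (Expo r d → k) → Prop := fun v c => BadAt i v (formEquiv.symm c)
  have hZ0 : ∀ v c, Z v c → v ≠ 0 := fun v c ⟨j, _, hj, _⟩ hv => hj (by rw [hv]; rfl)
  have hsep : ∀ v₀ c₀, v₀ ≠ 0 → ¬ Z v₀ c₀ →
      ∃ (e : ℕ) (F : MvPolynomial (Fin (r + 1)) (MvPolynomial (Expo r d) k)),
        F.IsHomogeneous e ∧ (∀ v c, Z v c → MvPolynomial.eval v (spec c F) = 0) ∧
          MvPolynomial.eval v₀ (spec c₀ F) ≠ 0 := by
    intro v₀ c₀ hv₀ hnZ
    obtain ⟨j, hj⟩ : ∃ j, v₀ j ≠ 0 := by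
      by_contra hc
      push Not at hc
      exact hv₀ (funext hc)
    obtain ⟨G, hG0, hG⟩ := exists_sep (n := n) i j (fun t => v₀ t / v₀ j) (formEquiv.symm c₀) (by
      rintro ⟨χ, hχ, hb⟩
      exact hnZ ⟨j, χ, hj, fun t => by rw [hχ t, mul_div_cancel₀ _ hj], hb⟩)
    obtain ⟨e, F, hF, hFe⟩ := exists_homogenize (k := k) j G
    refine ⟨e, F, hF, fun v c hZ => ?_, ?_⟩
    · rw [spec, hFe]
      split_ifs with hv
      · rw [hv, zero_mul]
      · obtain ⟨χ, hχ, hb⟩ := BadAt.chart i hZ hv
        have := hG χ _ hb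
        rw [formEquiv_coeff] at this
        rw [show (fun t => v t / v j) = fun t => χ (pcoord i j t) from funext fun t => by
          rw [← hχ t, mul_div_cancel_left₀ _ hv]]
        rw [spec] at this
        rw [this, mul_zero, mul_zero]
    · rw [spec, hFe, if_neg hj]
      rw [formEquiv_coeff] at hG0
      exact mul_ne_zero hj (mul_ne_zero (pow_ne_zero _ hj) hG0)
  obtain ⟨q, hq0, hq⟩ := exists_elim Z hZ0 hsep (fun β => formCoeff β H₀) fun v hZ => by
    refine (not_transversal_iff_badAt i hn H₀).2 ⟨v, ?_⟩ hH₀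
    have : formEquiv.symm (fun β => formCoeff β H₀) = H₀ := formEquiv.symm_apply_apply H₀
    rwa [← this]
  refine ⟨fun H => MvPolynomial.eval (fun β => formCoeff β H) q, isPolyFun_eval _ _, hq0, fun H hH => ?_⟩
  by_contra hT
  obtain ⟨v, hv⟩ := (not_transversal_iff_badAt i hn H).1 hT
  refine hq _ hH v ?_
  show BadAt i v _
  rwa [show formEquiv.symm (fun β => formCoeff β H) = H from formEquiv.symm_apply_apply H]

end Groth.Agent.An92.Lef
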