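import Groth.Agent.An92.Lef.LocalRing
import Groth.Agent.EGA4H10.CompleteJ2
import Groth.Agent.Var76.BertiniAlg

/-! Smooth points and ordinary quadratic points of a hypersurface section of a smooth algebra. -/

universe u

open scoped TensorProduct
open IsLocalRing KaehlerDifferential

noncomputable section

namespace Groth.Agent.An92.Lef

theorem formallySmooth_quotient_of_unit {k P : Type u} [Field k] [CommRing P] [Algebra k P]
    [Algebra.FormallySmooth k P] (φ : P) (Δ : Derivation k P P) (hΔ : IsUnit (Δ φ)) :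
    Algebra.FormallySmooth k (P ⧸ Ideal.span {φ}) := by
  classical
  set I := Ideal.span {φ}
  have hφ : φ ∈ I := Ideal.subset_span rfl
  rw [Algebra.FormallySmooth.iff_split_injection (P := P) Ideal.Quotient.mk_surjective]
  let T := (P ⧸ I) ⊗[P] Ω[P⁄k]
  let e : T := 1 ⊗ₜ D k P φ
  obtain ⟨w, hw⟩ := hΔ
  let ℓ : T →ₗ[P ⧸ I] (P ⧸ I) :=
    (TensorProduct.AlgebraTensorModule.rid P (P ⧸ I) (P ⧸ I)).toLinearMap ∘ₗ
      LinearMap.baseChange (P ⧸ I) ((↑w⁻¹ : P) • Δ.liftKaehlerDifferential)
  have hℓ : ℓ e = 1 := by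
    show (TensorProduct.AlgebraTensorModule.rid P (P ⧸ I) (P ⧸ I))
      (LinearMap.baseChange (P ⧸ I) ((↑w⁻¹ : P) • Δ.liftKaehlerDifferential) (1 ⊗ₜ D k P φ)) = 1
    rw [LinearMap.baseChange_tmul, LinearMap.smul_apply, Derivation.liftKaehlerDifferential_comp_D,
      smul_eq_mul, ← hw, Units.inv_mul]
    rw [TensorProduct.AlgebraTensorModule.rid_tmul, one_smul]
  let κ := RingHom.ker (algebraMap P (P ⧸ I))
  have hker : φ ∈ κ := by simpa [κ, RingHom.mem_ker, Ideal.Quotient.eq_zero_iff_mem] using hφ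
  let c : κ.Cotangent := κ.toCotangent ⟨φ, hker⟩
  let μ : (P ⧸ I) →ₗ[P] κ.Cotangent := Submodule.liftQ I (LinearMap.toSpanSingleton P _ c) (by
    intro x hx
    rw [LinearMap.mem_ker, LinearMap.toSpanSingleton_apply, ← map_smul,
      Ideal.toCotangent_eq_zero, Submodule.coe_smul, pow_two, smul_eq_mul]
    exact Ideal.mul_mem_mul (by simpa [κ, RingHom.mem_ker, Ideal.Quotient.eq_zero_iff_mem] using hx) hker)
  refine ⟨μ.comp (ℓ.restrictScalars P), ?_⟩
  refine LinearMap.ext fun z => ?_
  obtain ⟨⟨x, hx⟩, rfl⟩ := κ.toCotangent_surjective z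
  have hxI : x ∈ I := by simpa [κ, RingHom.mem_ker, Ideal.Quotient.eq_zero_iff_mem] using hx
  obtain ⟨y, rfl⟩ := Ideal.mem_span_singleton'.1 hxI
  rw [LinearMap.comp_apply, kerCotangentToTensor_toCotangent, LinearMap.comp_apply,
    LinearMap.restrictScalars_apply, LinearMap.id_apply]
  have : (1 : P ⧸ I) ⊗ₜ[P] D k P (y * φ) = Ideal.Quotient.mk I y • e := by
    rw [Derivation.leibniz, TensorProduct.tmul_add, TensorProduct.tmul_smul, TensorProduct.tmul_smul,
      ← algebraMap_smul (P ⧸ I) φ, Ideal.Quotient.algebraMap_eq, Ideal.Quotient.eq_zero_iff_mem.2 hφ,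
      zero_smul, add_zero, ← algebraMap_smul (P ⧸ I) y, Ideal.Quotient.algebraMap_eq]
  rw [this, map_smul, hℓ, smul_eq_mul, mul_one]
  show μ (Submodule.Quotient.mk y) = _
  rw [Submodule.liftQ_apply, LinearMap.toSpanSingleton_apply, ← map_smul]
  rfl

theorem exists_derivation_isUnit {k A : Type u} [Field k] [CommRing A] [Algebra k A] (M : Ideal A) [M.IsMaximal]
    [Algebra.Smooth k A] (χ : A →ₐ[k] k) (hM : RingHom.ker χ.toRingHom = M) {φ : A} (h0 : χ φ = 0)
    (h : φ ∉ M ^ 2) :
    ∃ Δ : Derivation k (Localization.AtPrime M) (Localization.AtPrime M), IsUnit (Δ (algebraMap A _ φ)) := by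
  classical
  let L := Localization.AtPrime M
  have : Algebra.FormallyEtale A L := Algebra.FormallyEtale.of_isLocalization M.primeCompl
  have : Algebra.FormallySmooth k L := Algebra.FormallySmooth.comp k A L
  have : Algebra.EssFiniteType A L := Algebra.EssFiniteType.of_isLocalization L M.primeCompl
  have : Algebra.EssFiniteType k L := Algebra.EssFiniteType.comp k A L
  letI := χ.toRingHom.toAlgebra
  have : IsScalarTower k A k := IsScalarTower.of_algebraMap_eq fun c => (χ.commutes c).symm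
  have hne : (1 : k) ⊗ₜ[A] D k A φ ≠ 0 := fun hz => h (by
    have := (Var76.SmoothCrit.D_eq_zero_iff k (κ := k) (fun c => ⟨c, rfl⟩) (RingHom.mem_ker.2 h0)).1 hz
    rwa [← hM])
  by_contra hc
  push Not at hc
  refine hne ?_
  obtain ⟨s, hs⟩ := Module.projective_def'.1 (inferInstance : Module.Projective L Ω[L⁄k])
  have hu : ∀ m : M.primeCompl, IsUnit (algebraMap A k (m : A)) := fun m =>
    Ne.isUnit fun h0 => m.2 (hM.le h0)
  letI : Algebra L k := (IsLocalization.lift (S := L) hu).toAlgebra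
  have : IsScalarTower A L k := IsScalarTower.of_algebraMap_eq fun a => (IsLocalization.lift_eq hu a).symm
  have hz : (1 : k) ⊗ₜ[L] D k L (algebraMap A L φ) = 0 := by
    rw [show D k L (algebraMap A L φ) = Finsupp.linearCombination L (_root_.id : Ω[L⁄k] → Ω[L⁄k]) (s (D k L (algebraMap A L φ))) from
      (LinearMap.congr_fun hs _).symm, Finsupp.linearCombination_apply, Finsupp.sum, TensorProduct.tmul_sum]
    refine Finset.sum_eq_zero fun t _ => ?_
    rw [TensorProduct.tmul_smul, TensorProduct.smul_tmul', Algebra.smul_def, mul_one]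
    have hnu := hc (((Finsupp.lapply t).comp s).compDer (D k L))
    replace hnu := (IsLocalRing.mem_maximalIdeal _).2 hnu
    rw [← IsLocalization.AtPrime.map_eq_maximalIdeal M L] at hnu
    have hM0 : Ideal.map (algebraMap A L) M ≤ RingHom.ker (algebraMap L k) := by
      rw [Ideal.map_le_iff_le_comap]
      intro a ha
      show algebraMap L k (algebraMap A L a) = 0
      rw [← IsScalarTower.algebraMap_apply]
      exact hM.ge ha
    have h0' : algebraMap L k (s (D k L (algebraMap A L φ)) t) = 0 := hM0 hnu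
    rw [h0', TensorProduct.zero_tmul]
  let e := TensorProduct.AlgebraTensorModule.cancelBaseChange A L k k Ω[A⁄k]
  have h1 : e.symm ((1 : k) ⊗ₜ[A] D k A φ) = (1 : k) ⊗ₜ[L] ((1 : L) ⊗ₜ[A] D k A φ) := by
    simp [e, TensorProduct.AlgebraTensorModule.cancelBaseChange_symm_tmul]
  have h2 : (tensorKaehlerEquivOfFormallyEtale k A L).toLinearMap.lTensor k ((1 : k) ⊗ₜ[L] ((1 : L) ⊗ₜ[A] D k A φ)) = 0 := by
    rw [LinearMap.lTensor_tmul]
    show (1 : k) ⊗ₜ[L] (tensorKaehlerEquivOfFormallyEtale k A L) ((1 : L) ⊗ₜ[A] D k A φ) = 0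
    rw [show (tensorKaehlerEquivOfFormallyEtale k A L) ((1 : L) ⊗ₜ[A] D k A φ) = D k L (algebraMap A L φ) by
      rw [tensorKaehlerEquivOfFormallyEtale_apply, mapBaseChange_tmul, map_D, one_smul]]
    exact hz
  have hinj : Function.Injective ((tensorKaehlerEquivOfFormallyEtale k A L).toLinearMap.lTensor k) :=
    (LinearEquiv.lTensor k (tensorKaehlerEquivOfFormallyEtale k A L)).injective
  rw [← map_zero ((tensorKaehlerEquivOfFormallyEtale k A L).toLinearMap.lTensor k)] at h2
  have h3 := hinj h2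
  rw [← h1, e.symm.map_eq_zero_iff] at h3
  exact h3

/-- A hypersurface section in an affine chart. -/
structure Sect (k : Type u) [Field k] (A T : Type u) [CommRing A] [CommRing T] [Algebra k A] [Algebra k T] where
  π : A →ₐ[k] T
  φ : A
  surj : Function.Surjective π
  ker : RingHom.ker π.toRingHom = Ideal.span {φ}

variable {k A T : Type u} [Field k] [CommRing A] [CommRing T] [Algebra k A] [Algebra k T] (S : Sect k A T)
  (χ : A →ₐ[k] k) (N : Ideal T) [N.IsMaximal] (hN : RingHom.ker χ.toRingHom = N.comap S.π.toRingHom)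

theorem Sect.mem_pow_iff (j : ℕ) (x : A) (hN : RingHom.ker χ.toRingHom = N.comap S.π.toRingHom) :
    S.π x ∈ N ^ j ↔ x ∈ Ideal.span {S.φ} ⊔ RingHom.ker χ.toRingHom ^ j := by
  have hmap : (RingHom.ker χ.toRingHom).map S.π.toRingHom = N := by
    rw [hN, Ideal.map_comap_of_surjective S.π.toRingHom S.surj]
  have key : (RingHom.ker χ.toRingHom ^ j).map S.π.toRingHom = N ^ j := by rw [Ideal.map_pow, hmap]
  constructor
  · intro h
    rw [← key] at h
    have h' : x ∈ ((RingHom.ker χ.toRingHom ^ j).map S.π.toRingHom).comap S.π.toRingHom := h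
    rw [Ideal.comap_map_of_surjective' S.π.toRingHom S.surj, S.ker, sup_comm] at h'
    exact h'
  · intro h
    rw [← key]
    show x ∈ ((RingHom.ker χ.toRingHom ^ j).map S.π.toRingHom).comap S.π.toRingHom
    rw [Ideal.comap_map_of_surjective' S.π.toRingHom S.surj, S.ker, sup_comm]
    exact h

include hN

omit [N.IsMaximal] in
theorem Sect.apply_φ : S.π S.φ = 0 ∧ χ S.φ = 0 := by
  have h : S.π S.φ = 0 := (S.ker.ge (Ideal.mem_span_singleton_self S.φ) : _)
  exact ⟨h, hN.ge (show S.φ ∈ N.comap S.π.toRingHom by rw [Ideal.mem_comap]; show S.π S.φ ∈ N; rw [h]; exact zero_mem _)⟩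

/-- Smooth points. -/
theorem Sect.isSmoothAt_iff [IsDomain A] [Algebra.Smooth k A] (hφ : S.φ ≠ 0) :
    Algebra.IsSmoothAt k N ↔ S.φ ∉ RingHom.ker χ.toRingHom ^ 2 := by
  classical
  obtain ⟨hπφ, hχφ⟩ := S.apply_φ χ N hN
  set M := RingHom.ker χ.toRingHom with hMdef
  have : M.IsMaximal := RingHom.ker_isMaximal_of_surjective _ fun c => ⟨algebraMap k A c, χ.commutes c⟩
  let L := Localization.AtPrime M
  let O := Localization.AtPrime N
  have hu : ∀ s : M.primeCompl, IsUnit (algebraMap T O (S.π s)) := fun s =>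
    IsLocalization.map_units O (⟨S.π s, fun h => s.2 (hN.ge h)⟩ : N.primeCompl)
  let ρ : L →ₐ[k] O := IsLocalization.liftAlgHom (M := M.primeCompl)
    (f := (IsScalarTower.toAlgHom k T O).comp S.π) hu
  have hρ : ∀ a, ρ (algebraMap A L a) = algebraMap T O (S.π a) := fun a => IsLocalization.lift_eq _ a
  have hρs : Function.Surjective ρ := by
    intro z
    obtain ⟨t, s, rfl⟩ := IsLocalization.exists_mk'_eq N.primeCompl z
    obtain ⟨a, rfl⟩ := S.surj t
    obtain ⟨b, hb⟩ := S.surj s.1
    have hbM : b ∈ M.primeCompl := fun h => s.2 (by rw [← hb]; exact hN.le h)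
    refine ⟨IsLocalization.mk' L a ⟨b, hbM⟩, ?_⟩
    rw [IsLocalization.eq_mk'_iff_mul_eq, ← hb, ← hρ, ← hρ, ← map_mul, IsLocalization.mk'_spec]
  have hρk : RingHom.ker ρ.toRingHom = Ideal.span {algebraMap A L S.φ} := by
    refine le_antisymm (fun z hz => ?_) ((Ideal.span_singleton_le_iff_mem _).2 ?_)
    · obtain ⟨a, s, rfl⟩ := IsLocalization.exists_mk'_eq M.primeCompl z
      have h0 : ρ (algebraMap A L a) = 0 := by
        have := congrArg ρ (IsLocalization.mk'_spec L a s)
        rw [map_mul, show ρ (IsLocalization.mk' L a s) = 0 from hz, zero_mul] at this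
        exact this.symm
      rw [hρ, IsLocalization.map_eq_zero_iff N.primeCompl] at h0
      obtain ⟨⟨t, ht⟩, hta⟩ := h0
      obtain ⟨b, rfl⟩ := S.surj t
      have hmem : b * a ∈ Ideal.span {S.φ} := S.ker.le (show S.π (b * a) = 0 by rw [map_mul]; exact hta)
      have hbu : IsUnit (algebraMap A L b) := IsLocalization.map_units L (⟨b, fun h => ht (hN.le h)⟩ : M.primeCompl)
      have h1 : algebraMap A L a ∈ Ideal.span {algebraMap A L S.φ} := by
        have := Ideal.mem_map_of_mem (algebraMap A L) hmem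
        rw [Ideal.map_span, Set.image_singleton, map_mul] at this
        exact (Ideal.unit_mul_mem_iff_mem _ hbu).1 this
      rw [IsLocalization.mk'_eq_mul_mk'_one]
      exact Ideal.mul_mem_right _ _ h1
    · show ρ (algebraMap A L S.φ) = 0
      rw [hρ, hπφ, map_zero]
  let e : (L ⧸ Ideal.span {algebraMap A L S.φ}) ≃ₐ[k] O :=
    (Ideal.quotientEquivAlgOfEq k hρk.symm).trans (Ideal.quotientKerAlgEquivOfSurjective hρs)
  have : Algebra.FormallyEtale A L := Algebra.FormallyEtale.of_isLocalization M.primeCompl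
  have : Algebra.FormallySmooth k L := Algebra.FormallySmooth.comp k A L
  constructor
  · intro h hφ2
    have h' : Algebra.FormallySmooth k O := h
    have : Algebra.FormallySmooth k (L ⧸ Ideal.span {algebraMap A L S.φ}) := Algebra.FormallySmooth.of_equiv e.symm
    have : Algebra.EssFiniteType A L := Algebra.EssFiniteType.of_isLocalization L M.primeCompl
    have : Algebra.EssFiniteType k L := Algebra.EssFiniteType.comp k A L
    have : IsDomain L := IsLocalization.isDomain_localization M.primeCompl_le_nonZeroDivisors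
    have hχu : ∀ s : M.primeCompl, IsUnit (χ (s : A)) := fun s => Ne.isUnit fun h0 => s.2 h0
    let χL : L →ₐ[k] k := IsLocalization.liftAlgHom (M := M.primeCompl) (f := χ) hχu
    have hχL : ∀ a, χL (algebraMap A L a) = χ a := fun a => IsLocalization.lift_eq _ a
    refine formallySmooth_not_mem_sq χL (algebraMap A L S.φ) ?_ (by rw [hχL]; exact hχφ) ?_
    · rwa [Ne, IsLocalization.to_map_eq_zero_iff L M.primeCompl_le_nonZeroDivisors]
    · have h2 := Ideal.mem_map_of_mem (algebraMap A L) hφ2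
      rw [Ideal.map_pow] at h2
      refine Ideal.pow_right_mono (Ideal.map_le_iff_le_comap.2 fun a ha => ?_) 2 h2
      show χL (algebraMap A L a) = 0
      rw [hχL]; exact ha
  · intro h
    obtain ⟨Δ, hΔ⟩ := exists_derivation_isUnit M χ rfl hχφ h
    have := formallySmooth_quotient_of_unit (algebraMap A L S.φ) Δ hΔ
    exact Algebra.FormallySmooth.of_equiv e

/-- Ordinary quadratic points. -/
theorem Sect.quadSing_iff {m : ℕ} [Algebra.EssFiniteType k T]
    (hA : RingHom.Locally (RingHom.IsStandardSmoothOfRelativeDimension (m + 1)) (algebraMap k A)) :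
    (∃ f : MvPowerSeries (Fin (m + 1)) k, (VanCyc.NoLowTerms f ∧ VanCyc.QuadOrd (VanCyc.quadPart f)) ∧
      Nonempty (AdicCompletion (maximalIdeal (Localization.AtPrime N)) (Localization.AtPrime N) ≃ₐ[k]
        (MvPowerSeries (Fin (m + 1)) k ⧸ Ideal.span {f}))) ↔ QuadAt (m + 1) χ S.φ := by
  classical
  obtain ⟨hπφ, hχφ⟩ := S.apply_φ χ N hN
  set M := RingHom.ker χ.toRingHom with hMdef
  let P := MvPowerSeries (Fin (m + 1)) k
  constructor
  · intro hs
    obtain ⟨q, f, ε, t, -, hord, hfq, -, hε, ht⟩ := MorseA.exists_chart' T N VanCyc.QuadOrd (fun _ h => h) hs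
    choose u hu using fun i => S.surj (t i)
    refine quadAt_of_presentation hA χ S.φ q hord f (ε.comp S.π) hfq (fun j x => ?_) ?_ u (fun i => ?_) hχφ
    · rw [AlgHom.comp_apply, hε, S.mem_pow_iff χ N j x hN]
    · rw [AlgHom.comp_apply, hπφ, map_zero]
    · rw [AlgHom.comp_apply, hu]; exact ht i
  · intro h
    obtain ⟨ψ, hψ, p, hord, hp⟩ := h.exists_model hA
    let g := ψ S.φ
    have hg2 : g ∈ maximalIdeal P ^ 2 := (hψ.mem_iff 2 _).2 h.mem_sq
    let π' := Ideal.Quotient.mkₐ k (Ideal.span {g})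
    let ε : A →ₐ[k] P ⧸ Ideal.span {g} := π'.comp ψ
    have hker : ∀ a ∈ RingHom.ker S.π.toRingHom, ε a = 0 := fun a ha => by
      rw [S.ker] at ha
      obtain ⟨c, rfl⟩ := Ideal.mem_span_singleton'.1 ha
      rw [map_mul, show ε S.φ = 0 from Ideal.Quotient.eq_zero_iff_mem.2 (Ideal.mem_span_singleton_self g), mul_zero]
    let εT : T →ₐ[k] P ⧸ Ideal.span {g} := AlgHom.liftOfSurjective S.π S.surj ε (fun a ha => hker a ha)
    have hεT : ∀ a, εT (S.π a) = ε a := fun a => AlgHom.liftOfSurjective_apply S.π S.surj ε _ a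
    let nS : Ideal (P ⧸ Ideal.span {g}) := (maximalIdeal P).map (Ideal.Quotient.mk (Ideal.span {g}))
    have hunit : ∀ s : N.primeCompl, IsUnit (εT s) := by
      rintro ⟨s, hs⟩
      obtain ⟨a, rfl⟩ := S.surj s
      rw [hεT]
      refine IsUnit.map (Ideal.Quotient.mk _) (IsLocalRing.notMem_maximalIdeal.1 fun hm => hs ?_)
      have ha : a ∈ M := by
        have := (hψ.mem_iff 1 a).1 (by rwa [pow_one])
        rwa [pow_one] at this
      exact hN.le ha
    let φO : Localization.AtPrime N →ₐ[k] P ⧸ Ideal.span {g} := IsLocalization.liftAlgHom (M := N.primeCompl) hunit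
    have hφO : ∀ b, φO (algebraMap T _ b) = εT b := fun b => IsLocalization.lift_eq _ b
    have hεpow : ∀ j a, ε a ∈ nS ^ j → S.π a ∈ N ^ j := by
      intro j a ha
      change Ideal.Quotient.mk (Ideal.span {g}) (ψ a) ∈ nS ^ j at ha
      rw [← Ideal.map_pow] at ha
      obtain ⟨z, hz, hze⟩ := (Ideal.mem_map_iff_of_surjective _ Ideal.Quotient.mk_surjective).1 ha
      rw [Ideal.Quotient.eq] at hze
      obtain ⟨b, hb⟩ := Ideal.mem_span_singleton'.1 hze
      obtain ⟨b', hb'⟩ := hψ.dense j b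
      refine (S.mem_pow_iff χ N j a hN).2 ?_
      have hmem : a + b' * S.φ ∈ M ^ j := by
        refine (hψ.mem_iff j _).1 ?_
        rw [map_add, map_mul, show ψ a + ψ b' * ψ S.φ = z + (ψ b' - b) * ψ S.φ by linear_combination hb]
        exact add_mem hz (Ideal.mul_mem_right _ _ hb')
      rw [show a = (-b') * S.φ + (a + b' * S.φ) by ring]
      exact add_mem (Ideal.mem_sup_left (Ideal.mul_mem_left _ _ (Ideal.mem_span_singleton_self _))) (Ideal.mem_sup_right hmem)
    have hmk : maximalIdeal (Localization.AtPrime N) = N.map (algebraMap T (Localization.AtPrime N)) :=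
      (IsLocalization.AtPrime.map_eq_maximalIdeal N _).symm
    have hle1 : ∀ x ∈ maximalIdeal (Localization.AtPrime N), φO x ∈ nS := by
      intro x hx
      obtain ⟨b, s, rfl⟩ := IsLocalization.exists_mk'_eq N.primeCompl x
      rw [IsLocalization.AtPrime.mk'_mem_maximal_iff _ N] at hx
      obtain ⟨a, rfl⟩ := S.surj b
      rw [IsLocalization.mk'_eq_mul_mk'_one, map_mul, hφO, hεT]
      refine Ideal.mul_mem_right _ _ (Ideal.mem_map_of_mem _ ?_)
      have := (hψ.mem_iff 1 a).2 (by rw [pow_one]; exact hN.ge hx)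
      rwa [pow_one] at this
    have hsurj : ∀ j y, ∃ x, φO x - y ∈ nS ^ j := by
      intro j y
      obtain ⟨F, rfl⟩ := Ideal.Quotient.mk_surjective y
      obtain ⟨a, ha⟩ := hψ.dense j F
      refine ⟨algebraMap T _ (S.π a), ?_⟩
      rw [hφO, hεT]
      show Ideal.Quotient.mk _ (ψ a) - _ ∈ _
      rw [← map_sub, ← Ideal.map_pow]
      exact Ideal.mem_map_of_mem _ ha
    have hinj : ∀ j x, φO x ∈ nS ^ j → x ∈ maximalIdeal (Localization.AtPrime N) ^ j := by
      intro j x hx
      obtain ⟨b, s, rfl⟩ := IsLocalization.exists_mk'_eq N.primeCompl x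
      obtain ⟨a, rfl⟩ := S.surj b
      have hx' : ε a ∈ nS ^ j := by
        rw [← hεT, ← hφO, ← IsLocalization.mk'_spec (Localization.AtPrime N) (S.π a) s, map_mul]
        exact Ideal.mul_mem_right _ _ hx
      rw [hmk, ← Ideal.map_pow, IsLocalization.mk'_eq_mul_mk'_one]
      exact Ideal.mul_mem_right _ _ (Ideal.mem_map_of_mem _ (hεpow j a hx'))
    have hg1 : g ∈ maximalIdeal P := Ideal.pow_le_self two_ne_zero hg2
    have : Nontrivial (P ⧸ Ideal.span {g}) := Ideal.Quotient.nontrivial_iff.mpr fun htop =>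
      (mem_maximalIdeal _).mp hg1 (Ideal.span_singleton_eq_top.mp htop)
    have : IsLocalRing (P ⧸ Ideal.span {g}) := IsLocalRing.of_surjective' (Ideal.Quotient.mk _) Ideal.Quotient.mk_surjective
    have hmax : maximalIdeal (P ⧸ Ideal.span {g}) = nS :=
      (IsLocalRing.map_maximalIdeal_of_surjective _ Ideal.Quotient.mk_surjective).symm
    have := CAlg6.isRegularLocalRing_mvPowerSeries (k := k) (d := m + 1)
    have := CAlg6.isAdicComplete_maximalIdeal (k := k) (d := m + 1)
    have : IsAdicComplete nS (P ⧸ Ideal.span {g}) := by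
      rw [← hmax]
      exact Groth.Agent.EGA4H10.isAdicComplete_maximalIdeal_of_finite P _
    obtain ⟨E⟩ := QS97.equiv_of_hom nS φO hle1 hsurj hinj
    have hcoef : ∀ e : Fin (m + 1) →₀ ℕ, e.degree < 3 →
        MvPowerSeries.coeff e g = MvPowerSeries.coeff e ((VanCyc.quadPoly p : MvPolynomial (Fin (m + 1)) k) : P) := by
      intro e he
      rw [← sub_eq_zero, ← map_sub]
      exact QS97.ordGE_of_mem_pow 3 hp e he
    refine ⟨g, ⟨⟨?_, fun i => ?_⟩, ?_⟩, ⟨E⟩⟩
    · rw [← MvPowerSeries.coeff_zero_eq_constantCoeff_apply]; exact QS97.ordGE_of_mem_pow 2 hg2 0 (by simp)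
    · exact QS97.ordGE_of_mem_pow 2 hg2 _ (by simp)
    · refine quadOrd_of_eval_eq LinearMap.id Function.injective_id one_ne_zero (fun v => ?_) hord
      rw [one_mul]
      unfold VanCyc.quadEval
      refine Finset.sum_congr rfl fun a _ => Finset.sum_congr rfl fun b _ => ?_
      split_ifs with hab
      · rw [QS97.quadPart_eq g hab, hcoef _ (by simp [QS97.pairExp, map_add]), QS97.coe_quadPoly,
          QS97.coeff_quadEval_pairExp _ hab]
        rfl
      · rfl

end Groth.Agent.An92.Lef
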