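import Mathlib.LinearAlgebra.QuadraticForm.Basis
import Mathlib.FieldTheory.ChevalleyWarning
import Mathlib.RingTheory.MvPolynomial.Homogeneous
import Mathlib.FieldTheory.Finite.Basic
import Mathlib.LinearAlgebra.Dimension.Constructions
import Mathlib.LinearAlgebra.Basis.VectorSpace
import Mathlib.Tactic.LinearCombination

/-! Zeros of quadratic forms over finite fields. -/

universe u

open Module QuadraticMap

noncomputable section

namespace Groth.Agent.An92.Lef

variable {k : Type u} [Field k]

section Split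

variable {V : Type u} [AddCommGroup V] [Module k V] (Q : QuadraticForm k V)

/-- The only singular zero is the origin. -/
def RegQ : Prop := ∀ v, Q v = 0 → (∀ w, polar Q v w = 0) → v = 0

/-- There is a totally isotropic subspace of dimension `m`. -/
def HasIso (m : ℕ) : Prop := ∃ W : Submodule k V, finrank k W = m ∧ ∀ w ∈ W, Q w = 0

theorem q_add (x y : V) : Q (x + y) = Q x + Q y + polar Q x y := by unfold polar; ring

theorem hasIso_of_le [Module.Finite k V] {m : ℕ} (W : Submodule k V) (hW : m ≤ finrank k W)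
    (h : ∀ w ∈ W, Q w = 0) : HasIso Q m := by
  let b := Module.finBasis k W
  let f : Fin m → V := fun i => (b (Fin.castLE hW i)).1
  have hf : LinearIndependent k f :=
    (b.linearIndependent.map' W.subtype (Submodule.ker_subtype W)).comp _ (Fin.castLE_injective hW)
  refine ⟨Submodule.span k (Set.range f), ?_, fun w hw => h w ?_⟩
  · rw [finrank_span_eq_card hf, Fintype.card_fin]
  · exact (Submodule.span_le.2 (by rintro _ ⟨i, rfl⟩; exact (b _).2)) hw

theorem hasIso_zero : HasIso Q 0 :=
  ⟨⊥, finrank_bot k V, fun w hw => by rw [(Submodule.mem_bot k).1 hw, map_zero]⟩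

/-- The orthogonal complement of a hyperbolic pair. -/
def pairPerp (u w : V) : Submodule k V := LinearMap.ker (Q.polarBilin u) ⊓ LinearMap.ker (Q.polarBilin w)

theorem mem_pairPerp {u w x : V} : x ∈ pairPerp Q u w ↔ polar Q u x = 0 ∧ polar Q w x = 0 := by
  simp [pairPerp]

/-- A hyperbolic pair. -/
structure HypPair (u w : V) : Prop where
  qu : Q u = 0
  qw : Q w = 0
  uw : polar Q u w = 1

variable {Q}

theorem exists_hypPair (hQ : RegQ Q) {u : V} (hu : u ≠ 0) (hqu : Q u = 0) : ∃ w, HypPair Q u w := by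
  obtain ⟨w0, hw0⟩ : ∃ w0, polar Q u w0 ≠ 0 := by
    by_contra hc; push Not at hc; exact hu (hQ u hqu hc)
  let w1 := (polar Q u w0)⁻¹ • w0
  have h1 : polar Q u w1 = 1 := by
    rw [show polar Q u w1 = (polar Q u w0)⁻¹ * polar Q u w0 from polar_smul_right Q _ _ _, inv_mul_cancel₀ hw0]
  have huu : polar Q u u = 0 := by rw [polar_self, hqu]; simp
  refine ⟨w1 + (-Q w1) • u, hqu, ?_, ?_⟩
  · rw [q_add, QuadraticMap.map_smul Q (-Q w1) u, hqu, polar_smul_right, polar_comm, h1]
    simp
  · rw [polar_add_right, h1, polar_smul_right, huu]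
    simp

variable {u w : V} (h : HypPair Q u w)
include h

theorem HypPair.uu : polar Q u u = 0 := by rw [polar_self, h.qu]; simp

theorem HypPair.ww : polar Q w w = 0 := by rw [polar_self, h.qw]; simp

theorem HypPair.wu : polar Q w u = 1 := by rw [polar_comm, h.uw]

theorem HypPair.perp_part (v : V) : v - polar Q w v • u - polar Q u v • w ∈ pairPerp Q u w := by
  rw [mem_pairPerp]
  simp only [← polarBilin_apply_apply, map_sub, map_smul, smul_eq_mul]
  simp only [polarBilin_apply_apply, h.uu, h.ww, h.uw, h.wu]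
  constructor <;> ring

/-- The splitting along a hyperbolic pair. -/
def HypPair.equiv : V ≃ₗ[k] (k × k) × pairPerp Q u w where
  toFun v := ((polar Q w v, polar Q u v), ⟨_, h.perp_part v⟩)
  map_add' a b := Prod.ext (Prod.ext (polar_add_right Q _ _ _) (polar_add_right Q _ _ _))
    (Subtype.ext (by simp only [polar_add_right, Submodule.coe_add, Prod.snd_add]; module))
  map_smul' c a := Prod.ext (Prod.ext (polar_smul_right Q _ _ _) (polar_smul_right Q _ _ _))
    (Subtype.ext (by simp only [polar_smul_right, smul_eq_mul, RingHom.id_apply, Prod.smul_snd, SetLike.val_smul]; module))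
  invFun p := p.1.1 • u + p.1.2 • w + p.2.1
  left_inv v := by simp
  right_inv p := by
    obtain ⟨⟨a, b⟩, x, hx⟩ := p
    obtain ⟨hx1, hx2⟩ := (mem_pairPerp Q).1 hx
    have e1 : polar Q w (a • u + b • w + x) = a := by
      rw [polar_add_right, polar_add_right, polar_smul_right, polar_smul_right, h.wu, h.ww, hx2]; simp
    have e2 : polar Q u (a • u + b • w + x) = b := by
      rw [polar_add_right, polar_add_right, polar_smul_right, polar_smul_right, h.uu, h.uw, hx1]; simp
    refine Prod.ext (Prod.ext e1 e2) (Subtype.ext ?_)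
    show _ - polar Q w (a • u + b • w + x) • u - polar Q u (a • u + b • w + x) • w = x
    rw [e1, e2]; module

theorem HypPair.eval (a b : k) (x : pairPerp Q u w) : Q (a • u + b • w + x.1) = a * b + Q x.1 := by
  obtain ⟨hx1, hx2⟩ := (mem_pairPerp Q).1 x.2
  rw [q_add, q_add, QuadraticMap.map_smul, QuadraticMap.map_smul, h.qu, h.qw,
    polar_smul_left, polar_smul_right, polar_add_left, polar_smul_left, polar_smul_left, h.uw, hx1, hx2]
  simp

theorem HypPair.reg (hQ : RegQ Q) : RegQ (Q.comp (pairPerp Q u w).subtype) := by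
  intro x hx hall
  refine Subtype.ext (hQ x.1 hx fun v => ?_)
  obtain ⟨hx1, hx2⟩ := (mem_pairPerp Q).1 x.2
  have h3 : polar Q x.1 (v - polar Q w v • u - polar Q u v • w) = 0 := by
    simpa [polar] using hall ⟨_, h.perp_part v⟩
  simp only [← polarBilin_apply_apply, map_sub, map_smul, smul_eq_mul] at h3
  simp only [polarBilin_apply_apply, polar_comm Q x.1 u, polar_comm Q x.1 w, hx1, hx2, mul_zero, sub_zero] at h3
  exact h3

theorem HypPair.finrank_eq [Module.Finite k V] : finrank k V = finrank k (pairPerp Q u w) + 2 := by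
  rw [h.equiv.finrank_eq, finrank_prod, finrank_prod, finrank_self]; omega

theorem HypPair.ne_zero : u ≠ 0 := fun h0 => by
  have := h.uw
  rw [h0, polar_zero_left] at this
  exact zero_ne_one this

omit h in
theorem isotropic_polar {W : Submodule k V} (hW : ∀ x ∈ W, Q x = 0) {a b : V} (ha : a ∈ W) (hb : b ∈ W) :
    polar Q a b = 0 := by
  simp [polar, hW _ ha, hW _ hb, hW _ (W.add_mem ha hb)]

omit h in
theorem finrank_inf_ker_le [Module.Finite k V] (W : Submodule k V) (f : V →ₗ[k] k) :
    finrank k W ≤ finrank k (W ⊓ LinearMap.ker f : Submodule k V) + 1 := by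
  have h1 := LinearMap.finrank_range_add_finrank_ker (f.comp W.subtype)
  have h2 : finrank k (LinearMap.range (f.comp W.subtype)) ≤ 1 :=
    (Submodule.finrank_le _).trans (finrank_self k).le
  have h3 : finrank k (LinearMap.ker (f.comp W.subtype)) = finrank k (W ⊓ LinearMap.ker f : Submodule k V) := by
    rw [LinearMap.ker_comp, (Submodule.comapSubtypeEquivOfLe (inf_le_left : W ⊓ LinearMap.ker f ≤ W)).finrank_eq.symm]
    rw [Submodule.comap_inf, Submodule.comap_subtype_self, top_inf_eq]
  omega

theorem HypPair.hasIso_iff [Module.Finite k V] (m : ℕ) :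
    HasIso Q (m + 1) ↔ HasIso (Q.comp (pairPerp Q u w).subtype) m := by
  constructor
  · rintro ⟨W, hW, hq⟩
    -- first move `u` into the subspace
    obtain ⟨W₂, hu2, hW2, hq2⟩ : ∃ W₂ : Submodule k V, u ∈ W₂ ∧ m + 1 ≤ finrank k W₂ ∧ ∀ x ∈ W₂, Q x = 0 := by
      by_cases hu : u ∈ W
      · exact ⟨W, hu, hW.ge, hq⟩
      refine ⟨(W ⊓ LinearMap.ker (Q.polarBilin u)) ⊔ Submodule.span k {u},
        Submodule.mem_sup_right (Submodule.subset_span rfl), ?_, fun x hx => ?_⟩
      · have hd : Disjoint (W ⊓ LinearMap.ker (Q.polarBilin u)) (Submodule.span k {u}) := by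
          rw [Submodule.disjoint_span_singleton]
          exact fun hu' => absurd hu'.1 hu
        have h4 := Submodule.finrank_sup_add_finrank_inf_eq (W ⊓ LinearMap.ker (Q.polarBilin u)) (Submodule.span k {u})
        rw [hd.eq_bot, finrank_bot, finrank_span_singleton h.ne_zero] at h4
        have := finrank_inf_ker_le W (Q.polarBilin u)
        omega
      · obtain ⟨y, hy, z, hz, rfl⟩ := Submodule.mem_sup.1 hx
        obtain ⟨c, rfl⟩ := Submodule.mem_span_singleton.1 hz
        rw [q_add, hq y hy.1, QuadraticMap.map_smul, h.qu, polar_smul_right, polar_comm,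
          show polar Q u y = 0 from hy.2]
        simp
    let W₃ : Submodule k V := W₂ ⊓ LinearMap.ker (Q.polarBilin w)
    have hle : W₃ ≤ pairPerp Q u w := fun x hx =>
      ⟨LinearMap.mem_ker.2 (isotropic_polar hq2 hu2 hx.1), hx.2⟩
    refine hasIso_of_le _ (W₃.comap (pairPerp Q u w).subtype) ?_ fun x hx => hq2 x.1 hx.1
    rw [(Submodule.comapSubtypeEquivOfLe hle).finrank_eq]
    have := finrank_inf_ker_le W₂ (Q.polarBilin w)
    show m ≤ finrank k (W₂ ⊓ LinearMap.ker (Q.polarBilin w) : Submodule k V)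
    omega
  · rintro ⟨W, hW, hq⟩
    let W₁ := W.map (pairPerp Q u w).subtype
    have hd : Disjoint W₁ (Submodule.span k {u}) := by
      rw [Submodule.disjoint_span_singleton]
      rintro ⟨⟨x, hx⟩, -, hxu⟩
      exfalso
      obtain rfl : x = u := hxu
      exact one_ne_zero (h.wu.symm.trans ((mem_pairPerp Q).1 hx).2)
    refine hasIso_of_le _ (W₁ ⊔ Submodule.span k {u}) ?_ fun x hx => ?_
    · have h4 := Submodule.finrank_sup_add_finrank_inf_eq W₁ (Submodule.span k {u})
      rw [hd.eq_bot, finrank_bot, finrank_span_singleton h.ne_zero,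
        (Submodule.equivMapOfInjective _ Subtype.val_injective W).finrank_eq.symm, hW] at h4
      omega
    · obtain ⟨y, ⟨y', hy', rfl⟩, z, hz, rfl⟩ := Submodule.mem_sup.1 hx
      obtain ⟨c, rfl⟩ := Submodule.mem_span_singleton.1 hz
      have hqy : Q y'.1 = 0 := hq y' hy'
      rw [q_add, Submodule.subtype_apply, hqy, QuadraticMap.map_smul, h.qu, polar_smul_right,
        polar_comm, ((mem_pairPerp Q).1 y'.2).1]
      simp

end Split

section Count

variable [Fintype k]

local notation "qq" => Fintype.card k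

theorem card_mul_eq (c : k) [Decidable (c = 0)] :
    Nat.card {p : k × k // p.1 * p.2 = c} + 1 = qq + if c = 0 then qq else 0 := by
  classical
  rw [Nat.card_congr (Equiv.subtypeProdEquivSigmaSubtype fun a b : k => a * b = c), Nat.card_sigma,
    Finset.sum_eq_add_sum_sdiff_singleton_of_mem (Finset.mem_univ (0 : k))]
  have h1 : Nat.card {b : k // (0 : k) * b = c} = if c = 0 then qq else 0 := by
    split_ifs with hc
    · rw [Nat.card_congr (Equiv.subtypeUnivEquiv fun b => by rw [hc, zero_mul]), Nat.card_eq_fintype_card]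
    · have : IsEmpty {b : k // (0 : k) * b = c} := ⟨fun b => hc (by rw [← b.2, zero_mul])⟩
      exact Nat.card_of_isEmpty
  have h2 : ∀ a ∈ Finset.univ \ {(0 : k)}, Nat.card {b : k // a * b = c} = 1 := fun a ha => by
    have ha' : a ≠ 0 := by simpa using ha
    have : Unique {b : k // a * b = c} :=
      ⟨⟨⟨a⁻¹ * c, mul_inv_cancel_left₀ ha' c⟩⟩, fun b => Subtype.ext (by
        show b.1 = a⁻¹ * c
        obtain ⟨b, rfl⟩ := b
        exact (inv_mul_cancel_left₀ ha' b).symm)⟩
    exact Nat.card_unique
  rw [Finset.sum_congr rfl h2, Finset.sum_const, smul_eq_mul, mul_one, h1,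
    Finset.card_sdiff_of_subset (Finset.subset_univ _), Finset.card_singleton, Finset.card_univ]
  have := Fintype.card_pos (α := k)
  omega

variable {V : Type u} [AddCommGroup V] [Module k V] {Q : QuadraticForm k V}

theorem HypPair.card_zeros [Module.Finite k V] {u w : V} (h : HypPair Q u w) :
    Nat.card {v : V // Q v = 0} + qq ^ finrank k (pairPerp Q u w) =
      qq * qq ^ finrank k (pairPerp Q u w) + qq * Nat.card {x : pairPerp Q u w // Q x.1 = 0} := by
  classical
  have : Finite V := Module.finite_of_finite k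
  have : Fintype (pairPerp Q u w) := Fintype.ofFinite _
  have e1 : {v : V // Q v = 0} ≃ Σ x : pairPerp Q u w, {p : k × k // p.1 * p.2 = -Q x.1} :=
    (h.equiv.toEquiv.subtypeEquiv (q := fun p => p.1.1 * p.1.2 = -Q p.2.1) fun v => by
      have hv : (h.equiv v).1.1 • u + (h.equiv v).1.2 • w + (h.equiv v).2.1 = v := h.equiv.left_inv v
      conv_lhs => rw [← hv, h.eval]
      exact eq_neg_iff_add_eq_zero.symm).trans
    { toFun := fun p => ⟨p.1.2, p.1.1, p.2⟩
      invFun := fun s => ⟨(s.2.1, s.1), s.2.2⟩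
      left_inv := fun p => rfl
      right_inv := fun s => rfl }
  have hpow : qq ^ finrank k (pairPerp Q u w) = ∑ _x : pairPerp Q u w, 1 := by
    rw [Finset.sum_const, smul_eq_mul, mul_one, Finset.card_univ, Module.card_eq_pow_finrank (K := k) (V := pairPerp Q u w)]
  have hz : Nat.card {x : pairPerp Q u w // Q x.1 = 0} = ∑ x : pairPerp Q u w, if Q x.1 = 0 then 1 else 0 := by
    rw [Nat.card_eq_fintype_card, Fintype.card_subtype, Finset.sum_boole, Nat.cast_id]
  rw [Nat.card_congr e1, Nat.card_sigma, hpow, hz, ← Finset.sum_add_distrib,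
    Finset.sum_congr rfl (fun x _ => card_mul_eq (-Q x.1)), Finset.sum_add_distrib, Finset.mul_sum, Finset.mul_sum]
  simp only [mul_one, neg_eq_zero, mul_ite, mul_zero]

theorem exists_isotropic [Module.Finite k V] (Q : QuadraticForm k V) (hN : 3 ≤ finrank k V) :
    ∃ u, u ≠ 0 ∧ Q u = 0 := by
  classical
  let b := Module.finBasis k V
  let B := QuadraticMap.toBilin Q b
  have hB : B.toQuadraticMap = Q := QuadraticMap.toQuadraticMap_toBilin Q b
  let f : MvPolynomial (Fin (finrank k V)) k :=
    ∑ i, ∑ j, MvPolynomial.C (B (b i) (b j)) * MvPolynomial.X i * MvPolynomial.X j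
  have hf : ∀ x, MvPolynomial.eval x f = Q (∑ i, x i • b i) := fun x => by
    rw [← hB, LinearMap.BilinMap.toQuadraticMap_apply]
    simp only [f, map_sum, map_smul, LinearMap.sum_apply, LinearMap.smul_apply, smul_eq_mul, Finset.mul_sum,
      map_mul, MvPolynomial.eval_C, MvPolynomial.eval_X]
    rw [Finset.sum_comm]
    exact Finset.sum_congr rfl fun i _ => Finset.sum_congr rfl fun j _ => by ring
  have hhom : MvPolynomial.IsHomogeneous f 2 := MvPolynomial.IsHomogeneous.sum _ _ _ fun i _ =>
    MvPolynomial.IsHomogeneous.sum _ _ _ fun j _ =>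
      (((MvPolynomial.isHomogeneous_C _ _).mul (MvPolynomial.isHomogeneous_X _ i)).mul
        (MvPolynomial.isHomogeneous_X _ j))
  obtain ⟨p, hp⟩ := CharP.exists k
  have hprime : p.Prime := CharP.char_is_prime k p
  have hdvd := char_dvd_card_solutions p (f := f)
    (lt_of_le_of_lt hhom.totalDegree_le (by rw [Fintype.card_fin]; omega))
  by_contra hc
  push Not at hc
  have : Unique {x : Fin (finrank k V) → k // MvPolynomial.eval x f = 0} :=
    ⟨⟨⟨0, by rw [hf]; simp⟩⟩, fun x => Subtype.ext (funext fun i => by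
      by_contra hi
      refine hc _ (fun h0 => hi ?_) ((hf x.1).symm.trans x.2)
      exact Fintype.linearIndependent_iff.1 b.linearIndependent _ h0 i)⟩
  rw [Fintype.card_unique] at hdvd
  exact hprime.one_lt.not_ge (Nat.le_of_dvd one_pos hdvd)

theorem card_zeros_regQ (N : ℕ) : ∀ (V : Type u) [AddCommGroup V] [Module k V] [Module.Finite k V]
    (Q : QuadraticForm k V), RegQ Q → finrank k V = N →
    (Odd N → (qq : ℤ) * Nat.card {v : V // Q v = 0} = (qq : ℤ) ^ N) ∧
    (∀ m, N = 2 * m → ∃ ε : ℤ, (ε = 1 ∨ ε = -1) ∧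
      (qq : ℤ) * Nat.card {v : V // Q v = 0} = (qq : ℤ) ^ N + ε * ((qq : ℤ) - 1) * (qq : ℤ) ^ m ∧
      (ε = 1 ↔ HasIso Q m)) := by
  induction N using Nat.strong_induction_on with
  | _ N IH =>
    intro V _ _ _ Q hQ hN
    by_cases hiso : ∃ u, u ≠ 0 ∧ Q u = 0
    · obtain ⟨u, hu, hqu⟩ := hiso
      obtain ⟨w, hp⟩ := exists_hypPair hQ hu hqu
      have hfr := hp.finrank_eq
      set P := pairPerp Q u w with hP
      have hZ : (Nat.card {v : V // Q v = 0} : ℤ) + (qq : ℤ) ^ finrank k P =
          (qq : ℤ) * (qq : ℤ) ^ finrank k P + (qq : ℤ) * Nat.card {x : P // Q x.1 = 0} := by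
        exact_mod_cast hp.card_zeros
      obtain ⟨ho, he⟩ := IH (finrank k P) (by omega) P (Q.comp P.subtype) (hp.reg hQ) rfl
      have e2 : N = finrank k P + 2 := by omega
      constructor
      · intro hodd
        have := ho (by obtain ⟨c, hc⟩ := hodd; exact ⟨c - 1, by omega⟩)
        rw [e2, pow_add]
        simp only [QuadraticMap.comp_apply, Submodule.subtype_apply] at this
        linear_combination (qq : ℤ) * hZ + (qq : ℤ) * this
      · intro m hm
        obtain ⟨m', rfl⟩ : ∃ m', m = m' + 1 := ⟨m - 1, by omega⟩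
        obtain ⟨ε, hε, hcard, hiff⟩ := he m' (by omega)
        refine ⟨ε, hε, ?_, hiff.trans (hp.hasIso_iff m').symm⟩
        rw [e2, pow_add, pow_succ (qq : ℤ) m']
        simp only [QuadraticMap.comp_apply, Submodule.subtype_apply] at hcard
        linear_combination (qq : ℤ) * hZ + (qq : ℤ) * hcard
    · have hN2 : N ≤ 2 := by
        by_contra hc
        exact hiso (exists_isotropic Q (by omega))
      push Not at hiso
      have : Unique {v : V // Q v = 0} :=
        ⟨⟨⟨0, map_zero Q⟩⟩, fun v => Subtype.ext (by by_contra hv; exact hiso _ hv v.2)⟩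
      rw [Nat.card_unique, Nat.cast_one, mul_one]
      refine ⟨fun hodd => ?_, fun m hm => ?_⟩
      · obtain rfl : N = 1 := by obtain ⟨c, hc⟩ := hodd; omega
        rw [pow_one]
      · obtain rfl | rfl : m = 0 ∨ m = 1 := by omega
        · subst hm
          exact ⟨1, .inl rfl, by ring, iff_of_true rfl (hasIso_zero Q)⟩
        · subst hm
          refine ⟨-1, .inr rfl, by ring, iff_of_false (by norm_num) ?_⟩
          rintro ⟨W, hW, hq⟩
          obtain ⟨x, hx, hx0⟩ := W.exists_mem_ne_zero_of_ne_bot fun hb => by rw [hb, finrank_bot] at hW; omega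
          exact hiso x hx0 (hq x hx)

end Count

end Groth.Agent.An92.Lef
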