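import Groth.Agent.An92.Lef.QuadForm
import Groth.Prelude.Def_SgaExt
import Mathlib.Data.Finite.Card

/-! Rational points of a hypersurface. -/

universe u

open CategoryTheory CategoryTheory.Limits AlgebraicGeometry Opposite TopologicalSpace

noncomputable section

set_option backward.isDefEq.respectTransparency false

namespace Groth.Agent.An92.Lef

open LefPen Groth.Agent.Var76 Groth.Agent.Var76.BertiniScheme

variable {k : Type u} [Field k] {m d : ℕ}

local notation "ℙ" => CohB1.ProjSpace m k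
local notation "𝟙ℙ" => 𝟙 (CohB1.ProjSpace m k)

/-- A normalised zero of a form: the first nonzero coordinate, in place `j`, is one. -/
abbrev NormZero (G : Form m k d) (j : Fin (m + 1)) : Type u :=
  {v : Fin (m + 1) → k // v j = 1 ∧ (∀ i < j, v i = 0) ∧ MvPolynomial.eval v G.1 = 0}

theorem hypIdeal_piece (G : Form m k d) (j : Fin (m + 1)) :
    (hypIdeal G).ideal ⟨piece 𝟙ℙ j, isAffineOpen_piece 𝟙ℙ j⟩ = Ideal.span {pform 𝟙ℙ j G} := by
  have hI : hypIdeal G = secIdeal 𝟙ℙ ({G} : Set (Form m k d)) := by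
    simp [secIdeal, Scheme.IdealSheafData.comap_id]
  rw [hI, secIdeal_piece, Set.image_singleton]

/-- The rational point given by a character of a chart. -/
def chartPt (j : Fin (m + 1)) (χ : Γ(ℙ, piece 𝟙ℙ j) →+* k) : Spec (CommRingCat.of k) ⟶ ℙ :=
  Spec.map (CommRingCat.ofHom χ) ≫ (isAffineOpen_piece 𝟙ℙ j).fromSpec

/-- The point of the field. -/
def kpt (k : Type u) [Field k] : Spec (CommRingCat.of k) :=
  (⟨⊥, Ideal.isPrime_bot⟩ : PrimeSpectrum k)

theorem chartPt_mem_piece (j l : Fin (m + 1)) (χ : Γ(ℙ, piece 𝟙ℙ j) →+* k) :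
    (chartPt j χ) (kpt k) ∈ piece 𝟙ℙ l ↔ χ (pcoord 𝟙ℙ j l) ≠ 0 := by
  have hj : (chartPt j χ) (kpt k) ∈ piece 𝟙ℙ j := by
    have : (chartPt j χ) (kpt k) ∈ Set.range (isAffineOpen_piece 𝟙ℙ j).fromSpec :=
      ⟨Spec.map (CommRingCat.ofHom χ) (kpt k), rfl⟩
    rwa [IsAffineOpen.range_fromSpec] at this
  have hb : (chartPt j χ) (kpt k) ∈ (CohB1.ProjSpace m k).basicOpen (pcoord 𝟙ℙ j l) ↔ χ (pcoord 𝟙ℙ j l) ≠ 0 := by
    show Spec.map (CommRingCat.ofHom χ) (kpt k) ∈ (isAffineOpen_piece 𝟙ℙ j).fromSpec ⁻¹ᵁ (CohB1.ProjSpace m k).basicOpen (pcoord 𝟙ℙ j l) ↔ _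
    rw [IsAffineOpen.fromSpec_preimage_basicOpen]
    show χ (pcoord 𝟙ℙ j l) ∉ (⊥ : Ideal k) ↔ _
    rw [Ideal.mem_bot]
  rw [← hb, basicOpen_pcoord]
  exact ⟨fun h => ⟨hj, h⟩, fun h => h.2⟩

theorem fromSpec_toSpec (j : Fin (m + 1)) :
    (isAffineOpen_piece 𝟙ℙ j).fromSpec ≫ CohB1.ProjSpace.toSpec m k =
      Spec.map (CommRingCat.ofHom (algebraMap k Γ(ℙ, piece 𝟙ℙ j))) := by
  letI := overOf 𝟙ℙ
  rw [show algebraMap k Γ(ℙ, piece 𝟙ℙ j) = const (k := k) ℙ (piece 𝟙ℙ j) from rfl,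
    SpecMap_const (isAffineOpen_piece 𝟙ℙ j)]
  show _ = _ ≫ 𝟙 _ ≫ _
  rw [Category.id_comp]

theorem chartPt_toSpec (j : Fin (m + 1)) (χ : Γ(ℙ, piece 𝟙ℙ j) →ₐ[k] k) :
    chartPt j χ.toRingHom ≫ CohB1.ProjSpace.toSpec m k = Spec.map (CommRingCat.ofHom (algebraMap k k)) := by
  rw [chartPt, Category.assoc, fromSpec_toSpec, ← Spec.map_comp, ← CommRingCat.ofHom_comp]
  exact congrArg (fun f => Spec.map (CommRingCat.ofHom f)) χ.comp_algebraMap

/-- The point on the hypersurface given by a character killing its equation. -/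
def hypPt (G : Form m k d) (j : Fin (m + 1)) (χ : Γ(ℙ, piece 𝟙ℙ j) →+* k) (h : χ (pform 𝟙ℙ j G) = 0) :
    Spec (CommRingCat.of k) ⟶ (hypIdeal G).subscheme :=
  Spec.map (CommRingCat.ofHom (Ideal.Quotient.lift ((hypIdeal G).ideal ⟨piece 𝟙ℙ j, isAffineOpen_piece 𝟙ℙ j⟩) χ
    fun a ha => by
      rw [hypIdeal_piece, Ideal.mem_span_singleton'] at ha
      obtain ⟨c, rfl⟩ := ha
      rw [map_mul, h, mul_zero])) ≫ (hypIdeal G).subschemeCover.f ⟨piece 𝟙ℙ j, isAffineOpen_piece 𝟙ℙ j⟩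

theorem hypPt_ι (G : Form m k d) (j : Fin (m + 1)) (χ : Γ(ℙ, piece 𝟙ℙ j) →+* k) (h : χ (pform 𝟙ℙ j G) = 0) :
    hypPt G j χ h ≫ (hypIdeal G).subschemeι = chartPt j χ := by
  rw [hypPt, Category.assoc, Scheme.IdealSheafData.subschemeCover_map_subschemeι,
    Scheme.IdealSheafData.glueDataObjι_ι, ← Spec.map_comp_assoc, ← CommRingCat.ofHom_comp, Ideal.Quotient.lift_comp_mk]
  rfl

theorem algHom_pform_eq (j : Fin (m + 1)) (χ : Γ(ℙ, piece 𝟙ℙ j) →ₐ[k] k) (G : Form m k d) :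
    χ (pform 𝟙ℙ j G) = MvPolynomial.eval (fun l => χ (pcoord 𝟙ℙ j l)) G.1 := by
  rw [pform_eq_aeval, MvPolynomial.comp_aeval_apply, MvPolynomial.aeval_eq_eval]

theorem exists_chartPt (G : Form m k d) (g : Spec (CommRingCat.of k) ⟶ (hypIdeal G).subscheme) (j : Fin (m + 1))
    (hj : (g ≫ (hypIdeal G).subschemeι) (kpt k) ∈ piece 𝟙ℙ j) :
    ∃ χ₀ : Γ(ℙ, piece 𝟙ℙ j) →+* k, g ≫ (hypIdeal G).subschemeι = chartPt j χ₀ ∧ χ₀ (pform 𝟙ℙ j G) = 0 := by
  let U : (CohB1.ProjSpace m k).affineOpens := ⟨piece 𝟙ℙ j, isAffineOpen_piece 𝟙ℙ j⟩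
  have : IsOpenImmersion ((hypIdeal G).subschemeCover.f U) := (hypIdeal G).subschemeCover.openCover.map_prop U
  have hrange : Set.range g ⊆ Set.range ((hypIdeal G).subschemeCover.f U) := by
    rintro _ ⟨x, rfl⟩
    have hsub : Subsingleton (PrimeSpectrum k) := inferInstance
    rw [show x = kpt k from hsub.allEq _ _]
    show g (kpt k) ∈ ((hypIdeal G).subschemeCover.f U).opensRange
    rw [Scheme.IdealSheafData.opensRange_subschemeCover_map]
    exact hj
  obtain ⟨φ, hφ⟩ := Spec.map_surjective (IsOpenImmersion.lift ((hypIdeal G).subschemeCover.f U) g hrange)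
  have h2 : g = Spec.map φ ≫ (hypIdeal G).subschemeCover.f U := by
    rw [hφ]; exact (IsOpenImmersion.lift_fac _ g hrange).symm
  refine ⟨φ.hom.comp (Ideal.Quotient.mk ((hypIdeal G).ideal U)), ?_, ?_⟩
  · rw [h2, Category.assoc, Scheme.IdealSheafData.subschemeCover_map_subschemeι,
      Scheme.IdealSheafData.glueDataObjι_ι, ← Spec.map_comp_assoc]
    rfl
  · show φ.hom (Ideal.Quotient.mk ((hypIdeal G).ideal U) (pform 𝟙ℙ j G)) = 0
    have hz : Ideal.Quotient.mk ((hypIdeal G).ideal U) (pform 𝟙ℙ j G) = 0 :=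
      Ideal.Quotient.eq_zero_iff_mem.2 (by rw [hypIdeal_piece]; exact Ideal.subset_span rfl)
    exact (congrArg φ.hom hz).trans (map_zero φ.hom)

theorem hcst_of_over (j : Fin (m + 1)) (χ₀ : Γ(ℙ, piece 𝟙ℙ j) →+* k)
    (h : chartPt j χ₀ ≫ CohB1.ProjSpace.toSpec m k = Spec.map (CommRingCat.ofHom (algebraMap k k))) (a : k) :
    χ₀ (algebraMap k _ a) = a := by
  rw [chartPt, Category.assoc, fromSpec_toSpec, ← Spec.map_comp, ← CommRingCat.ofHom_comp] at h
  exact congr($(Spec.map_injective h).hom a)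

/-- Rational points of a hypersurface correspond to normalised zeros. -/
theorem pointCount_hyp (G : Form m k d) :
    SgaExt.pointCount ((hypIdeal G).subschemeι ≫ CohB1.ProjSpace.toSpec m k) k =
      Nat.card (Σ j, NormZero G j) := by
  classical
  have hex : ∀ (j : Fin (m + 1)) (v : NormZero G j), ∃ χ : Γ(ℙ, piece 𝟙ℙ j) →ₐ[k] k,
      χ (pform 𝟙ℙ j G) = 0 ∧ ∀ l, χ (pcoord 𝟙ℙ j l) = v.1 l := fun j v => by
    obtain ⟨χ, hχ⟩ := exists_chartHom (k := k) (m := m) (B := k) j v.1 (by rw [v.2.1]; exact isUnit_one)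
    have hc : ∀ l, χ (pcoord 𝟙ℙ j l) = v.1 l := fun l => by
      have := hχ (⟨MvPolynomial.X l, LefPen.X_mem m k l⟩ : Form m k 1)
      simpa [pform_X, v.2.1] using this
    refine ⟨χ, ?_, hc⟩
    rw [algHom_pform_eq, funext hc]
    exact v.2.2.2
  choose χ hχ0 hχc using hex
  have hover : ∀ j v, hypPt G j (χ j v).toRingHom (hχ0 j v) ≫ (hypIdeal G).subschemeι ≫ CohB1.ProjSpace.toSpec m k =
      Spec.map (CommRingCat.ofHom (algebraMap k k)) := fun j v => by
    rw [← Category.assoc, hypPt_ι, chartPt_toSpec]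
  have hmem : ∀ j v l, chartPt j (χ j v).toRingHom (kpt k) ∈ piece 𝟙ℙ l ↔ v.1 l ≠ 0 := fun j v l => by
    rw [chartPt_mem_piece, show (χ j v).toRingHom (pcoord 𝟙ℙ j l) = v.1 l from hχc j v l]
  refine (Nat.card_eq_of_bijective (fun s : Σ j, NormZero G j =>
    (⟨hypPt G s.1 (χ s.1 s.2).toRingHom (hχ0 s.1 s.2), hover s.1 s.2⟩ : {g : Spec (CommRingCat.of k) ⟶ _ //
      g ≫ (hypIdeal G).subschemeι ≫ CohB1.ProjSpace.toSpec m k = Spec.map (CommRingCat.ofHom (algebraMap k k))})) ⟨?_, ?_⟩).symm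
  · rintro ⟨j, v⟩ ⟨j', v'⟩ h
    have h1 : chartPt j (χ j v).toRingHom = chartPt j' (χ j' v').toRingHom := by
      rw [← hypPt_ι G j _ (hχ0 j v), ← hypPt_ι G j' _ (hχ0 j' v')]
      exact congrArg (· ≫ (hypIdeal G).subschemeι) (Subtype.ext_iff.1 h)
    have hjj : j = j' := by
      have a1 := (hmem j' v' j).1 (h1 ▸ (hmem j v j).2 (by rw [v.2.1]; exact one_ne_zero))
      have a2 := (hmem j v j').1 (h1.symm ▸ (hmem j' v' j').2 (by rw [v'.2.1]; exact one_ne_zero))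
      exact le_antisymm (not_lt.1 fun hlt => a2 (v.2.2.1 _ hlt)) (not_lt.1 fun hlt => a1 (v'.2.2.1 _ hlt))
    subst hjj
    have h2 := Spec.map_injective ((cancel_mono _).1 h1)
    refine congrArg (Sigma.mk j) (Subtype.ext (funext fun l => ?_))
    rw [← hχc j v l, ← hχc j v' l]
    exact ConcreteCategory.congr_hom h2 (pcoord 𝟙ℙ j l)
  · rintro ⟨g, hg⟩
    let y := (g ≫ (hypIdeal G).subschemeι) (kpt k)
    have hne : (Finset.univ.filter fun j => y ∈ piece 𝟙ℙ j).Nonempty := by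
      obtain ⟨j, hj⟩ := Opens.mem_iSup.1 ((iSup_piece 𝟙ℙ).ge (trivial : y ∈ (⊤ : (CohB1.ProjSpace m k).Opens)))
      exact ⟨j, Finset.mem_filter.2 ⟨Finset.mem_univ _, hj⟩⟩
    obtain ⟨j, hj, hmin⟩ : ∃ j, y ∈ piece 𝟙ℙ j ∧ ∀ i < j, y ∉ piece 𝟙ℙ i :=
      ⟨_, (Finset.mem_filter.1 (Finset.min'_mem _ hne)).2, fun i hi h =>
        hi.not_ge (Finset.min'_le _ i (Finset.mem_filter.2 ⟨Finset.mem_univ _, h⟩))⟩
    obtain ⟨χ₀, hgι, hχG⟩ := exists_chartPt G g j hj
    have hcst : ∀ a, χ₀ (algebraMap k _ a) = a := hcst_of_over j χ₀ (by rw [← hgι, Category.assoc]; exact hg)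
    let χ₁ : Γ(ℙ, piece 𝟙ℙ j) →ₐ[k] k := AlgHom.mk χ₀ hcst
    let v : Fin (m + 1) → k := fun l => χ₁ (pcoord 𝟙ℙ j l)
    have hv : v j = 1 ∧ (∀ i < j, v i = 0) ∧ MvPolynomial.eval v G.1 = 0 := by
      refine ⟨by simp only [v, pcoord_self, map_one], fun i hi => ?_, ?_⟩
      · by_contra hne'
        refine hmin i hi ?_
        show (g ≫ (hypIdeal G).subschemeι) (kpt k) ∈ _
        rw [hgι]
        exact (chartPt_mem_piece j i χ₀).2 hne'
      · rw [← algHom_pform_eq]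
        exact hχG
    refine ⟨⟨j, v, hv⟩, Subtype.ext ((cancel_mono (hypIdeal G).subschemeι).1 ?_)⟩
    show hypPt G j (χ j ⟨v, hv⟩).toRingHom (hχ0 j ⟨v, hv⟩) ≫ _ = _
    rw [hypPt_ι, hgι]
    have : χ j ⟨v, hv⟩ = χ₁ := AlgHom.ext_of_adjoin_eq_top (adjoin_pcoord 𝟙ℙ j) fun z hz => by
      obtain ⟨l, rfl⟩ := hz
      exact hχc j ⟨v, hv⟩ l
    rw [this]

/-- Nonzero zeros are the multiples of the normalised ones. -/
theorem card_zeros_eq [Fintype k] (G : Form m k d) (hd : d ≠ 0) :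
    Nat.card {v : Fin (m + 1) → k // MvPolynomial.eval v G.1 = 0} + Nat.card (Σ j, NormZero G j) =
      Fintype.card k * Nat.card (Σ j, NormZero G j) + 1 := by
  classical
  have hhom : MvPolynomial.IsHomogeneous G.1 d := G.2
  have hscale : ∀ (c : k) (v : Fin (m + 1) → k),
      MvPolynomial.eval (c • v) G.1 = c ^ d * MvPolynomial.eval v G.1 := fun c v => by
    rw [MvPolynomial.eval_eq, MvPolynomial.eval_eq, Finset.mul_sum]
    refine Finset.sum_congr rfl fun e he => ?_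
    have he' : ∑ i ∈ e.support, e i = d := by
      rw [← Finsupp.degree_apply]
      by_contra hne
      exact MvPolynomial.mem_support_iff.1 he (hhom.coeff_eq_zero hne)
    simp only [Pi.smul_apply, smul_eq_mul, mul_pow, Finset.prod_mul_distrib, Finset.prod_pow_eq_pow_sum, he']
    ring
  have h0 : MvPolynomial.eval (0 : Fin (m + 1) → k) G.1 = 0 := by
    simpa [zero_pow hd] using hscale 0 0
  let f : Option (kˣ × Σ j, NormZero G j) → {v : Fin (m + 1) → k // MvPolynomial.eval v G.1 = 0} := fun o =>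
    o.elim ⟨0, h0⟩ fun p => ⟨(p.1 : k) • p.2.2.1, by rw [hscale, p.2.2.2.2.2, mul_zero]⟩
  have hfirst : ∀ (c : kˣ) (j : Fin (m + 1)) (v : NormZero G j),
      ((c : k) • v.1) j = c ∧ ∀ i < j, ((c : k) • v.1) i = 0 := fun c j v =>
    ⟨by simp [v.2.1], fun i hi => by simp [v.2.2.1 i hi]⟩
  have hf : Function.Bijective f := by
    refine ⟨?_, fun v => ?_⟩
    · rintro (_ | ⟨c, j, v⟩) (_ | ⟨c', j', v'⟩) h <;> have h' := Subtype.ext_iff.1 h
      · rfl
      · exact absurd ((congrFun h' j').trans (hfirst c' j' v').1).symm c'.ne_zero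
      · exact absurd ((hfirst c j v).1.symm.trans (congrFun h' j)) c.ne_zero
      · simp only [f, Option.elim] at h'
        have hjj : j = j' := by
          refine le_antisymm (not_lt.1 fun hlt => ?_) (not_lt.1 fun hlt => ?_)
          · exact c'.ne_zero ((hfirst c' j' v').1.symm.trans ((congrFun h' j').symm.trans ((hfirst c j v).2 _ hlt)))
          · exact c.ne_zero ((hfirst c j v).1.symm.trans ((congrFun h' j).trans ((hfirst c' j' v').2 _ hlt)))
        subst hjj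
        have hc : c = c' := Units.ext ((hfirst c j v).1.symm.trans ((congrFun h' j).trans (hfirst c' j v').1))
        subst hc
        have : v = v' := Subtype.ext (funext fun i => by
          simpa [c.ne_zero] using congrFun h' i)
        subst this
        rfl
    · by_cases hv : v.1 = 0
      · exact ⟨none, Subtype.ext hv.symm⟩
      have hne : (Finset.univ.filter fun j => v.1 j ≠ 0).Nonempty := by
        obtain ⟨j, hj⟩ := Function.ne_iff.1 hv
        exact ⟨j, Finset.mem_filter.2 ⟨Finset.mem_univ _, hj⟩⟩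
      obtain ⟨j, hj, hmin⟩ : ∃ j, v.1 j ≠ 0 ∧ ∀ i < j, v.1 i = 0 :=
        ⟨_, (Finset.mem_filter.1 (Finset.min'_mem _ hne)).2, fun i hi => by
          by_contra h
          exact hi.not_ge (Finset.min'_le _ i (Finset.mem_filter.2 ⟨Finset.mem_univ _, h⟩))⟩
      refine ⟨some (Units.mk0 _ hj, ⟨j, (v.1 j)⁻¹ • v.1, by simp [hj],
        fun i hi => by simp [hmin i hi], by rw [hscale, v.2, mul_zero]⟩), Subtype.ext ?_⟩
      show v.1 j • (v.1 j)⁻¹ • v.1 = v.1
      rw [smul_smul, mul_inv_cancel₀ hj, one_smul]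
  rw [← Nat.card_eq_of_bijective f hf, Finite.card_option, Nat.card_prod, Nat.card_units, Nat.card_eq_fintype_card (α := k)]
  obtain ⟨q, hq⟩ : ∃ q, Fintype.card k = q + 1 := ⟨Fintype.card k - 1, by have := Fintype.card_pos (α := k); omega⟩
  rw [hq]
  simp only [Nat.add_sub_cancel]
  ring

end Groth.Agent.An92.Lef
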