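import Groth.Agent.An92.Lef.AlgCrit
import Groth.Agent.An92.Lef.Coord
import Mathlib.AlgebraicGeometry.Morphisms.Smooth

/-! Transversality of a hypersurface section, chart by chart. -/

universe u

open CategoryTheory CategoryTheory.Limits AlgebraicGeometry Opposite TopologicalSpace

noncomputable section

set_option backward.isDefEq.respectTransparency false

namespace Groth.Agent.An92.Lef

open LefPen Groth.Agent.Var76 Groth.Agent.Var76.BertiniScheme

theorem iff_forall_piece {k : Type u} [Field k] {X : Scheme.{u}} [X.Over (Spec (CommRingCat.of k))]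
    (I : X.IdealSheafData) {ι : Type} (W : ι → X.affineOpens) (hW : (⨆ j, (W j).1) = ⊤) (m : ℕ) :
    SmoothOfRelativeDimension m (I.subschemeι ≫ X ↘ Spec (CommRingCat.of k)) ↔
      ∀ j, RingHom.Locally (RingHom.IsStandardSmoothOfRelativeDimension m)
        ((Ideal.Quotient.mk (I.ideal (W j))).comp (const (k := k) X (W j).1)) := by
  have : IsZariskiLocalAtSource (@SmoothOfRelativeDimension m) :=
    HasRingHomProperty.instIsZariskiLocalAtSource
      (Q := RingHom.Locally (RingHom.IsStandardSmoothOfRelativeDimension m))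
  rw [IsZariskiLocalAtSource.iff_of_iSup_eq_top (P := @SmoothOfRelativeDimension m)
    (fun j => I.subschemeι ⁻¹ᵁ (W j).1) (by
      rw [eq_top_iff]
      intro z _
      obtain ⟨j, hj⟩ := Opens.mem_iSup.1 (hW.ge (trivial : I.subschemeι z ∈ (⊤ : X.Opens)))
      exact Opens.mem_iSup.2 ⟨j, hj⟩)]
  refine forall_congr' fun j => ?_
  have : IsOpenImmersion (I.subschemeCover.f (W j)) := I.subschemeCover.openCover.map_prop (W j)
  rw [← I.opensRange_subschemeCover_map (W j), ← MorphismProperty.cancel_left_of_respectsIso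
    (@SmoothOfRelativeDimension m) (I.subschemeCover.f (W j)).isoOpensRange.hom,
    Scheme.Hom.isoOpensRange_hom_ι_assoc, reassoc_of% (I.subschemeCover_map_subschemeι (W j))]
  refine Iff.trans ?_ (HasRingHomProperty.Spec_iff (P := @SmoothOfRelativeDimension m)
    (φ := CommRingCat.ofHom ((Ideal.Quotient.mk (I.ideal (W j))).comp (const (k := k) X (W j).1))))
  refine Iff.of_eq (congrArg (SmoothOfRelativeDimension m) ?_)
  rw [CommRingCat.ofHom_comp, Spec.map_comp, SpecMap_const (W j).2]
  exact ((Category.assoc _ _ _).symm.trans (congrArg (· ≫ X ↘ Spec (CommRingCat.of k)) (I.glueDataObjι_ι (W j)))).trans (Category.assoc _ _ _)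

variable {k : Type u} [Field k] {r : ℕ} {X : Scheme.{u}} (i : X ⟶ CohB1.ProjSpace r k)

theorem locally_piece [IsAffineHom i] {n : ℕ} [SmoothOfRelativeDimension n (i ≫ CohB1.ProjSpace.toSpec r k)]
    (j : Fin (r + 1)) :
    RingHom.Locally (RingHom.IsStandardSmoothOfRelativeDimension n) (pconst i j) := by
  letI := overOf i
  have hW := isAffineOpen_piece i j
  have : IsZariskiLocalAtSource (@SmoothOfRelativeDimension n) :=
    HasRingHomProperty.instIsZariskiLocalAtSource
      (Q := RingHom.Locally (RingHom.IsStandardSmoothOfRelativeDimension n))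
  have : IsOpenImmersion hW.fromSpec := IsAffineOpen.isOpenImmersion_fromSpec hW
  have h1 : SmoothOfRelativeDimension n (hW.fromSpec ≫ (X ↘ Spec (CommRingCat.of k))) :=
    IsZariskiLocalAtSource.comp (P := @SmoothOfRelativeDimension n) ‹_› hW.fromSpec
  rw [← SpecMap_const hW, HasRingHomProperty.Spec_iff (P := @SmoothOfRelativeDimension n)] at h1
  exact h1

/-- Transversality on the charts. -/
theorem transversal_iff [IsAlgClosed k] [IsClosedImmersion i] {n : ℕ} (hn : 1 ≤ n)
    [SmoothOfRelativeDimension n (i ≫ CohB1.ProjSpace.toSpec r k)] {d : ℕ} (H : Form r k d) :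
    Transversal k n 1 (secToSpec i ({H} : Set (Form r k d))) ↔
      ∀ (j : Fin (r + 1)) (M : Ideal Γ(X, piece i j)), M.IsMaximal →
        pform i j H ∈ M → pform i j H ∉ M ^ 2 := by
  letI := overOf i
  rw [Transversal, or_iff_left (fun h => by omega), and_iff_right hn]
  rw [show secToSpec i ({H} : Set (Form r k d)) = (secIdeal i ({H} : Set (Form r k d))).subschemeι ≫
    X ↘ Spec (CommRingCat.of k) from rfl,
    iff_forall_piece _ (fun j => ⟨piece i j, isAffineOpen_piece i j⟩) (iSup_piece i)]
  refine forall_congr' fun j => ?_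
  letI := (pconst i j).toAlgebra
  rw [← locally_quotient_iff hn (k := k) (A := Γ(X, piece i j)) (by
    rw [RingHom.algebraMap_toAlgebra]; exact locally_piece i j)]
  have h := secIdeal_piece i ({H} : Set (Form r k d)) j
  rw [Set.image_singleton] at h
  rw [h]
  rfl

end Groth.Agent.An92.Lef
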