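import Groth.Agent.An92.Lef.QuadForm
import Groth.Agent.An92.Lef.Transversal
import Groth.Agent.Grass5.Apps
import Mathlib.RingTheory.Smooth.StandardSmoothCotangent

/-! A smooth quadric over any field has an ordinary equation. -/

universe u

open CategoryTheory CategoryTheory.Limits AlgebraicGeometry Opposite TopologicalSpace

noncomputable section

set_option backward.isDefEq.respectTransparency false

namespace Groth.Agent.An92.Lef

open LefPen Groth.Agent.Var76 Groth.Agent.Var76.BertiniScheme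

variable {k : Type u} [Field k] {m d : ℕ}

local notation "ℙ" => CohB1.ProjSpace m k
local notation "𝟙ℙ" => 𝟙 (CohB1.ProjSpace m k)

theorem pform_ne_zero_quad (j : Fin (m + 1)) (G : Form m k d) (hG : G.1 ≠ 0) : pform 𝟙ℙ j G ≠ 0 := fun hz => hG (by
  let f : MvPolynomial (Fin (m + 1)) k := MvPolynomial.X j
  let iso := Proj.basicOpenIsoAway (CohB1.polyGrading m k) f (ProjCoord.X₁ k m j).2 one_pos
  have h1 : iso.inv.hom (dehom G j) = HomogeneousLocalization.Away.mk (CohB1.polyGrading m k) (LefPen.X_mem m k j) d G.1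
      (by rw [smul_eq_mul, mul_one]; exact G.2) := by
    rw [dehom]
    exact ConcreteCategory.congr_hom iso.hom_inv_id _
  rw [show dehom G j = 0 from hz, map_zero] at h1
  have h2 := congrArg HomogeneousLocalization.val h1
  rw [HomogeneousLocalization.val_zero, HomogeneousLocalization.Away.val_mk, Localization.mk_eq_mk', eq_comm,
    IsLocalization.mk'_eq_zero_iff] at h2
  obtain ⟨⟨_, e, rfl⟩, he⟩ := h2
  exact (mul_eq_zero.1 he).resolve_left (pow_ne_zero e (MvPolynomial.X_ne_zero j)))

/-- A chart of projective space is affine space. -/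
theorem exists_chart_equiv {n : ℕ} :
    Nonempty (MvPolynomial (Fin n) k ≃ₐ[k] Γ(CohB1.ProjSpace n k, piece (𝟙 (CohB1.ProjSpace n k)) 0)) := by
  obtain ⟨χ, hχ⟩ := exists_chartHom (k := k) (m := n) (B := MvPolynomial (Fin n) k) 0 (Fin.cons 1 MvPolynomial.X)
    (by rw [Fin.cons_zero]; exact isUnit_one)
  have hc : ∀ l, χ (pcoord (𝟙 (CohB1.ProjSpace n k)) 0 l) =
      (Fin.cons 1 MvPolynomial.X : Fin (n + 1) → MvPolynomial (Fin n) k) l := fun l => by
    have := hχ (⟨MvPolynomial.X l, LefPen.X_mem n k l⟩ : Form n k 1)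
    simpa [pform_X, Fin.cons_zero] using this
  let ψ : MvPolynomial (Fin n) k →ₐ[k] Γ(CohB1.ProjSpace n k, piece (𝟙 (CohB1.ProjSpace n k)) 0) :=
    MvPolynomial.aeval fun i => pcoord _ 0 i.succ
  have h1 : χ.comp ψ = AlgHom.id k _ := MvPolynomial.algHom_ext fun i => by
    show χ (ψ (MvPolynomial.X i)) = _
    rw [show ψ (MvPolynomial.X i) = _ from MvPolynomial.aeval_X _ i, hc, Fin.cons_succ]; rfl
  have h2 : Function.Surjective ψ := by
    have hle : Algebra.adjoin k (Set.range (pcoord (𝟙 (CohB1.ProjSpace n k)) 0)) ≤ ψ.range := by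
      rw [Algebra.adjoin_le_iff]
      rintro _ ⟨l, rfl⟩
      rcases Fin.eq_zero_or_eq_succ l with rfl | ⟨i, rfl⟩
      · exact ⟨1, (map_one ψ).trans (pcoord_self _ 0).symm⟩
      · exact ⟨MvPolynomial.X i, MvPolynomial.aeval_X _ i⟩
    have hr : ψ.range = ⊤ := top_le_iff.1 ((adjoin_pcoord _ 0).ge.trans hle)
    exact fun a => (hr.ge (Algebra.mem_top (x := a)) : a ∈ ψ.range)
  exact ⟨AlgEquiv.ofBijective ψ ⟨Function.LeftInverse.injective (g := χ) (AlgHom.congr_fun h1), h2⟩⟩

/-- The equation of a hypersurface of the right dimension is nonzero. -/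
theorem form_ne_zero {n : ℕ} (G : Form (n + 1) k d)
    [SmoothOfRelativeDimension n ((hypIdeal G).subschemeι ≫ CohB1.ProjSpace.toSpec (n + 1) k)] : G.1 ≠ 0 := by
  intro h0
  let i := 𝟙 (CohB1.ProjSpace (n + 1) k)
  letI := overOf i
  have hI : hypIdeal G = secIdeal i ({G} : Set (Form (n + 1) k d)) := by
    simp [secIdeal, i, Scheme.IdealSheafData.comap_id]
  have hs : SmoothOfRelativeDimension n ((secIdeal i ({G} : Set (Form (n + 1) k d))).subschemeι ≫
      (CohB1.ProjSpace (n + 1) k) ↘ Spec (CommRingCat.of k)) := by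
    rw [← hI]
    show SmoothOfRelativeDimension n ((hypIdeal G).subschemeι ≫ 𝟙 _ ≫ CohB1.ProjSpace.toSpec (n + 1) k)
    rw [Category.id_comp]; assumption
  have hL := (iff_forall_piece _ (fun j => ⟨piece i j, isAffineOpen_piece i j⟩) (iSup_piece i) n).1 hs 0
  have hb : (secIdeal i ({G} : Set (Form (n + 1) k d))).ideal ⟨piece i 0, isAffineOpen_piece i 0⟩ = ⊥ := by
    rw [secIdeal_piece, Set.image_singleton, pform_eq_aeval, h0, map_zero, Ideal.span_singleton_zero]
  obtain ⟨e⟩ := exists_chart_equiv (k := k) (n := n + 1)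
  let e' : (Γ(CohB1.ProjSpace (n + 1) k, piece i 0) ⧸
      (secIdeal i ({G} : Set (Form (n + 1) k d))).ideal ⟨piece i 0, isAffineOpen_piece i 0⟩) ≃+*
      MvPolynomial (Fin (n + 1)) k :=
    ((Ideal.quotEquivOfEq hb).trans (RingEquiv.quotientBot _)).trans e.symm.toRingEquiv
  have hL' : RingHom.Locally (RingHom.IsStandardSmoothOfRelativeDimension n)
      (algebraMap k (MvPolynomial (Fin (n + 1)) k)) := by
    have := (RingHom.locally_respectsIso RingHom.isStandardSmoothOfRelativeDimension_respectsIso).1 _ e' hL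
    convert this using 1
    refine RingHom.ext fun c => ?_
    exact (e.symm.commutes c).symm
  obtain ⟨s, hs1, hs2⟩ := hL'
  obtain ⟨t, ht, ht0⟩ : ∃ t ∈ s, t ≠ 0 := by
    by_contra hc
    push Not at hc
    have hle : Ideal.span s ≤ ⊥ := Ideal.span_le.2 fun x hx => hc x hx
    rw [hs1] at hle
    exact bot_ne_top (le_bot_iff.1 hle).symm
  let P := Localization.Away t
  have : Nontrivial P := (IsLocalization.injective P (powers_le_nonZeroDivisors_of_noZeroDivisors ht0)).nontrivial
  have h3 : Algebra.IsStandardSmoothOfRelativeDimension n k P := by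
    have := hs2 t ht
    rw [← IsScalarTower.algebraMap_eq] at this
    exact (RingHom.isStandardSmoothOfRelativeDimension_algebraMap n).1 this
  have := Grass5.isStandardSmooth_mvPolynomial k (Fin (n + 1))
  have := Algebra.IsStandardSmoothOfRelativeDimension.localization_away (R := MvPolynomial (Fin (n + 1)) k) (S := P) t
  have h4 : Algebra.IsStandardSmoothOfRelativeDimension (0 + Nat.card (Fin (n + 1))) k P :=
    Nat.add_comm (Nat.card (Fin (n + 1))) 0 ▸
      Algebra.IsStandardSmoothOfRelativeDimension.trans (Nat.card (Fin (n + 1))) 0 k (MvPolynomial (Fin (n + 1)) k) P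
  have r1 := Algebra.IsStandardSmoothOfRelativeDimension.rank_kaehlerDifferential (R := k) (S := P) n
  have r2 := Algebra.IsStandardSmoothOfRelativeDimension.rank_kaehlerDifferential (R := k) (S := P) (0 + Nat.card (Fin (n + 1)))
  rw [r1, Nat.card_fin, Nat.cast_inj] at r2
  omega

/-- The equation of a smooth quadric has no singular zero over the ground field. -/
theorem quadOrd_of_smooth (G : Form m k 2) (hG : G.1 ≠ 0)
    [Smooth ((hypIdeal G).subschemeι ≫ CohB1.ProjSpace.toSpec m k)] : VanCyc.QuadOrd (formTable G) := by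
  intro v hv1 hv2
  by_contra hne
  obtain ⟨j, hj⟩ := Function.ne_iff.1 hne
  obtain ⟨χ, hχ⟩ := exists_chartHom (k := k) (m := m) (B := k) j (fun t => v t / v j) (by simp [div_self (show v j ≠ 0 from hj)])
  have hc : ∀ t, χ (pcoord 𝟙ℙ j t) = v t / v j := fun t => by
    have := hχ (⟨MvPolynomial.X t, LefPen.X_mem m k t⟩ : Form m k 1)
    simpa [pform_X, div_self (show v j ≠ 0 from hj)] using this
  have hbad : Bad 𝟙ℙ j χ G := by
    have hsc : (fun t => χ (pcoord 𝟙ℙ j t)) = (v j)⁻¹ • v := funext fun t => by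
      rw [hc, Pi.smul_apply, smul_eq_mul, div_eq_inv_mul]
    refine bad_of_critical 𝟙ℙ j χ G ?_ ?_
    · rw [hsc]
      have : VanCyc.quadEval (formTable G) ((v j)⁻¹ • v) = ((v j)⁻¹) ^ 2 * VanCyc.quadEval (formTable G) v := by
        unfold VanCyc.quadEval
        rw [Finset.mul_sum]
        refine Finset.sum_congr rfl fun a _ => ?_
        rw [Finset.mul_sum]
        refine Finset.sum_congr rfl fun b _ => ?_
        split_ifs <;> simp; ring
      rw [this, hv1, mul_zero]
    · rw [hsc, Matrix.mulVec_smul, hv2, smul_zero]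
  have := (smooth_iff_pieces G).1 ‹_› j
  have := smooth_chart (k := k) (m := m) j
  have : IsDomain Γ(CohB1.ProjSpace m k, piece 𝟙ℙ j) := isDomain_chart j
  have : IsNoetherianRing Γ(CohB1.ProjSpace m k, piece 𝟙ℙ j) := Algebra.FiniteType.isNoetherianRing k _
  have : Algebra.FormallySmooth k (Γ(CohB1.ProjSpace m k, piece 𝟙ℙ j) ⧸ Ideal.span {pform 𝟙ℙ j G}) :=
    Algebra.Smooth.formallySmooth
  exact formallySmooth_not_mem_sq χ (pform 𝟙ℙ j G) (pform_ne_zero_quad j G hG) hbad.eval_eq_zero hbad

end Groth.Agent.An92.Lef
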